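import Cfsg.Agent.Lib.Helper26.C1M.Front

set_option autoImplicit false
set_option maxRecDepth 1000000

/-!
# Project C1M: the conjugating element c1m2h6 for the prime 2 (generated)
-/

namespace Cfsg.Agent.Lib.Helper26.C1M

open Cfsg Cfsg.Agent.Lib.Lead.CW Cfsg.Agent.Lib.helper3 Cfsg.Agent.Lib.Helper26.Co1O

/-- the packed matrix -/
def c1m2h6 : ℕ := 0x7be2f7c5f18bded8bdef8b5f36b6318b6718ce2f7c62f7c6317be319bdf39bdaf9c5f18bdf18cdef8c5ef8b6318b5ed8be2f7c5af7c6317be317ce6f7bdb37c5f18bded6bdef6c5ef8c6317be2f7c5f16bdf16bdf38c5ef8b62d7bdaf7c6718bdf18bdf38c5f38c5b17be2f7b5f18be716cdef8c5f38c6317be2f7c5f18cdf18be6f8c56f8c6318c5f16bdaf7c5b37c6317be317bdf37be337c6716bdf18cdef8c5ef6c6317ce2f9c5f16bdf18bdef6c5f38c6318c5f18cdb37c62f7c6319be317cdef7ce2f7c5ed8bded8cdf38c5ef8c6316c5f18be2f7c5af7c62d9be319bdef8c6718be339c5af7c6317ce317bdef7be2f7c5f18adf18be6f8c66f8c6317be2f9c5ed8bdf16bdef8c5ef6c5b19ce2f7c6718bdf16bdef8b5ef8c6318c5ed6ce2f7c62f7c62d7ce317bdef6c5f18ce2f9c6337c6317be317be6f9be337c5ed8bdf18bdef8c5f38c62d7be2f7c5f18cdf18bd6f8c66f8c6317be2f7c5f18bdf18cdef6b5ef8c5ad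

/-- the packed transposed matrix -/
def c1m2h6t : ℕ := 0x7c6717bdef7c5ef8bdb17be716cdef7b5ed7bdef7c5f38ce317be718bdef8cdaf6c5b18be317c5f38c62f7c6317c5ed9bdef7c66f8be317bded8cdef7c6717bdef7b5f38be317cded8bdef8ce2f8c62d8be319c5ef8c6339c6317c5f17be6f7b66f6be317be718bdef8be2f8c6318be319b5f38b62f7b6318be2f8b6318bdad7c5f38c62f9c6317c5f17bdef9c5ef8be315bdf18be6f7c5ed7bdf37b5ef8bdad7bdf18bdef6be2f6c6318ce317b5ef8c62f9c6318be2f6b62d8be317c5ef8b5af7c6317c6717bdf37c66f8ce317bdf18bdf37c5f17bdef9c5ef8be319bdf18bd6f7c5f17ce6f7c5ef8cdb17bded8bdef8be2f6c6318be2d9c66f8c62f7c62d6be2f8c6318be317c5f38c5b37c62d7c5f17bdef5c5ef8be319bdf18be6f9c5f17be737c5f38be317bdf18cdef6ce2f8c6318bdb17c66f8b62f7c6316bdb38b6318be319c5ef8c62f7c6318be338c5b18be317c5ef8b62f9c62d8ce2f8b6318ce317c5ef8c62f7b62d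

/-- the rows of the matrix -/
def c1m2h6Z : List (List ℤ) :=
  [[.negSucc 2, .negSucc 2, .ofNat 1, .ofNat 1, .negSucc 0, .negSucc 0, .negSucc 2, .negSucc 2, .negSucc 0, .negSucc 0, .ofNat 3, .ofNat 1, .ofNat 1, .negSucc 0, .negSucc 0, .ofNat 1, .ofNat 1, .negSucc 0, .ofNat 1, .negSucc 0, .negSucc 0, .ofNat 1, .negSucc 0, .negSucc 0],
  [.ofNat 1, .ofNat 1, .ofNat 1, .ofNat 1, .negSucc 0, .ofNat 3, .ofNat 1, .ofNat 1, .negSucc 0, .negSucc 4, .negSucc 0, .ofNat 1, .ofNat 1, .negSucc 0, .ofNat 3, .ofNat 1, .ofNat 1, .negSucc 0, .ofNat 1, .negSucc 0, .negSucc 0, .ofNat 1, .negSucc 0, .negSucc 0],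
  [.negSucc 2, .ofNat 1, .ofNat 1, .ofNat 1, .ofNat 3, .negSucc 0, .ofNat 1, .ofNat 1, .negSucc 0, .negSucc 0, .negSucc 0, .ofNat 1, .ofNat 1, .negSucc 0, .negSucc 0, .ofNat 1, .negSucc 2, .negSucc 0, .ofNat 1, .negSucc 0, .ofNat 3, .ofNat 1, .negSucc 0, .ofNat 3],
  [.negSucc 0, .ofNat 3, .negSucc 0, .negSucc 0, .ofNat 1, .ofNat 1, .negSucc 0, .negSucc 0, .ofNat 1, .ofNat 1, .ofNat 1, .negSucc 0, .ofNat 3, .ofNat 1, .ofNat 1, .ofNat 3, .negSucc 0, .ofNat 1, .ofNat 3, .ofNat 1, .ofNat 1, .negSucc 0, .ofNat 1, .negSucc 2],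
  [.negSucc 0, .negSucc 0, .negSucc 0, .negSucc 0, .ofNat 1, .ofNat 1, .ofNat 3, .negSucc 0, .negSucc 2, .ofNat 1, .ofNat 1, .negSucc 0, .negSucc 0, .ofNat 1, .ofNat 1, .negSucc 0, .negSucc 0, .ofNat 1, .ofNat 3, .negSucc 2, .negSucc 2, .negSucc 0, .ofNat 1, .ofNat 1],
  [.ofNat 1, .ofNat 1, .ofNat 1, .ofNat 1, .negSucc 0, .negSucc 0, .negSucc 2, .ofNat 1, .negSucc 0, .negSucc 0, .negSucc 0, .negSucc 2, .ofNat 1, .negSucc 0, .negSucc 0, .ofNat 1, .ofNat 1, .ofNat 3, .ofNat 1, .negSucc 0, .negSucc 0, .ofNat 1, .ofNat 3, .ofNat 3],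
  [.ofNat 1, .negSucc 2, .ofNat 1, .negSucc 2, .negSucc 0, .negSucc 0, .ofNat 1, .ofNat 1, .negSucc 0, .negSucc 0, .negSucc 0, .negSucc 2, .ofNat 1, .negSucc 0, .negSucc 0, .ofNat 1, .negSucc 2, .negSucc 0, .ofNat 1, .ofNat 3, .negSucc 0, .ofNat 1, .negSucc 0, .negSucc 0],
  [.ofNat 1, .ofNat 1, .ofNat 1, .ofNat 1, .negSucc 0, .ofNat 3, .ofNat 1, .ofNat 1, .negSucc 0, .ofNat 3, .negSucc 0, .ofNat 1, .ofNat 1, .negSucc 0, .negSucc 4, .ofNat 1, .ofNat 1, .negSucc 0, .ofNat 1, .negSucc 0, .negSucc 0, .ofNat 1, .negSucc 0, .negSucc 0],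
  [.negSucc 0, .negSucc 0, .negSucc 0, .negSucc 0, .ofNat 1, .ofNat 1, .ofNat 3, .negSucc 0, .ofNat 1, .ofNat 1, .ofNat 1, .negSucc 0, .negSucc 0, .negSucc 2, .ofNat 1, .ofNat 3, .ofNat 3, .ofNat 1, .negSucc 0, .ofNat 1, .ofNat 1, .ofNat 3, .ofNat 1, .ofNat 1],
  [.negSucc 0, .negSucc 0, .negSucc 0, .ofNat 3, .ofNat 1, .ofNat 1, .negSucc 0, .ofNat 3, .negSucc 2, .ofNat 1, .ofNat 1, .negSucc 0, .negSucc 0, .negSucc 2, .ofNat 1, .negSucc 0, .negSucc 0, .ofNat 1, .negSucc 0, .ofNat 1, .ofNat 1, .negSucc 0, .ofNat 1, .negSucc 2],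
  [.ofNat 1, .ofNat 1, .ofNat 1, .ofNat 1, .negSucc 0, .negSucc 0, .ofNat 1, .ofNat 1, .ofNat 3, .negSucc 0, .ofNat 3, .ofNat 1, .negSucc 2, .negSucc 0, .negSucc 0, .ofNat 1, .negSucc 2, .negSucc 0, .ofNat 1, .negSucc 0, .negSucc 0, .ofNat 1, .ofNat 3, .negSucc 0],
  [.negSucc 0, .negSucc 0, .ofNat 3, .negSucc 0, .ofNat 1, .ofNat 1, .negSucc 0, .ofNat 3, .ofNat 1, .ofNat 1, .ofNat 1, .negSucc 0, .negSucc 0, .ofNat 1, .ofNat 1, .negSucc 0, .ofNat 3, .negSucc 2, .ofNat 3, .ofNat 1, .ofNat 1, .negSucc 0, .ofNat 1, .ofNat 1],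
  [.ofNat 1, .ofNat 1, .ofNat 1, .ofNat 1, .ofNat 3, .negSucc 0, .ofNat 1, .negSucc 2, .negSucc 0, .negSucc 0, .negSucc 0, .ofNat 1, .ofNat 1, .negSucc 0, .negSucc 0, .negSucc 2, .ofNat 1, .negSucc 0, .ofNat 1, .ofNat 3, .negSucc 0, .ofNat 1, .ofNat 3, .negSucc 0],
  [.ofNat 1, .ofNat 1, .ofNat 1, .negSucc 2, .negSucc 0, .negSucc 0, .ofNat 1, .ofNat 1, .negSucc 0, .negSucc 0, .ofNat 3, .ofNat 1, .ofNat 1, .negSucc 0, .negSucc 0, .negSucc 2, .ofNat 1, .ofNat 3, .ofNat 1, .negSucc 0, .ofNat 3, .ofNat 1, .negSucc 0, .negSucc 0],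
  [.ofNat 3, .negSucc 0, .negSucc 0, .negSucc 0, .ofNat 1, .ofNat 1, .negSucc 0, .negSucc 0, .ofNat 1, .ofNat 1, .ofNat 1, .negSucc 0, .ofNat 3, .negSucc 2, .ofNat 1, .negSucc 0, .negSucc 0, .negSucc 2, .negSucc 0, .negSucc 2, .ofNat 1, .negSucc 0, .ofNat 1, .ofNat 1],
  [.ofNat 1, .ofNat 1, .ofNat 1, .ofNat 1, .negSucc 0, .negSucc 4, .ofNat 1, .ofNat 1, .negSucc 0, .ofNat 3, .negSucc 0, .ofNat 1, .ofNat 1, .negSucc 0, .ofNat 3, .ofNat 1, .ofNat 1, .negSucc 0, .ofNat 1, .negSucc 0, .negSucc 0, .ofNat 1, .negSucc 0, .negSucc 0],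
  [.ofNat 1, .ofNat 1, .ofNat 1, .ofNat 1, .ofNat 3, .negSucc 0, .ofNat 1, .ofNat 1, .negSucc 0, .negSucc 0, .ofNat 3, .negSucc 2, .ofNat 1, .ofNat 3, .negSucc 0, .ofNat 1, .ofNat 1, .negSucc 0, .negSucc 2, .negSucc 0, .negSucc 0, .ofNat 1, .negSucc 0, .negSucc 0],
  [.ofNat 1, .negSucc 2, .ofNat 1, .ofNat 1, .ofNat 3, .negSucc 0, .ofNat 1, .ofNat 1, .ofNat 3, .negSucc 0, .negSucc 0, .ofNat 1, .ofNat 1, .negSucc 0, .negSucc 0, .ofNat 1, .ofNat 1, .ofNat 3, .ofNat 1, .negSucc 0, .negSucc 0, .negSucc 2, .negSucc 0, .negSucc 0],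
  [.negSucc 2, .ofNat 1, .negSucc 2, .ofNat 1, .negSucc 0, .negSucc 0, .ofNat 1, .ofNat 1, .ofNat 3, .negSucc 0, .negSucc 0, .negSucc 2, .ofNat 1, .negSucc 0, .negSucc 0, .negSucc 2, .ofNat 1, .negSucc 0, .ofNat 1, .negSucc 0, .negSucc 0, .ofNat 1, .negSucc 0, .negSucc 0],
  [.ofNat 1, .ofNat 1, .ofNat 1, .ofNat 1, .negSucc 0, .negSucc 0, .ofNat 1, .negSucc 2, .negSucc 0, .negSucc 0, .negSucc 0, .negSucc 2, .negSucc 2, .negSucc 0, .negSucc 0, .ofNat 1, .ofNat 1, .negSucc 0, .ofNat 1, .negSucc 0, .ofNat 3, .negSucc 2, .negSucc 0, .negSucc 0],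
  [.negSucc 0, .ofNat 3, .ofNat 3, .negSucc 0, .ofNat 1, .ofNat 1, .negSucc 0, .negSucc 0, .ofNat 1, .ofNat 1, .ofNat 1, .negSucc 0, .negSucc 0, .negSucc 2, .ofNat 1, .negSucc 0, .negSucc 0, .ofNat 1, .negSucc 0, .ofNat 1, .negSucc 2, .negSucc 0, .negSucc 2, .ofNat 1],
  [.ofNat 1, .ofNat 1, .negSucc 2, .ofNat 1, .negSucc 0, .negSucc 0, .ofNat 1, .ofNat 1, .negSucc 0, .negSucc 0, .ofNat 3, .ofNat 1, .ofNat 1, .negSucc 0, .negSucc 0, .ofNat 1, .ofNat 1, .negSucc 0, .ofNat 1, .ofNat 3, .negSucc 0, .negSucc 2, .negSucc 0, .ofNat 3],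
  [.ofNat 3, .negSucc 0, .negSucc 0, .ofNat 3, .ofNat 1, .ofNat 1, .negSucc 0, .negSucc 0, .ofNat 1, .ofNat 1, .ofNat 1, .negSucc 0, .negSucc 0, .ofNat 1, .ofNat 1, .negSucc 0, .negSucc 0, .ofNat 1, .ofNat 3, .ofNat 1, .ofNat 1, .ofNat 3, .negSucc 2, .ofNat 1],
  [.ofNat 1, .ofNat 1, .negSucc 2, .negSucc 2, .ofNat 3, .negSucc 0, .negSucc 2, .ofNat 1, .negSucc 0, .negSucc 0, .negSucc 0, .ofNat 1, .negSucc 2, .negSucc 0, .negSucc 0, .ofNat 1, .ofNat 1, .negSucc 0, .ofNat 1, .negSucc 0, .negSucc 0, .ofNat 1, .negSucc 0, .negSucc 0]]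

theorem c1m2h6_tr : ∀ q p : GolayPt, mfun c1m2h6t q p = mfun c1m2h6 p q := by decide +kernel

theorem c1m2h6_lat : GamChk (mfun c1m2h6) := by decide +kernel

theorem c1m2h6_latT : GamChk (mfun c1m2h6t) := by decide +kernel

theorem c1m2h6_orth : LOrth (mfun c1m2h6) := by decide +kernel

theorem c1m2h6_orthT : LOrth (mfun c1m2h6t) := by decide +kernel

theorem c1m2h6_ok : MatOk c1m2h6 c1m2h6t := ⟨c1m2h6_tr, c1m2h6_lat, c1m2h6_latT, c1m2h6_orth, c1m2h6_orthT⟩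

theorem c1m2h6_rows : c1m2h6Z = rowsL c1m2h6 := by decide +kernel

/-- the element of `Co0` -/
def c1m2h6E : ↥Co0 := matEN c1m2h6 c1m2h6t c1m2h6_ok

theorem c1m2h6_rep : RepZ c1m2h6Z c1m2h6E := RepZ.of_mat (matEN_rep _ _ _) c1m2h6_rows

end Cfsg.Agent.Lib.Helper26.C1M
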