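import Cfsg.Agent.Lib.Helper26.C1M.Front

set_option autoImplicit false
set_option maxRecDepth 1000000

/-!
# Project C1M: the polycyclic generator c1m3g0 of the Sylow 3-subgroup (generated)
-/

namespace Cfsg.Agent.Lib.Helper26.C1M

open Cfsg Cfsg.Agent.Lib.Lead.CW Cfsg.Agent.Lib.helper3 Cfsg.Agent.Lib.Helper26.Co1O

/-- the packed matrix -/
def c1m3g0 : ℕ := 0x7c5f17ce318be316cdef7be317c5b38be2f6b5ef7b66f7c6318c5ef8cdf16be338c5f37c66f7c6318c5ef8be717c5f17be2d8ce2d8bdef9be317c6337c66d7ce318be2d8bdef7ce317c62f7c5f17be31abe318bdef7bdb19c62f9c6717be318ce316bdef7be2d7c62f7c5ed9be318be316bdf39be317c62f8be2f8c5ef7c66f7b6316b5f38bdf18ce2f8c5ef7b5ef7c62d8b5ef8be718be2f8c6737c5ef9c6318b5ef8cdf17c5f19bdb18be2d8bdef7be2d7c5af7c6717bdb18bdb18bdf37be317c6336ce2f8b66f7c5ef7c6316c5ef8bdf18ce338c5ef7c5ef7c6318c5f38cded8ce2f8c5ef7c6739c5b18c5ef8bdf17c6717be318be318be6f9be317b5af7c5ed7bdb18ce318ce6f7be317c62f6be2f6c5ef7c5ef7c5b18b5ef8bded6be2f8c5ef7c5f37b62d8c5ef8cdf18be2f8c5ef9c5ef7c6318c66fabdf18be2f8c5ef9c5ef7c6318c56f6bdf17b6719be2d8be318cdef7be317c62f7c5f17ce2d8be318be737be2d7c62f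

/-- the packed transposed matrix -/
def c1m3g0t : ℕ := 0x7c5af7be6f8c62f7b6317bdad8c5ef8bdf18c6317cdf18ce738c5ef7bdb17c62f9be6f8c62f9c6319be318c66f8be716c62d7bdf18be6f8b5ef7be317b62f7bdf38c6337c6317bdb18c66f9b62f9bdef8c62f7b6317be318c5f38bdf18c6317be6d6cdef8b5ef7be318be6d8c6317be718bdef8c5ef7bdad8bdf18d6317bdf18bdef8c5ef9ce317b6337be6f8b62f7c6317ce318c5ef8ce718c6319bdf16bdf38c5ef7be318bded6c6317bded8bdf38c5f37be316bdf18c5ad7be718bdf38c5ef7be319c62f7bdef6c62f7c6317ce2d8c66f7c62f7bdef8c62f7c62d9cdb18c5f37c62f7bdf38b62f9c6317be2d8c5f37c6337bdf36c62f7b6319be318c5ef7c62f9bdef6b5af7c6317bdb18c5ef8bdf18b6317bdf18bdef8c5ef9ae318bdf18c5b19bded8be6f8c5ef7be2d7c62f7cdef8c62f7c6317be31ab5ef8cdf18c6317be718be6f6c5f37be316be718c6317cded8bdef6c5ef7be319c6337bdef8c62f9c5b17bdb18c5ef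

/-- the rows of the matrix -/
def c1m3g0Z : List (List ℤ) :=
  [[.negSucc 0, .ofNat 1, .ofNat 1, .negSucc 0, .negSucc 2, .ofNat 1, .negSucc 0, .negSucc 0, .ofNat 3, .ofNat 3, .negSucc 0, .ofNat 1, .ofNat 1, .ofNat 1, .negSucc 0, .ofNat 1, .negSucc 2, .ofNat 1, .ofNat 3, .negSucc 0, .ofNat 1, .negSucc 0, .ofNat 1, .negSucc 0],
  [.negSucc 0, .ofNat 1, .ofNat 1, .negSucc 0, .ofNat 1, .ofNat 1, .negSucc 0, .negSucc 0, .negSucc 0, .negSucc 0, .ofNat 3, .ofNat 1, .ofNat 1, .ofNat 1, .negSucc 0, .ofNat 1, .negSucc 2, .ofNat 1, .negSucc 0, .ofNat 3, .ofNat 1, .ofNat 3, .negSucc 2, .negSucc 0],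
  [.ofNat 1, .negSucc 0, .negSucc 0, .negSucc 2, .negSucc 0, .negSucc 4, .ofNat 1, .ofNat 1, .ofNat 1, .ofNat 1, .ofNat 1, .negSucc 0, .negSucc 0, .negSucc 0, .ofNat 1, .ofNat 3, .negSucc 0, .negSucc 0, .ofNat 1, .ofNat 1, .negSucc 0, .ofNat 1, .negSucc 0, .ofNat 1],
  [.ofNat 1, .negSucc 0, .negSucc 0, .ofNat 5, .negSucc 0, .ofNat 3, .ofNat 1, .ofNat 1, .ofNat 1, .ofNat 1, .ofNat 1, .negSucc 0, .negSucc 0, .negSucc 0, .ofNat 1, .ofNat 3, .negSucc 0, .negSucc 0, .ofNat 1, .ofNat 1, .negSucc 0, .ofNat 1, .negSucc 0, .ofNat 1],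
  [.ofNat 1, .negSucc 0, .ofNat 3, .ofNat 1, .negSucc 0, .negSucc 0, .ofNat 1, .ofNat 1, .negSucc 2, .ofNat 1, .negSucc 2, .negSucc 0, .ofNat 3, .negSucc 0, .ofNat 1, .negSucc 0, .negSucc 0, .negSucc 0, .ofNat 1, .ofNat 1, .negSucc 0, .ofNat 1, .negSucc 0, .negSucc 2],
  [.negSucc 2, .negSucc 0, .negSucc 0, .ofNat 1, .negSucc 0, .negSucc 0, .negSucc 2, .ofNat 1, .ofNat 1, .negSucc 2, .ofNat 1, .negSucc 0, .negSucc 0, .negSucc 0, .ofNat 1, .negSucc 0, .negSucc 0, .negSucc 0, .ofNat 1, .negSucc 2, .negSucc 0, .ofNat 1, .negSucc 0, .negSucc 2],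
  [.negSucc 0, .ofNat 1, .ofNat 1, .negSucc 0, .ofNat 1, .ofNat 1, .negSucc 0, .negSucc 0, .negSucc 0, .ofNat 3, .ofNat 3, .ofNat 1, .ofNat 1, .ofNat 1, .ofNat 3, .ofNat 1, .ofNat 1, .negSucc 2, .negSucc 0, .negSucc 0, .negSucc 2, .negSucc 0, .ofNat 1, .negSucc 0],
  [.negSucc 0, .negSucc 2, .negSucc 2, .negSucc 0, .ofNat 1, .ofNat 1, .negSucc 0, .ofNat 3, .negSucc 0, .ofNat 3, .negSucc 0, .ofNat 1, .ofNat 1, .ofNat 1, .negSucc 0, .ofNat 1, .ofNat 1, .ofNat 1, .negSucc 0, .negSucc 0, .ofNat 1, .ofNat 3, .ofNat 1, .negSucc 0],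
  [.ofNat 1, .negSucc 0, .negSucc 0, .ofNat 1, .negSucc 0, .negSucc 0, .ofNat 1, .ofNat 1, .ofNat 1, .negSucc 2, .ofNat 1, .ofNat 3, .ofNat 3, .ofNat 3, .ofNat 1, .negSucc 0, .negSucc 0, .negSucc 0, .ofNat 1, .ofNat 1, .negSucc 0, .ofNat 1, .ofNat 3, .ofNat 1],
  [.negSucc 2, .negSucc 0, .ofNat 3, .ofNat 1, .ofNat 3, .negSucc 0, .ofNat 1, .ofNat 1, .ofNat 1, .ofNat 1, .ofNat 1, .negSucc 0, .negSucc 0, .negSucc 0, .ofNat 1, .negSucc 0, .negSucc 0, .negSucc 0, .ofNat 1, .ofNat 1, .ofNat 3, .ofNat 1, .ofNat 3, .ofNat 1],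
  [.ofNat 1, .negSucc 0, .negSucc 0, .ofNat 1, .negSucc 0, .negSucc 0, .ofNat 1, .negSucc 2, .ofNat 1, .ofNat 1, .ofNat 1, .negSucc 0, .negSucc 0, .negSucc 0, .ofNat 1, .negSucc 0, .negSucc 0, .ofNat 3, .negSucc 2, .ofNat 1, .negSucc 0, .ofNat 1, .ofNat 3, .negSucc 2],
  [.ofNat 3, .ofNat 1, .ofNat 1, .negSucc 0, .ofNat 1, .ofNat 1, .negSucc 0, .negSucc 0, .ofNat 3, .negSucc 0, .negSucc 0, .ofNat 1, .ofNat 1, .negSucc 2, .negSucc 0, .ofNat 1, .ofNat 1, .negSucc 2, .negSucc 0, .negSucc 0, .ofNat 1, .ofNat 3, .ofNat 1, .negSucc 0],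
  [.negSucc 0, .negSucc 2, .ofNat 1, .negSucc 0, .negSucc 2, .ofNat 1, .negSucc 0, .negSucc 0, .negSucc 0, .negSucc 0, .negSucc 0, .ofNat 1, .negSucc 2, .ofNat 1, .negSucc 0, .ofNat 1, .ofNat 1, .negSucc 2, .negSucc 0, .ofNat 3, .ofNat 1, .negSucc 0, .ofNat 1, .negSucc 0],
  [.ofNat 1, .negSucc 0, .ofNat 3, .ofNat 1, .negSucc 0, .negSucc 0, .negSucc 2, .ofNat 1, .ofNat 1, .ofNat 1, .ofNat 1, .ofNat 3, .negSucc 0, .negSucc 0, .ofNat 1, .negSucc 0, .ofNat 3, .ofNat 3, .ofNat 1, .ofNat 1, .negSucc 0, .ofNat 1, .negSucc 0, .ofNat 1],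
  [.ofNat 1, .ofNat 3, .negSucc 0, .ofNat 1, .negSucc 0, .negSucc 0, .negSucc 2, .ofNat 1, .negSucc 2, .ofNat 1, .ofNat 1, .negSucc 0, .negSucc 0, .negSucc 0, .negSucc 2, .negSucc 0, .negSucc 0, .negSucc 0, .ofNat 1, .ofNat 1, .negSucc 0, .ofNat 1, .ofNat 3, .ofNat 1],
  [.ofNat 1, .negSucc 0, .negSucc 0, .ofNat 1, .ofNat 3, .negSucc 0, .negSucc 2, .negSucc 2, .ofNat 1, .ofNat 1, .negSucc 2, .negSucc 0, .negSucc 0, .ofNat 3, .ofNat 1, .negSucc 0, .negSucc 0, .negSucc 0, .ofNat 1, .ofNat 1, .negSucc 0, .ofNat 1, .negSucc 0, .ofNat 1],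
  [.negSucc 0, .ofNat 1, .ofNat 1, .negSucc 0, .ofNat 1, .ofNat 1, .negSucc 0, .ofNat 3, .ofNat 3, .negSucc 0, .negSucc 0, .negSucc 2, .ofNat 1, .ofNat 1, .negSucc 0, .ofNat 1, .ofNat 1, .ofNat 1, .negSucc 0, .ofNat 3, .negSucc 2, .negSucc 0, .ofNat 1, .negSucc 0],
  [.negSucc 0, .ofNat 1, .ofNat 1, .negSucc 0, .negSucc 2, .ofNat 1, .negSucc 0, .negSucc 0, .negSucc 0, .negSucc 0, .negSucc 0, .negSucc 2, .ofNat 1, .ofNat 1, .ofNat 3, .ofNat 1, .ofNat 1, .ofNat 1, .negSucc 0, .negSucc 0, .ofNat 1, .ofNat 3, .ofNat 1, .ofNat 3],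
  [.negSucc 0, .ofNat 1, .ofNat 1, .ofNat 3, .ofNat 1, .negSucc 2, .negSucc 0, .negSucc 0, .negSucc 0, .negSucc 0, .negSucc 0, .ofNat 1, .ofNat 1, .ofNat 1, .negSucc 0, .ofNat 5, .ofNat 1, .ofNat 1, .negSucc 0, .negSucc 0, .ofNat 1, .negSucc 0, .ofNat 1, .negSucc 0],
  [.negSucc 0, .ofNat 1, .ofNat 1, .negSucc 0, .ofNat 1, .ofNat 1, .ofNat 3, .negSucc 0, .negSucc 0, .negSucc 0, .negSucc 0, .ofNat 1, .negSucc 2, .ofNat 1, .negSucc 0, .ofNat 1, .ofNat 1, .ofNat 1, .ofNat 3, .negSucc 0, .negSucc 2, .ofNat 3, .ofNat 1, .negSucc 0],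
  [.ofNat 3, .ofNat 1, .ofNat 1, .negSucc 0, .ofNat 1, .ofNat 1, .negSucc 0, .ofNat 3, .negSucc 0, .negSucc 0, .negSucc 0, .ofNat 1, .negSucc 2, .ofNat 1, .ofNat 3, .ofNat 1, .negSucc 2, .ofNat 1, .negSucc 0, .negSucc 0, .ofNat 1, .negSucc 0, .ofNat 1, .negSucc 0],
  [.ofNat 1, .ofNat 3, .negSucc 0, .ofNat 1, .negSucc 0, .negSucc 0, .ofNat 1, .ofNat 1, .ofNat 1, .ofNat 1, .ofNat 1, .negSucc 0, .negSucc 0, .ofNat 3, .ofNat 1, .negSucc 0, .ofNat 3, .negSucc 0, .ofNat 1, .ofNat 1, .ofNat 3, .ofNat 1, .negSucc 0, .negSucc 2],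
  [.ofNat 1, .negSucc 0, .ofNat 3, .ofNat 1, .negSucc 0, .negSucc 0, .ofNat 1, .ofNat 1, .ofNat 1, .ofNat 1, .ofNat 1, .negSucc 0, .negSucc 0, .ofNat 3, .negSucc 2, .negSucc 0, .negSucc 0, .negSucc 0, .negSucc 2, .negSucc 2, .negSucc 0, .ofNat 1, .negSucc 0, .ofNat 1],
  [.ofNat 3, .negSucc 2, .ofNat 1, .negSucc 0, .ofNat 1, .ofNat 1, .negSucc 0, .negSucc 0, .negSucc 0, .negSucc 0, .ofNat 3, .negSucc 2, .ofNat 1, .ofNat 1, .negSucc 0, .ofNat 1, .ofNat 1, .ofNat 1, .ofNat 3, .negSucc 0, .ofNat 1, .negSucc 0, .ofNat 1, .negSucc 0]]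

theorem c1m3g0_tr : ∀ q p : GolayPt, mfun c1m3g0t q p = mfun c1m3g0 p q := by decide +kernel

theorem c1m3g0_lat : GamChk (mfun c1m3g0) := by decide +kernel

theorem c1m3g0_latT : GamChk (mfun c1m3g0t) := by decide +kernel

theorem c1m3g0_orth : LOrth (mfun c1m3g0) := by decide +kernel

theorem c1m3g0_orthT : LOrth (mfun c1m3g0t) := by decide +kernel

theorem c1m3g0_ok : MatOk c1m3g0 c1m3g0t := ⟨c1m3g0_tr, c1m3g0_lat, c1m3g0_latT, c1m3g0_orth, c1m3g0_orthT⟩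

theorem c1m3g0_rows : c1m3g0Z = rowsL c1m3g0 := by decide +kernel

/-- the element of `Co0` -/
def c1m3g0E : ↥Co0 := matEN c1m3g0 c1m3g0t c1m3g0_ok

theorem c1m3g0_rep : RepZ c1m3g0Z c1m3g0E := RepZ.of_mat (matEN_rep _ _ _) c1m3g0_rows

end Cfsg.Agent.Lib.Helper26.C1M
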