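import Cfsg.Agent.Lib.Helper26.C1M.Front

set_option autoImplicit false
set_option maxRecDepth 1000000

/-!
# Project C1M: the polycyclic generator c1m3g1 of the Sylow 3-subgroup (generated)
-/

namespace Cfsg.Agent.Lib.Helper26.C1M

open Cfsg Cfsg.Agent.Lib.Lead.CW Cfsg.Agent.Lib.helper3 Cfsg.Agent.Lib.Helper26.Co1O

/-- the packed matrix -/
def c1m3g1 : ℕ := 0x839ce849d2949d084a1094a1093a52849ce839d2739d084a1074a10949ce83a5284a52939d083a1074a10949d283a52839d294a5084a1094a10749ce74210b42108420e741d2841d284210839d284a4e73a5084a1094a1094a4e84a4e84a5293a5084a1093a10939ce74210742108420e741ca841d28421083a52839ce939d084a1073a1093a4e849d2849d294a5083a1073a1094a4e83a4e849ce74a5083a1074a10939ce742107421084216741d2841d28421074210742108420eb41d2841d28421084a4e84a4e949d084a1074a1074a4e84a52849d273a5084a1074a1073a52839ce849ce93a5084a1073a10749d283a4e849d2739d083a1093a1074a4e74210742108420e742d2841d284210839ce83a5293a5083a1074a1073a4e9421094210842129424e842568421083a4e83a5274a5084a1073a1094a529421094210842129424e8414e84210b4210742108420e741d2841d28421084a4e839ce93a5083a1094a1094a52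

/-- the packed transposed matrix -/
def c1m3g1t : ℕ := 0x842107420e8420e7421083a1284ad0749ce83a50749d084a4e741d07421273a5283a5093a5084a4e941d09421273a52849d0949d083a4e741d07420e84210b420e8420e7421083a12849d093a4e84a5074a5084a52941d07420e73a4e84a50739d0849ce742509420e94a5283a50749d083a4e942509420e93a5283a50949d0849d27425074212939d2839d074a50849ce741d09420e739d284a5074a5083a527425094212842107420e842167421083a12849d0842107420e8420eb421083a12849d0949d284a50939d084a52741d09420e842107420e8420e7421085a12849d0842109420a842129421084a0e83a50939d284a50739d0839ce941d07421294a52849d073a5084a4e7425074212842107420e8420e7421083a12829d08421094212842129421084a1683a5094a4e84a5094a50839ce741d09421274a52849d0749d0849d2941d094212939ce849d0949d084a4e942509421293a4e839d0739d083a52741d094212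

/-- the rows of the matrix -/
def c1m3g1Z : List (List ℤ) :=
  [[.ofNat 2, .ofNat 2, .ofNat 2, .ofNat 2, .ofNat 0, .ofNat 0, .ofNat 2, .ofNat 2, .ofNat 0, .ofNat 0, .negSucc 1, .ofNat 0, .ofNat 0, .ofNat 2, .negSucc 1, .ofNat 2, .negSucc 1, .negSucc 1, .negSucc 1, .ofNat 0, .negSucc 1, .ofNat 2, .ofNat 2, .ofNat 0],
  [.ofNat 0, .ofNat 0, .ofNat 0, .ofNat 0, .ofNat 2, .negSucc 1, .ofNat 0, .ofNat 0, .ofNat 2, .negSucc 1, .ofNat 0, .negSucc 1, .negSucc 1, .ofNat 0, .ofNat 0, .ofNat 0, .ofNat 0, .ofNat 0, .ofNat 0, .negSucc 1, .ofNat 0, .ofNat 0, .ofNat 0, .ofNat 6],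
  [.ofNat 0, .ofNat 0, .ofNat 0, .ofNat 0, .negSucc 1, .negSucc 5, .ofNat 0, .ofNat 0, .negSucc 1, .ofNat 2, .ofNat 0, .ofNat 2, .ofNat 2, .ofNat 0, .ofNat 0, .ofNat 0, .ofNat 0, .ofNat 0, .ofNat 0, .ofNat 2, .ofNat 0, .ofNat 0, .ofNat 0, .ofNat 2],
  [.ofNat 2, .ofNat 2, .ofNat 2, .ofNat 2, .ofNat 0, .ofNat 0, .negSucc 1, .negSucc 1, .ofNat 0, .ofNat 0, .ofNat 2, .ofNat 0, .ofNat 0, .ofNat 2, .ofNat 2, .negSucc 1, .ofNat 2, .ofNat 2, .negSucc 1, .ofNat 0, .negSucc 1, .ofNat 2, .negSucc 1, .ofNat 0],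
  [.ofNat 0, .ofNat 0, .ofNat 0, .ofNat 0, .ofNat 6, .ofNat 2, .ofNat 0, .ofNat 0, .negSucc 1, .ofNat 2, .ofNat 0, .ofNat 2, .ofNat 2, .ofNat 0, .ofNat 0, .ofNat 0, .ofNat 0, .ofNat 0, .ofNat 0, .ofNat 2, .ofNat 0, .ofNat 0, .ofNat 0, .ofNat 2],
  [.negSucc 1, .ofNat 2, .negSucc 1, .negSucc 1, .ofNat 0, .ofNat 0, .ofNat 2, .negSucc 1, .ofNat 0, .ofNat 0, .negSucc 1, .ofNat 0, .ofNat 0, .ofNat 2, .negSucc 1, .ofNat 2, .ofNat 2, .ofNat 2, .negSucc 1, .ofNat 0, .negSucc 1, .negSucc 1, .negSucc 1, .ofNat 0],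
  [.ofNat 0, .ofNat 0, .ofNat 0, .ofNat 0, .ofNat 2, .negSucc 1, .ofNat 0, .ofNat 0, .ofNat 2, .ofNat 6, .ofNat 0, .negSucc 1, .negSucc 1, .ofNat 0, .ofNat 0, .ofNat 0, .ofNat 0, .ofNat 0, .ofNat 0, .negSucc 1, .ofNat 0, .ofNat 0, .ofNat 0, .negSucc 1],
  [.negSucc 1, .ofNat 2, .ofNat 2, .negSucc 1, .ofNat 0, .ofNat 0, .negSucc 1, .ofNat 2, .ofNat 0, .ofNat 0, .negSucc 1, .ofNat 0, .ofNat 0, .negSucc 1, .negSucc 1, .negSucc 1, .ofNat 2, .negSucc 1, .ofNat 2, .ofNat 0, .negSucc 1, .ofNat 2, .negSucc 1, .ofNat 0],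
  [.ofNat 2, .negSucc 1, .ofNat 2, .negSucc 1, .ofNat 0, .ofNat 0, .negSucc 1, .negSucc 1, .ofNat 0, .ofNat 0, .ofNat 2, .ofNat 0, .ofNat 0, .ofNat 2, .negSucc 1, .ofNat 2, .negSucc 1, .negSucc 1, .ofNat 2, .ofNat 0, .negSucc 1, .negSucc 1, .negSucc 1, .ofNat 0],
  [.ofNat 2, .ofNat 2, .negSucc 1, .negSucc 1, .ofNat 0, .ofNat 0, .ofNat 2, .negSucc 1, .ofNat 0, .ofNat 0, .ofNat 2, .ofNat 0, .ofNat 0, .ofNat 2, .negSucc 1, .negSucc 1, .ofNat 2, .negSucc 1, .ofNat 2, .ofNat 0, .ofNat 2, .ofNat 2, .ofNat 2, .ofNat 0],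
  [.negSucc 1, .ofNat 2, .ofNat 2, .negSucc 1, .ofNat 0, .ofNat 0, .ofNat 2, .negSucc 1, .ofNat 0, .ofNat 0, .ofNat 2, .ofNat 0, .ofNat 0, .negSucc 1, .ofNat 2, .ofNat 2, .negSucc 1, .ofNat 2, .ofNat 2, .ofNat 0, .negSucc 1, .ofNat 2, .ofNat 2, .ofNat 0],
  [.ofNat 0, .ofNat 0, .ofNat 0, .ofNat 0, .ofNat 2, .negSucc 1, .ofNat 0, .ofNat 0, .ofNat 2, .negSucc 1, .ofNat 0, .ofNat 6, .negSucc 1, .ofNat 0, .ofNat 0, .ofNat 0, .ofNat 0, .ofNat 0, .ofNat 0, .negSucc 1, .ofNat 0, .ofNat 0, .ofNat 0, .negSucc 1],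
  [.ofNat 0, .ofNat 0, .ofNat 0, .ofNat 0, .ofNat 2, .negSucc 1, .ofNat 0, .ofNat 0, .ofNat 2, .negSucc 1, .ofNat 0, .negSucc 1, .ofNat 6, .ofNat 0, .ofNat 0, .ofNat 0, .ofNat 0, .ofNat 0, .ofNat 0, .negSucc 1, .ofNat 0, .ofNat 0, .ofNat 0, .negSucc 1],
  [.negSucc 1, .negSucc 1, .negSucc 1, .ofNat 2, .ofNat 0, .ofNat 0, .ofNat 2, .negSucc 1, .ofNat 0, .ofNat 0, .negSucc 1, .ofNat 0, .ofNat 0, .ofNat 2, .ofNat 2, .negSucc 1, .negSucc 1, .negSucc 1, .ofNat 2, .ofNat 0, .negSucc 1, .ofNat 2, .negSucc 1, .ofNat 0],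
  [.negSucc 1, .ofNat 2, .ofNat 2, .ofNat 2, .ofNat 0, .ofNat 0, .negSucc 1, .negSucc 1, .ofNat 0, .ofNat 0, .negSucc 1, .ofNat 0, .ofNat 0, .ofNat 2, .ofNat 2, .ofNat 2, .ofNat 2, .negSucc 1, .ofNat 2, .ofNat 0, .ofNat 2, .negSucc 1, .ofNat 2, .ofNat 0],
  [.negSucc 1, .ofNat 2, .negSucc 1, .ofNat 2, .ofNat 0, .ofNat 0, .negSucc 1, .negSucc 1, .ofNat 0, .ofNat 0, .ofNat 2, .ofNat 0, .ofNat 0, .negSucc 1, .negSucc 1, .ofNat 2, .negSucc 1, .negSucc 1, .negSucc 1, .ofNat 0, .ofNat 2, .ofNat 2, .negSucc 1, .ofNat 0],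
  [.ofNat 0, .ofNat 0, .ofNat 0, .ofNat 0, .ofNat 2, .negSucc 1, .ofNat 0, .ofNat 0, .negSucc 5, .negSucc 1, .ofNat 0, .negSucc 1, .negSucc 1, .ofNat 0, .ofNat 0, .ofNat 0, .ofNat 0, .ofNat 0, .ofNat 0, .negSucc 1, .ofNat 0, .ofNat 0, .ofNat 0, .negSucc 1],
  [.negSucc 1, .negSucc 1, .negSucc 1, .ofNat 2, .ofNat 0, .ofNat 0, .negSucc 1, .ofNat 2, .ofNat 0, .ofNat 0, .ofNat 2, .ofNat 0, .ofNat 0, .ofNat 2, .negSucc 1, .ofNat 2, .ofNat 2, .ofNat 2, .ofNat 2, .ofNat 0, .negSucc 1, .ofNat 2, .ofNat 2, .ofNat 0],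
  [.negSucc 1, .ofNat 2, .ofNat 2, .ofNat 2, .ofNat 0, .ofNat 0, .ofNat 2, .ofNat 2, .ofNat 0, .ofNat 0, .ofNat 2, .ofNat 0, .ofNat 0, .ofNat 2, .negSucc 1, .negSucc 1, .negSucc 1, .ofNat 2, .ofNat 2, .ofNat 0, .ofNat 2, .negSucc 1, .negSucc 1, .ofNat 0],
  [.ofNat 0, .ofNat 0, .ofNat 0, .ofNat 0, .ofNat 2, .negSucc 1, .ofNat 0, .ofNat 0, .ofNat 2, .negSucc 1, .ofNat 0, .negSucc 1, .negSucc 1, .ofNat 0, .ofNat 0, .ofNat 0, .ofNat 0, .ofNat 0, .ofNat 0, .ofNat 6, .ofNat 0, .ofNat 0, .ofNat 0, .negSucc 1],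
  [.negSucc 1, .negSucc 1, .ofNat 2, .negSucc 1, .ofNat 0, .ofNat 0, .ofNat 2, .ofNat 2, .ofNat 0, .ofNat 0, .ofNat 2, .ofNat 0, .ofNat 0, .ofNat 2, .ofNat 2, .ofNat 2, .ofNat 2, .negSucc 1, .negSucc 1, .ofNat 0, .ofNat 2, .ofNat 2, .negSucc 1, .ofNat 0],
  [.ofNat 2, .negSucc 1, .ofNat 2, .ofNat 2, .ofNat 0, .ofNat 0, .ofNat 2, .negSucc 1, .ofNat 0, .ofNat 0, .negSucc 1, .ofNat 0, .ofNat 0, .negSucc 1, .negSucc 1, .ofNat 2, .ofNat 2, .ofNat 2, .ofNat 2, .ofNat 0, .ofNat 2, .ofNat 2, .negSucc 1, .ofNat 0],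
  [.negSucc 1, .negSucc 1, .ofNat 2, .ofNat 2, .ofNat 0, .ofNat 0, .ofNat 2, .negSucc 1, .ofNat 0, .ofNat 0, .ofNat 2, .ofNat 0, .ofNat 0, .negSucc 1, .negSucc 1, .negSucc 1, .ofNat 2, .negSucc 1, .negSucc 1, .ofNat 0, .negSucc 1, .negSucc 1, .ofNat 2, .ofNat 0],
  [.ofNat 2, .ofNat 2, .negSucc 1, .ofNat 2, .ofNat 0, .ofNat 0, .ofNat 2, .ofNat 2, .ofNat 0, .ofNat 0, .ofNat 2, .ofNat 0, .ofNat 0, .negSucc 1, .ofNat 2, .ofNat 2, .ofNat 2, .negSucc 1, .ofNat 2, .ofNat 0, .negSucc 1, .negSucc 1, .negSucc 1, .ofNat 0]]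

theorem c1m3g1_tr : ∀ q p : GolayPt, mfun c1m3g1t q p = mfun c1m3g1 p q := by decide +kernel

theorem c1m3g1_lat : GamChk (mfun c1m3g1) := by decide +kernel

theorem c1m3g1_latT : GamChk (mfun c1m3g1t) := by decide +kernel

theorem c1m3g1_orth : LOrth (mfun c1m3g1) := by decide +kernel

theorem c1m3g1_orthT : LOrth (mfun c1m3g1t) := by decide +kernel

theorem c1m3g1_ok : MatOk c1m3g1 c1m3g1t := ⟨c1m3g1_tr, c1m3g1_lat, c1m3g1_latT, c1m3g1_orth, c1m3g1_orthT⟩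

theorem c1m3g1_rows : c1m3g1Z = rowsL c1m3g1 := by decide +kernel

/-- the element of `Co0` -/
def c1m3g1E : ↥Co0 := matEN c1m3g1 c1m3g1t c1m3g1_ok

theorem c1m3g1_rep : RepZ c1m3g1Z c1m3g1E := RepZ.of_mat (matEN_rep _ _ _) c1m3g1_rows

end Cfsg.Agent.Lib.Helper26.C1M
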