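import Cfsg.Agent.Lib.Helper26.C1M.Front

set_option autoImplicit false
set_option maxRecDepth 1000000

/-!
# Project C1M: the polycyclic generator c1m3g2 of the Sylow 3-subgroup (generated)
-/

namespace Cfsg.Agent.Lib.Helper26.C1M

open Cfsg Cfsg.Agent.Lib.Lead.CW Cfsg.Agent.Lib.helper3 Cfsg.Agent.Lib.Helper26.Co1O

/-- the packed matrix -/
def c1m3g2 : ℕ := 0x841cea3a1094a12849d074210741d274a1094252842509321284a4e83a1074a10741ce8425094192839d283a10841d284a9073a0e849d094210741d2841d283a1093a1284a5094210931ce8425283a1494a0e849d0942109425274a10941d2831d09420e839ce84a10841d283a1093a0e83a50742147425294a10741d2842509420e84a52849908324e83a1093a0e839d094210741ce74a0c74252841d07420e83a5283a10841ce83a1074a0ea4a50942107424e94a10941ce8424c7420e83a4e83a10841d283a107498e839d074210941ce94a10942528425074212839d284a0c73a109424e842509420e83a52a4a108424e83a1073a0e84a5474210941d293a1074252842509420e639ce83a1094a909424e841d09420e849d283a10841ce84a1094a0e83a5094190941d28425283a1074a1283a5093210741d273a10941d2642507420e849d283a1074a107324e842507420e849ce84a106425284a1094a0e84a5074210741ce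

/-- the packed transposed matrix -/
def c1m3g2t : ℕ := 0x839d0841d0941d09424e84a50839cc84a5084250932509424e83a5083a507420e74a0e84a0e83a109428e942127421294a128398e84a107420e94212a49d084250741d09425283a50849d07421273a0e83a0e83a107421274192849d4841d0742507425284a5083a50849d085250942507424e849d0849d09420e94a1284a0e83a1074212732129420e7498e83a1284a10742129421284a50841d0941d093252849d084a509420e93a0e83a0e63a107420e9420e84a5084250941d4741d284a50839d09321294a0e83a1283a109420e742127418e93a1283a1283a10942129421284a50841d0741d07424ea39d0839d07421294a0e84a1283a10732129420e849d0841d0941d0741ce83a5064a50849d0841d094250941d2839cc839d083a50841d4942507425283a50849d07420e94a0e83a0e84a14942127420e839d064250941d074252839d083a507420e74a1263a1283a107420e7420e9421274a1283a0e83990942129420e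

/-- the rows of the matrix -/
def c1m3g2Z : List (List ℤ) :=
  [[.negSucc 1, .negSucc 1, .ofNat 0, .negSucc 1, .ofNat 0, .ofNat 0, .ofNat 0, .negSucc 1, .ofNat 0, .ofNat 2, .ofNat 2, .ofNat 0, .negSucc 1, .ofNat 0, .ofNat 2, .ofNat 2, .ofNat 0, .ofNat 0, .ofNat 2, .ofNat 0, .ofNat 2, .ofNat 2, .ofNat 0, .negSucc 3],
  [.ofNat 0, .ofNat 0, .ofNat 2, .ofNat 0, .negSucc 1, .negSucc 1, .ofNat 2, .ofNat 0, .negSucc 1, .ofNat 0, .ofNat 0, .negSucc 1, .ofNat 0, .ofNat 2, .ofNat 0, .ofNat 0, .negSucc 1, .ofNat 2, .negSucc 3, .negSucc 1, .ofNat 0, .ofNat 0, .ofNat 2, .negSucc 1],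
  [.ofNat 0, .ofNat 0, .negSucc 1, .ofNat 0, .ofNat 2, .negSucc 1, .ofNat 2, .ofNat 0, .negSucc 1, .ofNat 0, .ofNat 0, .negSucc 1, .ofNat 0, .ofNat 2, .ofNat 0, .negSucc 3, .ofNat 2, .negSucc 1, .ofNat 0, .ofNat 2, .ofNat 0, .ofNat 0, .negSucc 1, .negSucc 1],
  [.ofNat 2, .negSucc 1, .ofNat 0, .negSucc 1, .ofNat 0, .ofNat 0, .negSucc 3, .ofNat 2, .ofNat 0, .ofNat 2, .negSucc 1, .ofNat 0, .ofNat 2, .ofNat 0, .ofNat 2, .negSucc 1, .ofNat 0, .ofNat 0, .negSucc 1, .ofNat 0, .ofNat 2, .ofNat 2, .ofNat 0, .ofNat 0],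
  [.ofNat 2, .negSucc 1, .ofNat 0, .ofNat 2, .ofNat 0, .negSucc 3, .ofNat 0, .ofNat 2, .ofNat 0, .ofNat 2, .negSucc 1, .ofNat 0, .negSucc 1, .ofNat 0, .ofNat 2, .ofNat 2, .ofNat 0, .ofNat 0, .ofNat 2, .ofNat 0, .negSucc 1, .negSucc 1, .ofNat 0, .ofNat 0],
  [.ofNat 0, .ofNat 0, .negSucc 1, .ofNat 0, .ofNat 2, .negSucc 1, .ofNat 2, .ofNat 0, .negSucc 1, .ofNat 0, .ofNat 0, .ofNat 2, .ofNat 0, .negSucc 1, .ofNat 0, .ofNat 0, .negSucc 1, .ofNat 2, .ofNat 0, .ofNat 2, .ofNat 0, .ofNat 4, .ofNat 2, .ofNat 2],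
  [.ofNat 0, .ofNat 0, .negSucc 1, .ofNat 0, .negSucc 1, .negSucc 1, .negSucc 1, .negSucc 3, .negSucc 1, .ofNat 0, .ofNat 0, .ofNat 2, .ofNat 0, .ofNat 2, .ofNat 0, .ofNat 0, .ofNat 2, .ofNat 2, .ofNat 0, .negSucc 1, .ofNat 0, .ofNat 0, .negSucc 1, .ofNat 2],
  [.ofNat 2, .negSucc 1, .ofNat 0, .ofNat 2, .ofNat 0, .ofNat 0, .ofNat 0, .negSucc 1, .ofNat 4, .ofNat 2, .ofNat 2, .ofNat 0, .negSucc 1, .ofNat 0, .negSucc 1, .negSucc 1, .ofNat 0, .ofNat 0, .negSucc 1, .ofNat 0, .negSucc 1, .ofNat 2, .ofNat 0, .ofNat 0],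
  [.ofNat 0, .ofNat 0, .ofNat 2, .ofNat 4, .ofNat 2, .ofNat 2, .negSucc 1, .ofNat 0, .negSucc 1, .ofNat 0, .ofNat 0, .ofNat 2, .ofNat 0, .ofNat 2, .ofNat 0, .ofNat 0, .negSucc 1, .ofNat 2, .ofNat 0, .ofNat 2, .ofNat 0, .ofNat 0, .negSucc 1, .negSucc 1],
  [.negSucc 3, .ofNat 0, .ofNat 2, .ofNat 0, .ofNat 2, .negSucc 1, .negSucc 1, .ofNat 0, .ofNat 2, .ofNat 0, .ofNat 0, .negSucc 1, .ofNat 0, .ofNat 2, .ofNat 0, .ofNat 0, .ofNat 2, .ofNat 2, .ofNat 0, .ofNat 2, .ofNat 0, .ofNat 0, .ofNat 2, .ofNat 2],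
  [.negSucc 1, .negSucc 1, .ofNat 0, .ofNat 2, .ofNat 0, .ofNat 0, .ofNat 0, .negSucc 1, .ofNat 0, .negSucc 1, .negSucc 1, .ofNat 0, .negSucc 1, .negSucc 3, .ofNat 2, .negSucc 1, .ofNat 0, .ofNat 0, .negSucc 1, .ofNat 0, .ofNat 2, .negSucc 1, .ofNat 0, .ofNat 0],
  [.ofNat 0, .ofNat 0, .negSucc 1, .ofNat 0, .negSucc 1, .ofNat 2, .negSucc 1, .ofNat 0, .negSucc 1, .ofNat 0, .ofNat 0, .negSucc 1, .negSucc 3, .ofNat 2, .ofNat 0, .ofNat 0, .negSucc 1, .negSucc 1, .ofNat 0, .ofNat 2, .ofNat 0, .ofNat 0, .ofNat 2, .ofNat 2],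
  [.negSucc 1, .ofNat 2, .ofNat 0, .negSucc 1, .ofNat 0, .ofNat 0, .ofNat 0, .ofNat 2, .ofNat 0, .ofNat 2, .ofNat 2, .ofNat 4, .negSucc 1, .ofNat 0, .ofNat 2, .negSucc 1, .ofNat 0, .ofNat 0, .negSucc 1, .ofNat 0, .negSucc 1, .negSucc 1, .ofNat 0, .ofNat 0],
  [.ofNat 0, .ofNat 0, .negSucc 1, .ofNat 0, .ofNat 2, .ofNat 2, .negSucc 1, .ofNat 0, .negSucc 1, .ofNat 0, .ofNat 0, .negSucc 1, .ofNat 0, .negSucc 1, .ofNat 0, .ofNat 0, .ofNat 2, .ofNat 2, .ofNat 0, .negSucc 1, .negSucc 3, .ofNat 0, .ofNat 2, .negSucc 1],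
  [.negSucc 1, .negSucc 1, .ofNat 0, .negSucc 1, .ofNat 0, .ofNat 0, .ofNat 0, .ofNat 2, .ofNat 0, .negSucc 1, .negSucc 1, .ofNat 0, .negSucc 1, .ofNat 0, .negSucc 1, .ofNat 2, .ofNat 0, .ofNat 0, .negSucc 1, .ofNat 0, .negSucc 1, .ofNat 2, .negSucc 3, .ofNat 0],
  [.ofNat 0, .negSucc 3, .ofNat 2, .ofNat 0, .ofNat 2, .ofNat 2, .ofNat 2, .ofNat 0, .negSucc 1, .ofNat 0, .ofNat 0, .ofNat 2, .ofNat 0, .ofNat 2, .ofNat 0, .ofNat 0, .ofNat 2, .negSucc 1, .ofNat 0, .negSucc 1, .ofNat 0, .ofNat 0, .ofNat 2, .ofNat 2],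
  [.ofNat 2, .ofNat 2, .ofNat 0, .negSucc 1, .ofNat 4, .ofNat 0, .ofNat 0, .negSucc 1, .ofNat 0, .ofNat 2, .negSucc 1, .ofNat 0, .negSucc 1, .ofNat 0, .negSucc 1, .ofNat 2, .ofNat 0, .ofNat 0, .negSucc 1, .ofNat 0, .ofNat 2, .negSucc 1, .ofNat 0, .ofNat 0],
  [.ofNat 0, .ofNat 0, .ofNat 2, .ofNat 0, .negSucc 1, .negSucc 1, .negSucc 1, .ofNat 0, .negSucc 1, .ofNat 0, .ofNat 0, .ofNat 2, .ofNat 0, .negSucc 1, .negSucc 3, .ofNat 0, .ofNat 2, .negSucc 1, .ofNat 0, .ofNat 2, .ofNat 0, .ofNat 0, .ofNat 2, .negSucc 1],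
  [.ofNat 2, .ofNat 2, .ofNat 0, .ofNat 2, .ofNat 0, .ofNat 0, .ofNat 0, .ofNat 2, .ofNat 0, .negSucc 1, .ofNat 2, .ofNat 0, .negSucc 1, .ofNat 0, .ofNat 2, .ofNat 2, .ofNat 4, .ofNat 0, .negSucc 1, .ofNat 0, .ofNat 2, .ofNat 2, .ofNat 0, .ofNat 0],
  [.negSucc 1, .negSucc 1, .negSucc 3, .ofNat 2, .ofNat 0, .ofNat 0, .ofNat 0, .ofNat 2, .ofNat 0, .ofNat 2, .ofNat 2, .ofNat 0, .ofNat 2, .ofNat 0, .negSucc 1, .ofNat 2, .ofNat 0, .ofNat 0, .negSucc 1, .ofNat 0, .ofNat 2, .negSucc 1, .ofNat 0, .ofNat 0],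
  [.ofNat 2, .negSucc 1, .ofNat 0, .negSucc 1, .ofNat 0, .ofNat 0, .ofNat 0, .ofNat 2, .ofNat 0, .negSucc 1, .ofNat 2, .ofNat 0, .negSucc 1, .ofNat 0, .negSucc 1, .negSucc 1, .ofNat 0, .ofNat 4, .ofNat 2, .ofNat 0, .ofNat 2, .negSucc 1, .ofNat 0, .ofNat 0],
  [.ofNat 0, .ofNat 0, .negSucc 1, .ofNat 0, .ofNat 2, .negSucc 1, .negSucc 1, .ofNat 0, .ofNat 2, .negSucc 3, .ofNat 0, .ofNat 2, .ofNat 0, .ofNat 2, .ofNat 0, .ofNat 0, .negSucc 1, .negSucc 1, .ofNat 0, .negSucc 1, .ofNat 0, .ofNat 0, .ofNat 2, .negSucc 1],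
  [.ofNat 0, .ofNat 0, .negSucc 1, .ofNat 0, .negSucc 1, .ofNat 2, .ofNat 2, .ofNat 0, .ofNat 2, .ofNat 0, .negSucc 3, .ofNat 2, .ofNat 0, .ofNat 2, .ofNat 0, .ofNat 0, .ofNat 2, .ofNat 2, .ofNat 0, .ofNat 2, .ofNat 0, .ofNat 0, .ofNat 2, .negSucc 1],
  [.ofNat 2, .negSucc 1, .ofNat 0, .negSucc 1, .ofNat 0, .ofNat 0, .ofNat 0, .negSucc 1, .ofNat 0, .negSucc 1, .ofNat 2, .ofNat 0, .ofNat 2, .ofNat 0, .ofNat 2, .ofNat 2, .ofNat 0, .ofNat 0, .negSucc 1, .ofNat 4, .negSucc 1, .negSucc 1, .ofNat 0, .ofNat 0]]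

theorem c1m3g2_tr : ∀ q p : GolayPt, mfun c1m3g2t q p = mfun c1m3g2 p q := by decide +kernel

theorem c1m3g2_lat : GamChk (mfun c1m3g2) := by decide +kernel

theorem c1m3g2_latT : GamChk (mfun c1m3g2t) := by decide +kernel

theorem c1m3g2_orth : LOrth (mfun c1m3g2) := by decide +kernel

theorem c1m3g2_orthT : LOrth (mfun c1m3g2t) := by decide +kernel

theorem c1m3g2_ok : MatOk c1m3g2 c1m3g2t := ⟨c1m3g2_tr, c1m3g2_lat, c1m3g2_latT, c1m3g2_orth, c1m3g2_orthT⟩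

theorem c1m3g2_rows : c1m3g2Z = rowsL c1m3g2 := by decide +kernel

/-- the element of `Co0` -/
def c1m3g2E : ↥Co0 := matEN c1m3g2 c1m3g2t c1m3g2_ok

theorem c1m3g2_rep : RepZ c1m3g2Z c1m3g2E := RepZ.of_mat (matEN_rep _ _ _) c1m3g2_rows

end Cfsg.Agent.Lib.Helper26.C1M
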