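import Cfsg.Agent.Lib.Helper26.C1M.Front

set_option autoImplicit false
set_option maxRecDepth 1000000

/-!
# Project C1M: the polycyclic generator c1m3g3 of the Sylow 3-subgroup (generated)
-/

namespace Cfsg.Agent.Lib.Helper26.C1M

open Cfsg Cfsg.Agent.Lib.Lead.CW Cfsg.Agent.Lib.helper3 Cfsg.Agent.Lib.Helper26.Co1O

/-- the packed matrix -/
def c1m3g3 : ℕ := 0x84a0e849d084a509320e84a5284250941d0742129420e84a509429094a1283a0e839d083a507421283a528424c84a8e83a50849d07421284a52841d084a12a49d0849d07421283a4e84250941d07420e7521284a507421074a0e83a1284a5084a509419283a52841d083a0e849d4849d07420e839d2841d084a0e84a5083a507420e83a4e641d0942509420e9420e849cc7421094a0e74250942127429284a507421094a1283a1284a50839d47420e84a528425084a0e84a50839d094212839d285250742507520e7420e84a509421093a0e83a0e849d0839d09421264a4e841d0a4a12849d083a5074212849d2841d084a12839d0639d09420e83a52841d0741d09420e9420e84a507421473a1274254742129420e83a507421074a0e942509421294212a4a509421073a0e941d0942927420e83a507421093a0e94250742127420e849d07421073a92741d0942127420e849d09521074a0e932509420e7420e83a509421074a12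

/-- the packed transposed matrix -/
def c1m3g3t : ℕ := 0x84a1084a10849d083a14839d2949d2941d2941ce9420e941d2942108420c83a1483a1084a5084a1083a52749d2741ce9424e74212741d2942908421083a10a3a1084a5083a10849d293a52941ce9425294212952527421084210741d27424e94212941ce74210a421084a1083a1483a5083a1083a5294a4e84a1083a10849d083a1064a52739ce941d2952527420e741ce74210842109424e7424e9428e741d2742108421083a1084a1083a5483a10839d2739ce941ce7424e7420e9424e942148421064a1084a1084a5084a10849d274a4e84a108499083a5084a1084a52939d2742529424e7320e94252742108421084a1083a10839d084990839d273a52941d2741ce74212742527421084290952529424e942127424e9421084210942527425274212941d2952108421084a1083a1064a5084a10839ce939ce84a1084a1084a50a3a1083a4e73a529424e941ce74212941ce74210852108499083a1083a5083a10849ce749d2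

/-- the rows of the matrix -/
def c1m3g3Z : List (List ℤ) :=
  [[.ofNat 2, .ofNat 0, .ofNat 2, .negSucc 1, .ofNat 0, .ofNat 0, .ofNat 0, .ofNat 2, .ofNat 0, .ofNat 2, .negSucc 1, .ofNat 0, .negSucc 1, .ofNat 0, .ofNat 0, .negSucc 1, .negSucc 1, .ofNat 0, .ofNat 0, .ofNat 2, .ofNat 0, .ofNat 2, .negSucc 3, .ofNat 2],
  [.negSucc 1, .ofNat 0, .ofNat 2, .negSucc 1, .ofNat 0, .ofNat 0, .ofNat 4, .ofNat 2, .ofNat 0, .negSucc 1, .ofNat 2, .ofNat 0, .negSucc 1, .ofNat 0, .ofNat 0, .negSucc 1, .ofNat 2, .ofNat 0, .ofNat 0, .ofNat 2, .ofNat 0, .negSucc 1, .ofNat 0, .negSucc 1],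
  [.ofNat 2, .ofNat 4, .negSucc 1, .negSucc 1, .ofNat 0, .ofNat 0, .ofNat 0, .negSucc 1, .ofNat 0, .negSucc 1, .ofNat 2, .ofNat 0, .negSucc 1, .ofNat 0, .ofNat 0, .negSucc 1, .ofNat 2, .ofNat 0, .ofNat 0, .negSucc 1, .ofNat 0, .ofNat 2, .ofNat 0, .ofNat 2],
  [.negSucc 1, .ofNat 0, .negSucc 1, .ofNat 2, .ofNat 0, .ofNat 0, .ofNat 0, .negSucc 1, .ofNat 0, .ofNat 2, .negSucc 1, .ofNat 0, .negSucc 1, .ofNat 0, .ofNat 0, .negSucc 1, .ofNat 2, .ofNat 4, .ofNat 0, .ofNat 2, .ofNat 0, .negSucc 1, .ofNat 0, .ofNat 2],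
  [.negSucc 1, .ofNat 0, .negSucc 1, .negSucc 1, .ofNat 0, .ofNat 0, .ofNat 0, .ofNat 2, .ofNat 0, .ofNat 2, .ofNat 2, .ofNat 4, .ofNat 2, .ofNat 0, .ofNat 0, .ofNat 2, .ofNat 2, .ofNat 0, .ofNat 0, .ofNat 2, .ofNat 0, .ofNat 2, .ofNat 0, .ofNat 2],
  [.negSucc 1, .ofNat 0, .ofNat 2, .negSucc 1, .ofNat 0, .ofNat 0, .ofNat 0, .negSucc 1, .ofNat 0, .ofNat 2, .negSucc 1, .ofNat 0, .negSucc 1, .ofNat 0, .ofNat 0, .ofNat 2, .ofNat 2, .ofNat 0, .ofNat 0, .negSucc 1, .ofNat 4, .ofNat 2, .ofNat 0, .negSucc 1],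
  [.ofNat 2, .ofNat 0, .negSucc 1, .negSucc 1, .ofNat 4, .ofNat 0, .ofNat 0, .negSucc 1, .ofNat 0, .ofNat 2, .ofNat 2, .ofNat 0, .negSucc 1, .ofNat 0, .ofNat 0, .ofNat 2, .negSucc 1, .ofNat 0, .ofNat 0, .ofNat 2, .ofNat 0, .negSucc 1, .ofNat 0, .negSucc 1],
  [.ofNat 0, .negSucc 1, .ofNat 0, .ofNat 0, .ofNat 2, .ofNat 2, .negSucc 1, .ofNat 0, .negSucc 1, .ofNat 0, .ofNat 0, .ofNat 2, .ofNat 0, .negSucc 1, .negSucc 1, .negSucc 3, .ofNat 0, .negSucc 1, .negSucc 1, .ofNat 0, .ofNat 2, .ofNat 0, .ofNat 2, .ofNat 0],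
  [.ofNat 0, .negSucc 1, .ofNat 0, .ofNat 0, .ofNat 2, .negSucc 1, .ofNat 2, .ofNat 0, .ofNat 2, .ofNat 0, .ofNat 0, .negSucc 1, .ofNat 0, .ofNat 2, .negSucc 1, .ofNat 0, .ofNat 0, .negSucc 1, .ofNat 2, .ofNat 0, .ofNat 2, .ofNat 0, .ofNat 2, .ofNat 4],
  [.ofNat 0, .negSucc 1, .ofNat 0, .ofNat 0, .negSucc 1, .ofNat 2, .ofNat 2, .negSucc 3, .ofNat 2, .ofNat 0, .ofNat 0, .ofNat 2, .ofNat 0, .negSucc 1, .negSucc 1, .ofNat 0, .ofNat 0, .negSucc 1, .ofNat 2, .ofNat 0, .negSucc 1, .ofNat 0, .negSucc 1, .ofNat 0],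
  [.negSucc 1, .ofNat 0, .negSucc 1, .ofNat 2, .ofNat 0, .ofNat 0, .ofNat 0, .ofNat 2, .ofNat 0, .ofNat 2, .ofNat 2, .ofNat 0, .negSucc 1, .ofNat 0, .ofNat 0, .negSucc 1, .negSucc 1, .ofNat 0, .ofNat 4, .negSucc 1, .ofNat 0, .ofNat 2, .ofNat 0, .negSucc 1],
  [.ofNat 0, .ofNat 2, .ofNat 4, .ofNat 0, .ofNat 2, .negSucc 1, .negSucc 1, .ofNat 0, .ofNat 2, .ofNat 0, .ofNat 0, .ofNat 2, .ofNat 0, .negSucc 1, .negSucc 1, .ofNat 0, .ofNat 0, .ofNat 2, .ofNat 2, .ofNat 0, .negSucc 1, .ofNat 0, .ofNat 2, .ofNat 0],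
  [.ofNat 0, .ofNat 2, .ofNat 0, .ofNat 0, .ofNat 2, .ofNat 2, .ofNat 2, .ofNat 0, .negSucc 1, .ofNat 0, .ofNat 0, .negSucc 1, .ofNat 4, .negSucc 1, .negSucc 1, .ofNat 0, .ofNat 0, .ofNat 2, .ofNat 2, .ofNat 0, .ofNat 2, .ofNat 0, .negSucc 1, .ofNat 0],
  [.ofNat 2, .ofNat 0, .ofNat 2, .ofNat 2, .ofNat 0, .ofNat 0, .ofNat 0, .negSucc 1, .ofNat 0, .ofNat 2, .ofNat 2, .ofNat 0, .ofNat 2, .ofNat 4, .ofNat 0, .negSucc 1, .ofNat 2, .ofNat 0, .ofNat 0, .ofNat 2, .ofNat 0, .ofNat 2, .ofNat 0, .negSucc 1],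
  [.negSucc 1, .ofNat 0, .ofNat 2, .ofNat 2, .ofNat 0, .ofNat 0, .ofNat 0, .negSucc 1, .negSucc 3, .negSucc 1, .ofNat 2, .ofNat 0, .negSucc 1, .ofNat 0, .ofNat 0, .ofNat 2, .negSucc 1, .ofNat 0, .ofNat 0, .ofNat 2, .ofNat 0, .ofNat 2, .ofNat 0, .ofNat 2],
  [.ofNat 0, .negSucc 1, .ofNat 0, .negSucc 3, .negSucc 1, .ofNat 2, .negSucc 1, .ofNat 0, .negSucc 1, .ofNat 0, .ofNat 0, .negSucc 1, .ofNat 0, .ofNat 2, .negSucc 1, .ofNat 0, .ofNat 0, .ofNat 2, .ofNat 2, .ofNat 0, .negSucc 1, .ofNat 0, .ofNat 2, .ofNat 0],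
  [.ofNat 0, .negSucc 1, .ofNat 0, .ofNat 0, .ofNat 2, .negSucc 1, .negSucc 1, .ofNat 0, .negSucc 1, .ofNat 0, .ofNat 0, .negSucc 1, .ofNat 0, .negSucc 1, .ofNat 2, .ofNat 0, .ofNat 4, .negSucc 1, .ofNat 2, .ofNat 0, .negSucc 1, .ofNat 0, .negSucc 1, .ofNat 0],
  [.ofNat 0, .negSucc 1, .ofNat 0, .ofNat 0, .ofNat 2, .ofNat 2, .negSucc 1, .ofNat 0, .ofNat 2, .negSucc 3, .ofNat 0, .ofNat 2, .ofNat 0, .ofNat 2, .ofNat 2, .ofNat 0, .ofNat 0, .ofNat 2, .ofNat 2, .ofNat 0, .ofNat 2, .ofNat 0, .negSucc 1, .ofNat 0],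
  [.negSucc 1, .ofNat 0, .ofNat 2, .negSucc 1, .ofNat 0, .ofNat 0, .ofNat 0, .negSucc 1, .ofNat 0, .ofNat 2, .ofNat 2, .ofNat 0, .ofNat 2, .ofNat 0, .ofNat 4, .negSucc 1, .negSucc 1, .ofNat 0, .ofNat 0, .negSucc 1, .ofNat 0, .negSucc 1, .ofNat 0, .ofNat 2],
  [.ofNat 0, .ofNat 2, .ofNat 0, .ofNat 0, .negSucc 1, .ofNat 2, .negSucc 1, .ofNat 0, .ofNat 2, .ofNat 0, .ofNat 0, .negSucc 1, .ofNat 0, .negSucc 1, .ofNat 2, .ofNat 0, .ofNat 0, .negSucc 1, .ofNat 2, .ofNat 4, .ofNat 2, .ofNat 0, .ofNat 2, .ofNat 0],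
  [.ofNat 0, .negSucc 1, .ofNat 0, .ofNat 0, .ofNat 2, .ofNat 2, .ofNat 2, .ofNat 0, .ofNat 2, .ofNat 0, .ofNat 0, .negSucc 1, .ofNat 0, .negSucc 1, .ofNat 2, .ofNat 0, .ofNat 0, .ofNat 2, .negSucc 1, .ofNat 0, .negSucc 1, .ofNat 4, .ofNat 2, .ofNat 0],
  [.negSucc 3, .ofNat 2, .ofNat 0, .ofNat 0, .ofNat 2, .ofNat 2, .negSucc 1, .ofNat 0, .ofNat 2, .ofNat 0, .ofNat 0, .negSucc 1, .ofNat 0, .ofNat 2, .negSucc 1, .ofNat 0, .ofNat 0, .negSucc 1, .negSucc 1, .ofNat 0, .negSucc 1, .ofNat 0, .negSucc 1, .ofNat 0],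
  [.ofNat 2, .ofNat 0, .ofNat 2, .ofNat 2, .ofNat 0, .ofNat 4, .ofNat 0, .ofNat 2, .ofNat 0, .ofNat 2, .ofNat 2, .ofNat 0, .negSucc 1, .ofNat 0, .ofNat 0, .ofNat 2, .ofNat 2, .ofNat 0, .ofNat 0, .negSucc 1, .ofNat 0, .negSucc 1, .ofNat 0, .ofNat 2],
  [.ofNat 0, .ofNat 2, .ofNat 0, .ofNat 0, .ofNat 2, .ofNat 2, .ofNat 2, .ofNat 0, .negSucc 1, .ofNat 0, .negSucc 3, .ofNat 2, .ofNat 0, .ofNat 2, .ofNat 2, .ofNat 0, .ofNat 0, .negSucc 1, .ofNat 2, .ofNat 0, .negSucc 1, .ofNat 0, .ofNat 2, .ofNat 0]]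

theorem c1m3g3_tr : ∀ q p : GolayPt, mfun c1m3g3t q p = mfun c1m3g3 p q := by decide +kernel

theorem c1m3g3_lat : GamChk (mfun c1m3g3) := by decide +kernel

theorem c1m3g3_latT : GamChk (mfun c1m3g3t) := by decide +kernel

theorem c1m3g3_orth : LOrth (mfun c1m3g3) := by decide +kernel

theorem c1m3g3_orthT : LOrth (mfun c1m3g3t) := by decide +kernel

theorem c1m3g3_ok : MatOk c1m3g3 c1m3g3t := ⟨c1m3g3_tr, c1m3g3_lat, c1m3g3_latT, c1m3g3_orth, c1m3g3_orthT⟩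

theorem c1m3g3_rows : c1m3g3Z = rowsL c1m3g3 := by decide +kernel

/-- the element of `Co0` -/
def c1m3g3E : ↥Co0 := matEN c1m3g3 c1m3g3t c1m3g3_ok

theorem c1m3g3_rep : RepZ c1m3g3Z c1m3g3E := RepZ.of_mat (matEN_rep _ _ _) c1m3g3_rows

end Cfsg.Agent.Lib.Helper26.C1M
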