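import Cfsg.Agent.Lib.Helper26.C1M.Front

set_option autoImplicit false
set_option maxRecDepth 1000000

/-!
# Project C1M: the polycyclic generator c1m3g4 of the Sylow 3-subgroup (generated)
-/

namespace Cfsg.Agent.Lib.Helper26.C1M

open Cfsg Cfsg.Agent.Lib.Lead.CW Cfsg.Agent.Lib.helper3 Cfsg.Agent.Lib.Helper26.Co1O

/-- the packed matrix -/
def c1m3g4 : ℕ := 0x942108420e93a1074210849908324e942148421293a109421064a10841d283a4e73a50841ce849ce741ce74a10941908320e94a109421083a10841ce942108421274a107521084a14841ce83a5273a50841ce83a529425273a109420c8421293a1094210a4a10841d2942108420e74a109419484a1084252952106421294a107421083a1084252752106420e73a109421084a10841ce839d274a5084252839ce941d274a1084a52939d0841ce839ce941d294a10742108418e94a107421084a10641d2942108420e739947421083a10841d283a52739d084252849ce9424e93a1084a4e93a5084252839ce7425273a10942108420e73a8c7421083a10841d2742108421293a107419483a10841ce839ce749d0841ce839ce7425293a10741908321273a107421084a1084252742108420e93a109521083a148425283a4e739d08425283a52741d294a10942108420e93a107421084a908524e742108428e94a107421084a10a41d2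

/-- the packed transposed matrix -/
def c1m3g4t : ℕ := 0x94a129425293a1074a1093a0e7424e841d083a10a51d2841d2841d083a108424c84a10841d284252841cc84a10851d084990842528424e841d083a10841d083a10631d2841d2841d083a10841cc83a108424e841ce8424c83a108425084a108424e641d2841d083a1474a0e9424e93a1073a1074a12741ce94a127424e93a1093a1074a0e9425273a12941d293a1093a1073a0e741d2841d083a108424e83252a41d084a10841d083a108424e85252641d084a1074a127425274a1073a1073a0e941ce84250a3a10841ce8424e841d0a3a10841d084a0c841ce841ce831d084a10841d084a14841ce841ce851d084a10831d084a90842528424e841d083a1094a0e9425274a1093a1073a1274252641d084a10841ce842528425083a90841d0a4a1084252841d284250a4a10841d083a10841d26424e8425084a146425083a1084252841ce841d084a9093a0e741d293a1073a1073a129424e74a0e7425293a1094a1093a12941d2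

/-- the rows of the matrix -/
def c1m3g4Z : List (List ℤ) :=
  [[.ofNat 2, .negSucc 1, .ofNat 0, .ofNat 4, .ofNat 0, .ofNat 0, .ofNat 2, .ofNat 0, .ofNat 0, .ofNat 0, .ofNat 0, .negSucc 1, .ofNat 0, .ofNat 0, .ofNat 2, .ofNat 2, .negSucc 1, .ofNat 4, .ofNat 0, .ofNat 0, .ofNat 0, .ofNat 0, .ofNat 0, .negSucc 1],
  [.negSucc 1, .ofNat 2, .ofNat 4, .ofNat 0, .ofNat 0, .ofNat 4, .ofNat 2, .ofNat 0, .ofNat 0, .ofNat 0, .ofNat 0, .negSucc 1, .ofNat 0, .ofNat 0, .negSucc 1, .ofNat 2, .negSucc 1, .ofNat 0, .ofNat 0, .ofNat 0, .ofNat 0, .ofNat 0, .ofNat 0, .ofNat 2],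
  [.ofNat 0, .ofNat 0, .ofNat 2, .ofNat 2, .ofNat 2, .negSucc 1, .ofNat 0, .negSucc 1, .ofNat 2, .ofNat 2, .negSucc 1, .ofNat 0, .ofNat 2, .ofNat 2, .ofNat 0, .ofNat 0, .ofNat 0, .negSucc 1, .negSucc 1, .negSucc 1, .negSucc 1, .ofNat 2, .negSucc 1, .ofNat 0],
  [.ofNat 2, .ofNat 2, .ofNat 0, .ofNat 0, .ofNat 4, .ofNat 0, .negSucc 1, .ofNat 0, .ofNat 0, .ofNat 0, .ofNat 4, .ofNat 2, .ofNat 0, .ofNat 0, .negSucc 1, .ofNat 2, .negSucc 1, .ofNat 0, .ofNat 0, .ofNat 0, .ofNat 0, .ofNat 0, .ofNat 0, .negSucc 1],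
  [.ofNat 2, .ofNat 2, .ofNat 0, .ofNat 0, .ofNat 0, .ofNat 0, .ofNat 2, .ofNat 0, .ofNat 0, .ofNat 0, .ofNat 0, .negSucc 1, .ofNat 0, .ofNat 0, .negSucc 1, .negSucc 1, .ofNat 2, .ofNat 0, .negSucc 3, .ofNat 0, .ofNat 0, .negSucc 3, .ofNat 0, .negSucc 1],
  [.ofNat 0, .ofNat 0, .negSucc 1, .ofNat 2, .ofNat 2, .ofNat 2, .ofNat 0, .negSucc 1, .negSucc 1, .negSucc 1, .negSucc 1, .ofNat 0, .negSucc 1, .negSucc 1, .ofNat 0, .ofNat 0, .ofNat 0, .negSucc 1, .ofNat 2, .negSucc 1, .negSucc 1, .negSucc 1, .negSucc 1, .ofNat 0],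
  [.negSucc 1, .negSucc 1, .ofNat 0, .ofNat 0, .ofNat 0, .ofNat 0, .negSucc 1, .ofNat 0, .ofNat 4, .negSucc 3, .ofNat 0, .negSucc 1, .ofNat 0, .ofNat 0, .negSucc 1, .ofNat 2, .ofNat 2, .ofNat 0, .ofNat 0, .ofNat 0, .ofNat 0, .ofNat 0, .ofNat 0, .negSucc 1],
  [.ofNat 2, .negSucc 1, .ofNat 0, .ofNat 0, .ofNat 0, .ofNat 0, .negSucc 1, .ofNat 0, .ofNat 0, .ofNat 0, .ofNat 0, .negSucc 1, .negSucc 3, .ofNat 4, .negSucc 1, .negSucc 1, .negSucc 1, .ofNat 0, .ofNat 0, .ofNat 0, .ofNat 0, .ofNat 0, .ofNat 0, .ofNat 2],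
  [.ofNat 0, .ofNat 0, .negSucc 1, .negSucc 1, .ofNat 2, .ofNat 2, .ofNat 0, .negSucc 1, .negSucc 1, .negSucc 1, .negSucc 1, .ofNat 0, .ofNat 2, .ofNat 2, .ofNat 0, .ofNat 0, .ofNat 0, .ofNat 2, .negSucc 1, .ofNat 2, .negSucc 1, .ofNat 2, .ofNat 2, .ofNat 0],
  [.ofNat 0, .ofNat 0, .negSucc 1, .ofNat 2, .negSucc 1, .ofNat 2, .ofNat 0, .ofNat 2, .negSucc 1, .negSucc 1, .ofNat 2, .ofNat 0, .ofNat 2, .ofNat 2, .ofNat 0, .ofNat 0, .ofNat 0, .negSucc 1, .negSucc 1, .negSucc 1, .ofNat 2, .ofNat 2, .negSucc 1, .ofNat 0],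
  [.ofNat 2, .negSucc 1, .ofNat 0, .ofNat 0, .ofNat 0, .ofNat 0, .negSucc 1, .ofNat 0, .ofNat 0, .ofNat 0, .ofNat 0, .negSucc 1, .ofNat 4, .negSucc 3, .negSucc 1, .negSucc 1, .negSucc 1, .ofNat 0, .ofNat 0, .ofNat 0, .ofNat 0, .ofNat 0, .ofNat 0, .ofNat 2],
  [.ofNat 2, .negSucc 1, .ofNat 0, .negSucc 3, .ofNat 0, .ofNat 0, .ofNat 2, .ofNat 0, .ofNat 0, .ofNat 0, .ofNat 0, .negSucc 1, .ofNat 0, .ofNat 0, .ofNat 2, .ofNat 2, .negSucc 1, .negSucc 3, .ofNat 0, .ofNat 0, .ofNat 0, .ofNat 0, .ofNat 0, .negSucc 1],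
  [.ofNat 0, .ofNat 0, .ofNat 2, .ofNat 2, .ofNat 2, .negSucc 1, .ofNat 0, .ofNat 2, .negSucc 1, .negSucc 1, .negSucc 1, .ofNat 0, .negSucc 1, .negSucc 1, .ofNat 0, .ofNat 0, .ofNat 0, .negSucc 1, .negSucc 1, .ofNat 2, .ofNat 2, .ofNat 2, .ofNat 2, .ofNat 0],
  [.ofNat 0, .ofNat 0, .ofNat 2, .negSucc 1, .ofNat 2, .negSucc 1, .ofNat 0, .ofNat 2, .negSucc 1, .negSucc 1, .negSucc 1, .ofNat 0, .ofNat 2, .ofNat 2, .ofNat 0, .ofNat 0, .ofNat 0, .ofNat 2, .ofNat 2, .negSucc 1, .ofNat 2, .negSucc 1, .negSucc 1, .ofNat 0],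
  [.negSucc 1, .negSucc 1, .ofNat 0, .ofNat 0, .ofNat 0, .ofNat 0, .ofNat 2, .ofNat 0, .ofNat 0, .ofNat 0, .ofNat 0, .ofNat 2, .ofNat 0, .ofNat 0, .negSucc 1, .negSucc 1, .negSucc 1, .ofNat 0, .ofNat 0, .negSucc 3, .ofNat 0, .ofNat 0, .ofNat 4, .negSucc 1],
  [.ofNat 2, .ofNat 2, .ofNat 0, .ofNat 0, .ofNat 0, .ofNat 0, .negSucc 1, .ofNat 0, .ofNat 0, .ofNat 0, .ofNat 0, .negSucc 1, .ofNat 0, .ofNat 0, .ofNat 2, .ofNat 2, .ofNat 2, .ofNat 0, .ofNat 0, .negSucc 3, .ofNat 0, .ofNat 0, .ofNat 4, .ofNat 2],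
  [.ofNat 2, .ofNat 2, .ofNat 0, .ofNat 0, .ofNat 0, .ofNat 0, .ofNat 2, .ofNat 0, .ofNat 4, .negSucc 3, .ofNat 0, .ofNat 2, .ofNat 0, .ofNat 0, .ofNat 2, .negSucc 1, .negSucc 1, .ofNat 0, .ofNat 0, .ofNat 0, .ofNat 0, .ofNat 0, .ofNat 0, .ofNat 2],
  [.ofNat 2, .negSucc 1, .ofNat 0, .ofNat 0, .ofNat 0, .ofNat 0, .ofNat 2, .ofNat 4, .ofNat 0, .ofNat 0, .ofNat 0, .ofNat 2, .ofNat 0, .ofNat 0, .negSucc 1, .ofNat 2, .ofNat 2, .ofNat 0, .ofNat 0, .ofNat 0, .negSucc 3, .ofNat 0, .ofNat 0, .ofNat 2],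
  [.ofNat 0, .ofNat 0, .negSucc 1, .negSucc 1, .ofNat 2, .ofNat 2, .ofNat 0, .ofNat 2, .ofNat 2, .ofNat 2, .negSucc 1, .ofNat 0, .negSucc 1, .negSucc 1, .ofNat 0, .ofNat 0, .ofNat 0, .ofNat 2, .negSucc 1, .negSucc 1, .ofNat 2, .ofNat 2, .negSucc 1, .ofNat 0],
  [.negSucc 1, .negSucc 1, .ofNat 0, .ofNat 0, .ofNat 4, .ofNat 0, .ofNat 2, .ofNat 0, .ofNat 0, .ofNat 0, .ofNat 4, .negSucc 1, .ofNat 0, .ofNat 0, .ofNat 2, .negSucc 1, .ofNat 2, .ofNat 0, .ofNat 0, .ofNat 0, .ofNat 0, .ofNat 0, .ofNat 0, .ofNat 2],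
  [.negSucc 1, .negSucc 1, .ofNat 0, .ofNat 0, .ofNat 0, .ofNat 0, .negSucc 1, .ofNat 0, .ofNat 0, .ofNat 0, .ofNat 0, .ofNat 2, .ofNat 0, .ofNat 0, .ofNat 2, .ofNat 2, .negSucc 1, .ofNat 0, .negSucc 3, .ofNat 0, .ofNat 0, .negSucc 3, .ofNat 0, .ofNat 2],
  [.ofNat 0, .ofNat 0, .ofNat 2, .negSucc 1, .negSucc 1, .negSucc 1, .ofNat 0, .negSucc 1, .negSucc 1, .negSucc 1, .ofNat 2, .ofNat 0, .negSucc 1, .negSucc 1, .ofNat 0, .ofNat 0, .ofNat 0, .ofNat 2, .negSucc 1, .negSucc 1, .negSucc 1, .ofNat 2, .negSucc 1, .ofNat 0],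
  [.ofNat 2, .negSucc 1, .ofNat 0, .ofNat 0, .ofNat 0, .ofNat 0, .ofNat 2, .negSucc 3, .ofNat 0, .ofNat 0, .ofNat 0, .ofNat 2, .ofNat 0, .ofNat 0, .negSucc 1, .ofNat 2, .ofNat 2, .ofNat 0, .ofNat 0, .ofNat 0, .ofNat 4, .ofNat 0, .ofNat 0, .ofNat 2],
  [.negSucc 1, .ofNat 2, .negSucc 3, .ofNat 0, .ofNat 0, .negSucc 3, .ofNat 2, .ofNat 0, .ofNat 0, .ofNat 0, .ofNat 0, .negSucc 1, .ofNat 0, .ofNat 0, .negSucc 1, .ofNat 2, .negSucc 1, .ofNat 0, .ofNat 0, .ofNat 0, .ofNat 0, .ofNat 0, .ofNat 0, .ofNat 2]]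

theorem c1m3g4_tr : ∀ q p : GolayPt, mfun c1m3g4t q p = mfun c1m3g4 p q := by decide +kernel

theorem c1m3g4_lat : GamChk (mfun c1m3g4) := by decide +kernel

theorem c1m3g4_latT : GamChk (mfun c1m3g4t) := by decide +kernel

theorem c1m3g4_orth : LOrth (mfun c1m3g4) := by decide +kernel

theorem c1m3g4_orthT : LOrth (mfun c1m3g4t) := by decide +kernel

theorem c1m3g4_ok : MatOk c1m3g4 c1m3g4t := ⟨c1m3g4_tr, c1m3g4_lat, c1m3g4_latT, c1m3g4_orth, c1m3g4_orthT⟩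

theorem c1m3g4_rows : c1m3g4Z = rowsL c1m3g4 := by decide +kernel

/-- the element of `Co0` -/
def c1m3g4E : ↥Co0 := matEN c1m3g4 c1m3g4t c1m3g4_ok

theorem c1m3g4_rep : RepZ c1m3g4Z c1m3g4E := RepZ.of_mat (matEN_rep _ _ _) c1m3g4_rows

end Cfsg.Agent.Lib.Helper26.C1M
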