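import Cfsg.Agent.Lib.Helper26.C1M.Front

set_option autoImplicit false
set_option maxRecDepth 1000000

/-!
# Project C1M: the polycyclic generator c1m3g5 of the Sylow 3-subgroup (generated)
-/

namespace Cfsg.Agent.Lib.Helper26.C1M

open Cfsg Cfsg.Agent.Lib.Lead.CW Cfsg.Agent.Lib.helper3 Cfsg.Agent.Lib.Helper26.Co1O

/-- the packed matrix -/
def c1m3g5 : ℕ := 0x6c5f18b62d6be2f7be2f8c62f8be2d8b5ed6b6318be2f7be2f6c62f8be318c5f16c6316be2f7be338b6338be317ce2f7be6f9b5ed8c5f17bdf17c5ef6c5ed8c6318be337be2f8c6338bdb18c5f18b6318ce2f9be2f8b62f8bdb17be2f7bdf37c5ed8b5f19cdf17c5ef9be2f9bdef7b5f18b6717bdf17c5ef8b5f18c62d8be2f9bdaf8c6338be318c5f18b6318bdb37bdb38c62f8be317be337bdf37b5f18c5ed7bdf19c5ef8c5ed8c6316bdaf9ce2f8c62f8be317be2f9bdef7c5ed6c5f17bdf19c5f38c5ed8c5b18be2f7bdaf8b62f8be2d7be2f9be737c6718c5f17bdf17c66f7be2f7ce6f7c5f18b5f17bded9c5ef6c5f18c5b18be2f9be336c62f8be318c5f18c6318cdaf7be2f6c6338be2d7bdaf7bdef7c5f18c5f17be717d5ef8c5718c6318be2f7be2f8c5af8ce316b5f18c6318bdaf7be2f8b62f6be318c6718c6318be2f7be2f8c6af8ce318c5f18c6316be2f7bdaf6c62f6bdb18b5f18c6318be2f7ce338c62f8bdad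

/-- the packed transposed matrix -/
def c1m3g5t : ℕ := 0x6c62f6c5f38c5f17c5ef6c5f16c6318b6338c5ef6c5f17c5ef8c5f16c62d7bdf17be317be2f8be317bdab7cdef8b62f6c5ef8c66d7b5ef8c5f18c6318b5af8c5f38c5f19c66f8c5f18c6316b62f8b5ef8b5f17c5f38c5f18c6318c6338c5ef8c5f17b6736c5f18c6316c62f8c66f6c6717c66f8c5f18c6316c5b38c5ef8c5ed7c5ef8c5f18c5b17bded7ce2d7bdaf8be317ce2f7bdef8c62f8c5ef8b5ed7c66f8b5f16c6317bded9bdb17ce2f6be317be2f7bdef7bdf17ce319be336be319be2f7bdef7bdf17bdad7be338be2d7be2f7bdf38c62f8c5f36b5f17b5ef8c5f18c5b17be717be317cdaf8be319be2f7bdf38b62f8c66f8c5f17c5ef6b5f18c5b18c5af8b66f8c5f17b5ef8c5f16c6318c62f8c5ef8c5f17c5ef8c66d8d6317be719be319be2f8be2d7ce2f7bdef8c62f8c5ef8c6719c5f38c5f16c5b17bdf17be317be2f8be317beb37cdef8c62f6b5ef8c5f17c66f8c5f18c5ad6c62f8c5ef8c5f19b5ef8b5f18c62d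

/-- the rows of the matrix -/
def c1m3g5Z : List (List ℤ) :=
  [[.negSucc 2, .negSucc 2, .negSucc 0, .ofNat 1, .negSucc 0, .ofNat 1, .ofNat 1, .ofNat 1, .ofNat 3, .ofNat 1, .ofNat 3, .negSucc 0, .negSucc 0, .ofNat 1, .negSucc 0, .ofNat 1, .ofNat 1, .ofNat 1, .ofNat 1, .ofNat 1, .ofNat 1, .negSucc 0, .negSucc 2, .ofNat 1],
  [.ofNat 1, .negSucc 2, .negSucc 0, .negSucc 2, .negSucc 0, .ofNat 1, .ofNat 1, .negSucc 2, .negSucc 0, .negSucc 2, .negSucc 0, .negSucc 0, .negSucc 0, .ofNat 1, .negSucc 0, .negSucc 2, .ofNat 1, .ofNat 1, .ofNat 1, .ofNat 1, .ofNat 1, .negSucc 0, .ofNat 1, .ofNat 1],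
  [.ofNat 1, .ofNat 1, .ofNat 3, .ofNat 1, .negSucc 0, .ofNat 5, .ofNat 1, .ofNat 1, .negSucc 0, .ofNat 1, .negSucc 0, .negSucc 0, .negSucc 0, .ofNat 1, .negSucc 0, .ofNat 1, .ofNat 1, .ofNat 1, .ofNat 1, .ofNat 1, .ofNat 1, .ofNat 3, .ofNat 1, .ofNat 1],
  [.ofNat 1, .ofNat 1, .negSucc 0, .negSucc 2, .negSucc 0, .ofNat 1, .negSucc 2, .ofNat 1, .negSucc 0, .ofNat 1, .negSucc 0, .negSucc 0, .negSucc 0, .negSucc 2, .negSucc 0, .ofNat 1, .ofNat 1, .ofNat 1, .ofNat 1, .ofNat 1, .ofNat 1, .negSucc 0, .negSucc 2, .negSucc 2],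
  [.ofNat 1, .ofNat 1, .ofNat 3, .ofNat 1, .negSucc 0, .negSucc 2, .ofNat 1, .ofNat 1, .negSucc 0, .ofNat 1, .negSucc 0, .negSucc 0, .negSucc 0, .ofNat 1, .negSucc 0, .ofNat 1, .ofNat 1, .ofNat 1, .ofNat 1, .ofNat 1, .ofNat 1, .negSucc 4, .ofNat 1, .ofNat 1],
  [.negSucc 0, .negSucc 0, .ofNat 5, .negSucc 0, .ofNat 1, .ofNat 3, .negSucc 0, .negSucc 0, .ofNat 1, .negSucc 0, .ofNat 1, .ofNat 1, .ofNat 1, .negSucc 0, .ofNat 1, .negSucc 0, .negSucc 0, .negSucc 0, .negSucc 0, .negSucc 0, .negSucc 0, .negSucc 2, .negSucc 0, .negSucc 0],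
  [.negSucc 2, .ofNat 1, .negSucc 0, .ofNat 1, .ofNat 3, .ofNat 1, .ofNat 1, .negSucc 2, .negSucc 0, .ofNat 1, .negSucc 0, .negSucc 0, .negSucc 0, .negSucc 2, .ofNat 3, .ofNat 1, .ofNat 1, .ofNat 1, .ofNat 1, .ofNat 1, .ofNat 1, .negSucc 0, .ofNat 1, .ofNat 1],
  [.ofNat 1, .ofNat 1, .negSucc 0, .ofNat 1, .negSucc 0, .ofNat 1, .ofNat 1, .negSucc 2, .ofNat 3, .ofNat 1, .negSucc 0, .ofNat 3, .negSucc 0, .ofNat 1, .negSucc 0, .ofNat 1, .ofNat 1, .negSucc 2, .ofNat 1, .ofNat 1, .ofNat 1, .negSucc 0, .ofNat 1, .negSucc 2],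
  [.negSucc 0, .negSucc 0, .ofNat 1, .ofNat 3, .negSucc 2, .negSucc 0, .negSucc 0, .negSucc 0, .ofNat 1, .negSucc 0, .negSucc 2, .ofNat 1, .ofNat 1, .negSucc 0, .ofNat 1, .negSucc 0, .negSucc 0, .ofNat 3, .ofNat 3, .negSucc 0, .negSucc 0, .ofNat 1, .negSucc 0, .negSucc 0],
  [.negSucc 0, .ofNat 3, .ofNat 1, .negSucc 0, .ofNat 1, .negSucc 0, .negSucc 0, .negSucc 0, .ofNat 1, .negSucc 0, .ofNat 1, .ofNat 1, .ofNat 1, .ofNat 3, .ofNat 1, .negSucc 0, .ofNat 3, .ofNat 3, .negSucc 0, .ofNat 3, .negSucc 0, .ofNat 1, .negSucc 0, .negSucc 0],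
  [.negSucc 2, .ofNat 1, .negSucc 0, .ofNat 1, .negSucc 0, .ofNat 1, .negSucc 2, .ofNat 1, .negSucc 0, .negSucc 2, .negSucc 0, .negSucc 0, .negSucc 0, .ofNat 1, .negSucc 0, .ofNat 1, .ofNat 1, .negSucc 2, .ofNat 1, .ofNat 1, .negSucc 2, .negSucc 0, .ofNat 1, .ofNat 1],
  [.ofNat 3, .negSucc 0, .ofNat 1, .ofNat 3, .ofNat 1, .negSucc 0, .negSucc 0, .negSucc 0, .ofNat 1, .negSucc 0, .ofNat 1, .negSucc 2, .negSucc 2, .negSucc 0, .ofNat 1, .negSucc 0, .negSucc 0, .negSucc 0, .negSucc 0, .ofNat 3, .negSucc 0, .ofNat 1, .negSucc 0, .negSucc 0],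
  [.ofNat 1, .ofNat 1, .negSucc 0, .ofNat 1, .negSucc 0, .ofNat 1, .ofNat 1, .ofNat 1, .negSucc 0, .ofNat 1, .ofNat 3, .ofNat 3, .negSucc 0, .negSucc 2, .negSucc 0, .negSucc 2, .ofNat 1, .ofNat 1, .ofNat 1, .ofNat 1, .negSucc 2, .negSucc 0, .ofNat 1, .ofNat 1],
  [.negSucc 0, .negSucc 0, .ofNat 1, .ofNat 3, .ofNat 1, .negSucc 0, .negSucc 0, .negSucc 0, .negSucc 2, .negSucc 0, .ofNat 1, .ofNat 1, .ofNat 1, .negSucc 0, .negSucc 2, .negSucc 0, .ofNat 3, .negSucc 0, .negSucc 0, .negSucc 0, .ofNat 3, .ofNat 1, .negSucc 0, .negSucc 0],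
  [.ofNat 1, .ofNat 1, .negSucc 0, .ofNat 1, .negSucc 0, .ofNat 1, .ofNat 1, .ofNat 1, .ofNat 3, .negSucc 2, .negSucc 0, .negSucc 0, .ofNat 3, .negSucc 2, .negSucc 0, .ofNat 1, .ofNat 1, .ofNat 1, .negSucc 2, .ofNat 1, .ofNat 1, .negSucc 0, .ofNat 1, .ofNat 1],
  [.ofNat 1, .ofNat 1, .negSucc 0, .ofNat 1, .ofNat 3, .ofNat 1, .ofNat 1, .ofNat 1, .negSucc 0, .negSucc 2, .negSucc 0, .ofNat 3, .negSucc 0, .ofNat 1, .negSucc 0, .ofNat 1, .negSucc 2, .ofNat 1, .ofNat 1, .ofNat 1, .ofNat 1, .negSucc 0, .negSucc 2, .ofNat 1],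
  [.negSucc 0, .negSucc 0, .ofNat 1, .negSucc 0, .ofNat 1, .negSucc 0, .negSucc 0, .negSucc 0, .ofNat 1, .ofNat 3, .negSucc 2, .ofNat 1, .ofNat 1, .negSucc 0, .negSucc 2, .negSucc 0, .negSucc 0, .negSucc 0, .negSucc 0, .ofNat 3, .negSucc 0, .ofNat 1, .negSucc 0, .ofNat 3],
  [.negSucc 0, .negSucc 0, .ofNat 1, .negSucc 0, .ofNat 1, .negSucc 0, .ofNat 3, .ofNat 3, .ofNat 1, .negSucc 0, .negSucc 2, .ofNat 1, .negSucc 2, .negSucc 0, .ofNat 1, .negSucc 0, .ofNat 3, .negSucc 0, .negSucc 0, .negSucc 0, .negSucc 0, .ofNat 1, .negSucc 0, .negSucc 0],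
  [.ofNat 1, .negSucc 2, .negSucc 0, .ofNat 1, .negSucc 0, .ofNat 1, .negSucc 2, .ofNat 1, .negSucc 0, .ofNat 1, .negSucc 0, .ofNat 3, .negSucc 0, .ofNat 1, .ofNat 3, .ofNat 1, .ofNat 1, .ofNat 1, .negSucc 2, .ofNat 1, .ofNat 1, .negSucc 0, .ofNat 1, .ofNat 1],
  [.ofNat 1, .negSucc 2, .negSucc 0, .ofNat 1, .ofNat 3, .ofNat 1, .ofNat 1, .ofNat 1, .negSucc 0, .ofNat 1, .negSucc 0, .negSucc 0, .ofNat 3, .ofNat 1, .negSucc 0, .ofNat 1, .ofNat 1, .ofNat 1, .ofNat 1, .ofNat 1, .negSucc 2, .negSucc 0, .ofNat 1, .negSucc 2],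
  [.negSucc 0, .negSucc 0, .ofNat 1, .negSucc 0, .ofNat 1, .negSucc 0, .negSucc 0, .negSucc 0, .ofNat 1, .negSucc 0, .ofNat 1, .ofNat 1, .negSucc 2, .negSucc 0, .negSucc 2, .ofNat 3, .negSucc 0, .ofNat 3, .negSucc 0, .negSucc 0, .negSucc 0, .ofNat 1, .ofNat 3, .negSucc 0],
  [.ofNat 1, .ofNat 1, .negSucc 0, .ofNat 1, .ofNat 3, .ofNat 1, .negSucc 2, .ofNat 1, .ofNat 3, .ofNat 1, .negSucc 0, .negSucc 0, .negSucc 0, .ofNat 1, .negSucc 0, .negSucc 2, .ofNat 1, .ofNat 1, .ofNat 1, .negSucc 2, .ofNat 1, .negSucc 0, .ofNat 1, .ofNat 1],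
  [.ofNat 1, .ofNat 1, .negSucc 0, .ofNat 1, .negSucc 0, .ofNat 1, .ofNat 1, .negSucc 2, .negSucc 0, .ofNat 1, .negSucc 0, .negSucc 0, .negSucc 0, .ofNat 1, .negSucc 0, .ofNat 1, .ofNat 1, .ofNat 1, .negSucc 2, .negSucc 2, .negSucc 2, .negSucc 0, .negSucc 2, .ofNat 1],
  [.negSucc 2, .ofNat 1, .negSucc 0, .ofNat 1, .negSucc 0, .ofNat 1, .ofNat 1, .ofNat 1, .negSucc 0, .ofNat 1, .negSucc 0, .negSucc 0, .negSucc 0, .ofNat 1, .negSucc 0, .negSucc 2, .negSucc 2, .ofNat 1, .negSucc 2, .ofNat 1, .ofNat 1, .negSucc 0, .ofNat 1, .negSucc 2]]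

theorem c1m3g5_tr : ∀ q p : GolayPt, mfun c1m3g5t q p = mfun c1m3g5 p q := by decide +kernel

theorem c1m3g5_lat : GamChk (mfun c1m3g5) := by decide +kernel

theorem c1m3g5_latT : GamChk (mfun c1m3g5t) := by decide +kernel

theorem c1m3g5_orth : LOrth (mfun c1m3g5) := by decide +kernel

theorem c1m3g5_orthT : LOrth (mfun c1m3g5t) := by decide +kernel

theorem c1m3g5_ok : MatOk c1m3g5 c1m3g5t := ⟨c1m3g5_tr, c1m3g5_lat, c1m3g5_latT, c1m3g5_orth, c1m3g5_orthT⟩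

theorem c1m3g5_rows : c1m3g5Z = rowsL c1m3g5 := by decide +kernel

/-- the element of `Co0` -/
def c1m3g5E : ↥Co0 := matEN c1m3g5 c1m3g5t c1m3g5_ok

theorem c1m3g5_rep : RepZ c1m3g5Z c1m3g5E := RepZ.of_mat (matEN_rep _ _ _) c1m3g5_rows

end Cfsg.Agent.Lib.Helper26.C1M
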