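import Cfsg.Agent.Lib.Helper26.C1M.Front

set_option autoImplicit false
set_option maxRecDepth 1000000

/-!
# Project C1M: the polycyclic generator c1m3g6 of the Sylow 3-subgroup (generated)
-/

namespace Cfsg.Agent.Lib.Helper26.C1M

open Cfsg Cfsg.Agent.Lib.Lead.CW Cfsg.Agent.Lib.helper3 Cfsg.Agent.Lib.Helper26.Co1O

/-- the packed matrix -/
def c1m3g6 : ℕ := 0xabe2f7be2f7bded8c5f17be318bdb18bdb37be2f7bdf18c5f17bdad8ce318ce337be337bdf16c6717be318be317b5f16b5f18c62f7be2f6c5f37c5ef8bdaf9bdaf7cdf16c5f17be318be318bdaf7ce337be718c5f17ce318be318be2f7ce2f7bdf16c5ed7be318ce2d8be2f7be337cdf18c5ed7be2d6be318be339be2f9bdf18c5ed7ce318be317c5f18c5f18c62f9be2f6b66f9c5ef7c5f18c66d6c62f7be2f6c5ef7b5ef6be2f7be2f7bdf58c5f17be318bdb17c5f18c5f16c5af9ce2f8c5f37c5ef8be2f7ce2f9cdf18c6717bdb18be318be2f7bdaf7bdf18c6717ce2d8be2d8be2f9be2f7be718c6717be316ce318bdaf7be2f7bdf18b66d9be318be317c5f16c5ed8c62f7ce2f8c66f7c5f37b5f18c5f18b62f7ce2f8b5ef7b5ef8cdaf7be2f9bdf18c5f17be316be2d7c5ed8b6718c62f7ce2f8c5ef9c5ef8ce2f7bdaf7be718c5ed7bdb18be316be2f7be2f7bded8c5f17be318beb17c5ed8c5f18b5af7be2f6c5ef7c5f3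

/-- the packed transposed matrix -/
def c1m3g6t : ℕ := 0xac62f8c6318bded7c6318bdf17c5af7be6d7bdef7c62f8bdef7c5b38cdf18b62f6b6318bdf17c6316bded7c62f7ce717bdef9c62f8bdef7c62f6bded7bded9bdef9c62f8bdf37b62f8bdf17bded7ce6f7c62f8cdef7c62f6bdf18c62f6c6318be717c5b18bdf19b62f7be717cdf37c5af8bdef7b62f8bdf17bdf17bdef9c5af6cdef7c6338bdf17bdf19bdf37c62f8cdef7c5af8bded7bdf17cdef7c62f6bdf37c62f8cded6c62f8c6318bdf57c6318bdf17c5af8c5af6c5b18cdf19c6318bdf17c62f8c62f8c6318bdf19c6316ce719c62f7be717bdef7c62f8ce739c62f8bdf18c62f8c5ad6bdf17c6316bdf17b62f7bded7bdef7b5af8bdef9c62f8bded7bdf17cdef9b62f8be6f7c5af8bdf18b62f8c6318cdf17b6318cdf17b62f8b6338c62d8bdf19c5b18bdf17c62f8c62f8c62d8cdf17c62d8bded9c62f7cdf17be6f7c5af8bdf37c5af8bdf16c62f8c6318bded7c6318bdf17c6af8c62f8c5b18bdf17c5b18cded7c633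

/-- the rows of the matrix -/
def c1m3g6Z : List (List ℤ) :=
  [[.ofNat 3, .negSucc 0, .ofNat 1, .negSucc 0, .negSucc 0, .negSucc 0, .ofNat 1, .negSucc 2, .negSucc 0, .ofNat 1, .negSucc 0, .negSucc 0, .negSucc 0, .negSucc 2, .negSucc 2, .ofNat 1, .ofNat 1, .negSucc 0, .ofNat 1, .ofNat 1, .negSucc 2, .negSucc 0, .ofNat 1, .negSucc 0],
  [.ofNat 1, .ofNat 5, .negSucc 0, .ofNat 1, .ofNat 1, .ofNat 1, .negSucc 0, .negSucc 0, .ofNat 1, .negSucc 0, .ofNat 1, .ofNat 1, .negSucc 2, .negSucc 0, .negSucc 0, .negSucc 0, .negSucc 0, .ofNat 1, .negSucc 0, .negSucc 0, .negSucc 0, .ofNat 1, .negSucc 0, .negSucc 2],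
  [.ofNat 1, .ofNat 1, .negSucc 0, .ofNat 1, .ofNat 1, .negSucc 2, .negSucc 0, .negSucc 0, .negSucc 2, .negSucc 0, .ofNat 1, .ofNat 1, .ofNat 1, .ofNat 3, .negSucc 0, .negSucc 0, .negSucc 0, .negSucc 2, .negSucc 0, .negSucc 0, .negSucc 0, .ofNat 1, .ofNat 3, .ofNat 1],
  [.negSucc 0, .negSucc 0, .ofNat 1, .ofNat 3, .negSucc 0, .negSucc 0, .ofNat 1, .ofNat 1, .negSucc 0, .ofNat 1, .ofNat 3, .negSucc 0, .negSucc 0, .ofNat 1, .ofNat 1, .ofNat 1, .ofNat 1, .ofNat 3, .negSucc 2, .ofNat 1, .negSucc 2, .negSucc 0, .ofNat 1, .negSucc 0],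
  [.negSucc 2, .ofNat 1, .negSucc 0, .negSucc 2, .ofNat 1, .ofNat 1, .negSucc 0, .negSucc 0, .ofNat 1, .negSucc 0, .ofNat 1, .ofNat 1, .ofNat 1, .negSucc 0, .negSucc 0, .ofNat 3, .negSucc 0, .ofNat 1, .negSucc 0, .negSucc 0, .negSucc 0, .negSucc 2, .ofNat 3, .ofNat 1],
  [.negSucc 0, .negSucc 0, .negSucc 2, .negSucc 0, .negSucc 0, .negSucc 0, .negSucc 2, .ofNat 1, .negSucc 0, .ofNat 1, .ofNat 3, .negSucc 0, .negSucc 0, .ofNat 1, .negSucc 2, .ofNat 1, .ofNat 1, .negSucc 0, .ofNat 1, .ofNat 1, .ofNat 1, .negSucc 0, .negSucc 2, .negSucc 0],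
  [.ofNat 3, .negSucc 0, .ofNat 1, .negSucc 0, .negSucc 0, .ofNat 3, .ofNat 1, .ofNat 1, .negSucc 0, .ofNat 1, .ofNat 3, .negSucc 0, .negSucc 0, .ofNat 1, .ofNat 1, .ofNat 1, .negSucc 2, .negSucc 0, .ofNat 1, .negSucc 2, .ofNat 1, .negSucc 0, .ofNat 1, .negSucc 0],
  [.ofNat 1, .ofNat 1, .negSucc 0, .ofNat 1, .ofNat 1, .ofNat 1, .negSucc 0, .ofNat 3, .negSucc 2, .ofNat 3, .negSucc 2, .ofNat 1, .ofNat 1, .negSucc 0, .negSucc 0, .negSucc 0, .negSucc 0, .ofNat 1, .negSucc 0, .negSucc 0, .negSucc 0, .negSucc 2, .negSucc 0, .ofNat 1],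
  [.ofNat 1, .ofNat 1, .ofNat 3, .negSucc 2, .ofNat 1, .ofNat 1, .negSucc 0, .negSucc 0, .ofNat 1, .ofNat 3, .ofNat 1, .ofNat 1, .ofNat 1, .ofNat 3, .negSucc 0, .negSucc 0, .negSucc 0, .ofNat 1, .negSucc 0, .ofNat 3, .negSucc 0, .ofNat 1, .negSucc 0, .ofNat 1],
  [.negSucc 2, .ofNat 1, .negSucc 0, .ofNat 1, .negSucc 2, .ofNat 1, .ofNat 3, .negSucc 0, .ofNat 1, .ofNat 3, .ofNat 1, .ofNat 1, .ofNat 1, .negSucc 0, .negSucc 0, .negSucc 0, .negSucc 0, .negSucc 2, .negSucc 0, .negSucc 0, .negSucc 0, .ofNat 1, .negSucc 0, .ofNat 1],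
  [.ofNat 1, .ofNat 1, .negSucc 0, .ofNat 1, .ofNat 1, .negSucc 2, .negSucc 0, .negSucc 0, .ofNat 1, .ofNat 3, .ofNat 1, .ofNat 1, .ofNat 1, .negSucc 0, .ofNat 3, .ofNat 3, .negSucc 0, .ofNat 1, .ofNat 3, .negSucc 0, .negSucc 0, .ofNat 1, .negSucc 0, .ofNat 1],
  [.negSucc 0, .negSucc 0, .ofNat 1, .negSucc 0, .ofNat 3, .negSucc 0, .ofNat 1, .ofNat 1, .negSucc 0, .ofNat 1, .ofNat 3, .ofNat 3, .negSucc 0, .negSucc 2, .ofNat 1, .negSucc 2, .ofNat 1, .negSucc 0, .ofNat 1, .ofNat 1, .ofNat 1, .negSucc 0, .ofNat 1, .negSucc 0],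
  [.ofNat 1, .negSucc 2, .negSucc 0, .ofNat 1, .ofNat 1, .ofNat 1, .negSucc 0, .negSucc 0, .ofNat 1, .negSucc 0, .ofNat 1, .ofNat 1, .ofNat 5, .negSucc 0, .negSucc 0, .negSucc 0, .negSucc 0, .ofNat 1, .negSucc 0, .negSucc 0, .negSucc 0, .ofNat 1, .negSucc 0, .negSucc 2],
  [.negSucc 0, .negSucc 0, .negSucc 2, .negSucc 0, .negSucc 0, .negSucc 0, .ofNat 1, .negSucc 2, .negSucc 0, .ofNat 1, .negSucc 0, .negSucc 0, .negSucc 0, .ofNat 1, .ofNat 1, .negSucc 2, .negSucc 2, .ofNat 3, .ofNat 1, .ofNat 1, .ofNat 1, .negSucc 0, .ofNat 1, .negSucc 0],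
  [.negSucc 0, .negSucc 0, .ofNat 1, .ofNat 3, .negSucc 0, .ofNat 3, .negSucc 2, .negSucc 2, .negSucc 0, .ofNat 1, .negSucc 0, .ofNat 3, .negSucc 0, .ofNat 1, .ofNat 1, .ofNat 1, .ofNat 1, .negSucc 0, .ofNat 1, .ofNat 1, .ofNat 1, .negSucc 0, .ofNat 1, .negSucc 0],
  [.ofNat 1, .ofNat 1, .negSucc 0, .ofNat 1, .ofNat 1, .ofNat 1, .ofNat 3, .negSucc 0, .negSucc 2, .negSucc 0, .ofNat 1, .ofNat 1, .ofNat 1, .negSucc 0, .negSucc 0, .ofNat 3, .negSucc 0, .ofNat 1, .negSucc 0, .ofNat 3, .ofNat 3, .ofNat 1, .negSucc 0, .ofNat 1],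
  [.ofNat 1, .ofNat 1, .negSucc 0, .negSucc 2, .negSucc 2, .ofNat 1, .negSucc 0, .negSucc 0, .negSucc 2, .negSucc 0, .ofNat 1, .ofNat 1, .ofNat 1, .negSucc 0, .ofNat 3, .negSucc 0, .ofNat 3, .ofNat 1, .negSucc 0, .negSucc 0, .negSucc 0, .ofNat 1, .negSucc 0, .ofNat 1],
  [.negSucc 2, .ofNat 1, .ofNat 3, .ofNat 1, .ofNat 1, .ofNat 1, .negSucc 0, .negSucc 0, .negSucc 2, .negSucc 0, .ofNat 1, .negSucc 2, .ofNat 1, .negSucc 0, .negSucc 0, .negSucc 0, .negSucc 0, .ofNat 1, .ofNat 3, .negSucc 0, .negSucc 0, .ofNat 1, .negSucc 0, .ofNat 1],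
  [.ofNat 1, .ofNat 1, .negSucc 0, .ofNat 1, .ofNat 1, .ofNat 1, .ofNat 3, .negSucc 0, .ofNat 1, .negSucc 0, .ofNat 1, .ofNat 1, .ofNat 1, .ofNat 3, .negSucc 0, .negSucc 0, .ofNat 3, .ofNat 1, .ofNat 3, .negSucc 0, .negSucc 0, .negSucc 2, .negSucc 0, .ofNat 1],
  [.ofNat 1, .ofNat 1, .negSucc 0, .ofNat 1, .ofNat 1, .ofNat 1, .negSucc 0, .negSucc 0, .ofNat 1, .negSucc 0, .ofNat 1, .negSucc 2, .ofNat 1, .negSucc 0, .ofNat 3, .negSucc 0, .negSucc 0, .negSucc 2, .negSucc 0, .ofNat 3, .negSucc 0, .negSucc 2, .negSucc 0, .ofNat 1],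
  [.negSucc 0, .negSucc 0, .ofNat 1, .negSucc 0, .ofNat 3, .negSucc 0, .ofNat 1, .negSucc 2, .negSucc 0, .ofNat 1, .negSucc 0, .negSucc 0, .negSucc 0, .ofNat 1, .ofNat 1, .ofNat 1, .ofNat 1, .negSucc 0, .negSucc 2, .negSucc 2, .ofNat 1, .negSucc 0, .negSucc 2, .negSucc 0],
  [.ofNat 1, .ofNat 1, .negSucc 0, .ofNat 1, .ofNat 1, .ofNat 1, .negSucc 0, .negSucc 0, .ofNat 1, .ofNat 3, .ofNat 1, .negSucc 2, .ofNat 1, .negSucc 0, .negSucc 0, .negSucc 0, .ofNat 3, .ofNat 1, .negSucc 0, .negSucc 0, .ofNat 3, .ofNat 1, .ofNat 3, .ofNat 1],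
  [.ofNat 1, .ofNat 1, .ofNat 3, .ofNat 1, .negSucc 2, .negSucc 2, .negSucc 0, .negSucc 0, .ofNat 1, .negSucc 0, .ofNat 1, .ofNat 1, .ofNat 1, .negSucc 0, .negSucc 0, .negSucc 0, .negSucc 0, .ofNat 1, .negSucc 0, .negSucc 0, .ofNat 3, .negSucc 2, .negSucc 0, .ofNat 1],
  [.ofNat 1, .negSucc 2, .negSucc 0, .ofNat 1, .ofNat 1, .ofNat 1, .negSucc 0, .negSucc 0, .ofNat 1, .negSucc 0, .ofNat 1, .ofNat 1, .negSucc 2, .negSucc 0, .negSucc 0, .negSucc 0, .negSucc 0, .ofNat 1, .negSucc 0, .negSucc 0, .negSucc 0, .ofNat 1, .negSucc 0, .ofNat 5]]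

theorem c1m3g6_tr : ∀ q p : GolayPt, mfun c1m3g6t q p = mfun c1m3g6 p q := by decide +kernel

theorem c1m3g6_lat : GamChk (mfun c1m3g6) := by decide +kernel

theorem c1m3g6_latT : GamChk (mfun c1m3g6t) := by decide +kernel

theorem c1m3g6_orth : LOrth (mfun c1m3g6) := by decide +kernel

theorem c1m3g6_orthT : LOrth (mfun c1m3g6t) := by decide +kernel

theorem c1m3g6_ok : MatOk c1m3g6 c1m3g6t := ⟨c1m3g6_tr, c1m3g6_lat, c1m3g6_latT, c1m3g6_orth, c1m3g6_orthT⟩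

theorem c1m3g6_rows : c1m3g6Z = rowsL c1m3g6 := by decide +kernel

/-- the element of `Co0` -/
def c1m3g6E : ↥Co0 := matEN c1m3g6 c1m3g6t c1m3g6_ok

theorem c1m3g6_rep : RepZ c1m3g6Z c1m3g6E := RepZ.of_mat (matEN_rep _ _ _) c1m3g6_rows

end Cfsg.Agent.Lib.Helper26.C1M
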