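import Cfsg.Agent.Lib.Helper26.C1M.Front

set_option autoImplicit false
set_option maxRecDepth 1000000

/-!
# Project C1M: the polycyclic generator c1m3g7 of the Sylow 3-subgroup (generated)
-/

namespace Cfsg.Agent.Lib.Helper26.C1M

open Cfsg Cfsg.Agent.Lib.Lead.CW Cfsg.Agent.Lib.helper3 Cfsg.Agent.Lib.Helper26.Co1O

/-- the packed matrix -/
def c1m3g7 : ℕ := 0x9be2d9be2f7c5ef7c5f38bdf37c62f8c5ef8c5f18bdb18be317c5ad8cded6c5ef8c5f18bdb16ce317b6318bdf17be317bdb37c6737c5f38bdef7c62f8c5f38c5f18be2d6bdb17c5b18bdf18b5ef6c5f18be2d8ce317c6318bded9be317ce2f7c5f37c5ef8bdef9b62f7be319be339c5ef9c5ef8bdef7b62f7beb17be2f7b5ef7c5ef6bdef7c62f7bdb17be2f7d5ef7c5ef6bdef7c62f7be319ce2f7c66f7c66f8bdef7c5af7be317be2f9c5f37c5ef8cdf37c5af7ce317cdaf7c5ef9c5ef8bdf37c62f8c5f38c6718be318ce317c6318ce716b5ef8c5ed8be318be317c5b18be718c5ef8c5ed8be318cdb17c62d6bdf17bdb17be2f7b5ef7c5efabdef7c62f7ce317be2f7c5ef7c6738cdef7b62f7be317ce2f9c5ef7b5f38be6f7c62f8c5ef6c6718be318be317b5b16bdf17ce2d7be2f9c66f7c5ef8bdef9c62f7be317be2f7c5ef9c5f38bdef9c5b37be2d7ce337c5ef7c5ef8cdef7c6339be317bdaf9c5ef7c66f8bdef7c633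

/-- the packed transposed matrix -/
def c1m3g7t : ℕ := 0x9c5af8c66f7bdef7c5b17bdf17bdf37c62f8b5ef7bdef9c5b17cdf19bdef8bdf17be31ab6318bdef6c62f8c6316bdf19be318c6318cdef8c62f6c5b19c62f8b5f37be6f7c6317bded7bdef7c62f8c66f7be6f9c6317be717be6f8bded7be318c6316cdef8c6338c62d7c6338c5f37bdef7c5ad7bdf17be6f7c62f8c5f37bdf37c6317be719bdf38bdf17be316d6318bdef6c62f8c6317b5b38c5ef7be6f7c6317bdf19bdef7c6336b66f7bdf37c6317bdf17bdef7c5af6c5f37bdef9c6317bdf17cdef8be717ce318c6318cdf38c5af8c6317c62f6c5ef7be6f7c62d7cdf17bdf39c6338c5ef7bdef7c6317ce717cdef8bdf17be316b6318bdefac62f8c6317c5af8c5ef7bdf37c6317cded7be6f7b62f6c5ef7bdef7c5b17be6d7bdef9b62f8c5ef7bdf39c62d7bdf17bdef7c62f8c66f7bdef7c62d7bded9cdef8cdf17bdad8c6318cdef8b62f8c6318bdf17be318c5ad8ce6f8c62f8b6317b62f8b5ef7bdef7c6317bdf17ce73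

/-- the rows of the matrix -/
def c1m3g7Z : List (List ℤ) :=
  [[.ofNat 3, .ofNat 1, .ofNat 1, .negSucc 0, .negSucc 0, .negSucc 0, .negSucc 0, .ofNat 1, .negSucc 0, .ofNat 3, .ofNat 1, .negSucc 0, .negSucc 0, .negSucc 0, .ofNat 1, .ofNat 3, .negSucc 0, .negSucc 2, .negSucc 0, .negSucc 0, .ofNat 1, .ofNat 1, .negSucc 0, .ofNat 3],
  [.ofNat 3, .ofNat 1, .ofNat 1, .negSucc 0, .negSucc 0, .negSucc 0, .ofNat 3, .ofNat 1, .negSucc 0, .negSucc 0, .ofNat 1, .negSucc 0, .negSucc 0, .negSucc 0, .ofNat 1, .negSucc 0, .ofNat 3, .ofNat 1, .ofNat 3, .negSucc 0, .negSucc 2, .ofNat 1, .negSucc 0, .negSucc 0],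
  [.ofNat 3, .negSucc 2, .ofNat 1, .ofNat 3, .negSucc 0, .negSucc 0, .negSucc 0, .ofNat 1, .ofNat 3, .negSucc 0, .ofNat 1, .ofNat 3, .negSucc 0, .negSucc 0, .ofNat 1, .negSucc 0, .negSucc 0, .ofNat 1, .negSucc 0, .negSucc 0, .ofNat 1, .ofNat 1, .negSucc 0, .negSucc 0],
  [.negSucc 0, .ofNat 1, .ofNat 1, .ofNat 3, .negSucc 0, .negSucc 0, .negSucc 0, .ofNat 1, .negSucc 0, .negSucc 0, .ofNat 1, .negSucc 0, .negSucc 0, .ofNat 3, .ofNat 1, .ofNat 3, .negSucc 0, .ofNat 1, .negSucc 0, .negSucc 0, .negSucc 2, .ofNat 1, .ofNat 3, .negSucc 0],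
  [.ofNat 1, .negSucc 0, .negSucc 0, .negSucc 2, .ofNat 1, .negSucc 2, .negSucc 2, .negSucc 0, .ofNat 1, .ofNat 1, .negSucc 0, .ofNat 1, .ofNat 1, .ofNat 1, .negSucc 0, .ofNat 1, .ofNat 1, .ofNat 3, .ofNat 1, .negSucc 2, .negSucc 0, .negSucc 0, .ofNat 1, .ofNat 1],
  [.negSucc 0, .ofNat 1, .ofNat 1, .negSucc 0, .negSucc 0, .ofNat 3, .negSucc 0, .ofNat 1, .ofNat 3, .negSucc 0, .negSucc 2, .negSucc 0, .negSucc 0, .negSucc 0, .ofNat 1, .ofNat 3, .negSucc 0, .ofNat 1, .ofNat 3, .negSucc 0, .ofNat 1, .ofNat 1, .negSucc 0, .negSucc 0],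
  [.negSucc 0, .ofNat 1, .negSucc 2, .negSucc 0, .negSucc 0, .negSucc 0, .ofNat 3, .ofNat 1, .ofNat 3, .ofNat 3, .ofNat 1, .negSucc 0, .negSucc 0, .negSucc 0, .ofNat 1, .negSucc 0, .negSucc 0, .ofNat 1, .negSucc 0, .negSucc 0, .ofNat 1, .ofNat 1, .ofNat 3, .negSucc 0],
  [.negSucc 0, .ofNat 1, .ofNat 1, .negSucc 0, .negSucc 0, .negSucc 0, .negSucc 0, .ofNat 5, .negSucc 0, .negSucc 0, .ofNat 1, .negSucc 0, .negSucc 0, .negSucc 0, .negSucc 2, .negSucc 0, .negSucc 0, .ofNat 1, .negSucc 0, .negSucc 0, .ofNat 1, .negSucc 2, .negSucc 0, .negSucc 0],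
  [.ofNat 1, .negSucc 0, .negSucc 0, .negSucc 2, .negSucc 2, .ofNat 1, .ofNat 1, .negSucc 0, .ofNat 1, .negSucc 2, .ofNat 3, .ofNat 1, .ofNat 1, .ofNat 1, .negSucc 0, .ofNat 1, .negSucc 2, .negSucc 0, .ofNat 1, .ofNat 1, .negSucc 0, .negSucc 0, .ofNat 1, .ofNat 1],
  [.ofNat 1, .ofNat 3, .negSucc 0, .ofNat 1, .ofNat 1, .negSucc 2, .ofNat 1, .negSucc 0, .ofNat 1, .ofNat 1, .negSucc 0, .ofNat 1, .ofNat 1, .ofNat 1, .negSucc 0, .ofNat 1, .negSucc 2, .negSucc 0, .ofNat 1, .ofNat 1, .negSucc 0, .negSucc 0, .negSucc 2, .negSucc 2],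
  [.ofNat 1, .ofNat 3, .ofNat 3, .ofNat 1, .ofNat 1, .ofNat 1, .ofNat 1, .negSucc 0, .ofNat 1, .ofNat 1, .ofNat 3, .ofNat 1, .ofNat 1, .ofNat 1, .negSucc 0, .ofNat 1, .ofNat 1, .ofNat 3, .ofNat 1, .ofNat 1, .ofNat 3, .negSucc 0, .ofNat 1, .ofNat 1],
  [.negSucc 0, .ofNat 1, .ofNat 1, .negSucc 0, .ofNat 3, .negSucc 0, .negSucc 0, .ofNat 1, .negSucc 0, .negSucc 0, .ofNat 1, .ofNat 3, .negSucc 0, .negSucc 0, .ofNat 1, .negSucc 0, .negSucc 0, .negSucc 2, .ofNat 3, .negSucc 0, .ofNat 1, .ofNat 1, .ofNat 3, .negSucc 0],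
  [.negSucc 0, .negSucc 2, .ofNat 1, .negSucc 0, .ofNat 3, .negSucc 0, .ofNat 3, .ofNat 1, .negSucc 0, .negSucc 0, .ofNat 1, .negSucc 0, .ofNat 3, .negSucc 0, .ofNat 1, .ofNat 3, .negSucc 0, .ofNat 1, .negSucc 0, .negSucc 0, .ofNat 1, .ofNat 1, .negSucc 0, .negSucc 0],
  [.negSucc 0, .negSucc 2, .ofNat 1, .negSucc 0, .negSucc 0, .negSucc 0, .negSucc 0, .ofNat 1, .negSucc 0, .ofNat 3, .ofNat 1, .negSucc 0, .negSucc 0, .ofNat 3, .ofNat 1, .negSucc 0, .negSucc 0, .ofNat 1, .ofNat 3, .ofNat 3, .ofNat 1, .ofNat 1, .negSucc 0, .negSucc 0],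
  [.negSucc 0, .ofNat 1, .ofNat 1, .negSucc 0, .negSucc 0, .negSucc 0, .negSucc 0, .negSucc 2, .negSucc 0, .negSucc 0, .ofNat 1, .negSucc 0, .negSucc 0, .negSucc 0, .ofNat 5, .negSucc 0, .negSucc 0, .ofNat 1, .negSucc 0, .negSucc 0, .ofNat 1, .negSucc 2, .negSucc 0, .negSucc 0],
  [.negSucc 0, .ofNat 1, .ofNat 1, .negSucc 0, .negSucc 0, .negSucc 0, .negSucc 0, .negSucc 2, .negSucc 0, .negSucc 0, .ofNat 1, .negSucc 0, .negSucc 0, .negSucc 0, .negSucc 2, .negSucc 0, .negSucc 0, .ofNat 1, .negSucc 0, .negSucc 0, .ofNat 1, .ofNat 5, .negSucc 0, .negSucc 0],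
  [.negSucc 0, .ofNat 1, .negSucc 2, .negSucc 0, .negSucc 0, .negSucc 0, .negSucc 0, .ofNat 1, .negSucc 0, .negSucc 0, .ofNat 1, .ofNat 3, .negSucc 0, .negSucc 0, .ofNat 1, .ofNat 3, .ofNat 3, .ofNat 1, .negSucc 0, .ofNat 3, .ofNat 1, .ofNat 1, .negSucc 0, .negSucc 0],
  [.negSucc 0, .ofNat 1, .negSucc 2, .ofNat 3, .negSucc 0, .negSucc 0, .negSucc 0, .ofNat 1, .negSucc 0, .negSucc 0, .ofNat 1, .negSucc 0, .ofNat 3, .negSucc 0, .ofNat 1, .negSucc 0, .negSucc 0, .ofNat 1, .ofNat 3, .negSucc 0, .ofNat 1, .ofNat 1, .negSucc 0, .ofNat 3],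
  [.negSucc 2, .negSucc 0, .negSucc 0, .ofNat 1, .ofNat 1, .ofNat 1, .ofNat 1, .negSucc 0, .ofNat 1, .ofNat 1, .ofNat 3, .ofNat 1, .negSucc 2, .ofNat 1, .negSucc 0, .ofNat 1, .ofNat 1, .negSucc 0, .ofNat 1, .negSucc 2, .negSucc 0, .negSucc 0, .negSucc 2, .ofNat 1],
  [.ofNat 1, .negSucc 0, .negSucc 0, .ofNat 1, .ofNat 1, .negSucc 2, .ofNat 1, .negSucc 0, .ofNat 1, .negSucc 2, .negSucc 0, .negSucc 2, .negSucc 2, .ofNat 1, .negSucc 0, .ofNat 1, .ofNat 1, .negSucc 0, .ofNat 1, .ofNat 1, .ofNat 3, .negSucc 0, .ofNat 1, .ofNat 1],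
  [.negSucc 0, .ofNat 1, .ofNat 1, .negSucc 0, .negSucc 0, .negSucc 0, .negSucc 0, .ofNat 1, .ofNat 3, .negSucc 0, .ofNat 1, .negSucc 0, .ofNat 3, .ofNat 3, .ofNat 1, .negSucc 0, .ofNat 3, .negSucc 2, .negSucc 0, .negSucc 0, .ofNat 1, .ofNat 1, .negSucc 0, .negSucc 0],
  [.ofNat 1, .negSucc 0, .negSucc 0, .ofNat 1, .ofNat 1, .ofNat 1, .negSucc 2, .negSucc 0, .ofNat 1, .ofNat 1, .ofNat 3, .negSucc 2, .ofNat 1, .negSucc 2, .negSucc 0, .ofNat 1, .ofNat 1, .negSucc 0, .ofNat 1, .ofNat 1, .negSucc 0, .negSucc 0, .ofNat 1, .negSucc 2],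
  [.negSucc 2, .negSucc 0, .ofNat 3, .ofNat 1, .negSucc 2, .negSucc 2, .ofNat 1, .negSucc 0, .ofNat 1, .ofNat 1, .negSucc 0, .ofNat 1, .ofNat 1, .negSucc 2, .negSucc 0, .ofNat 1, .ofNat 1, .negSucc 0, .ofNat 1, .ofNat 1, .negSucc 0, .negSucc 0, .ofNat 1, .ofNat 1],
  [.negSucc 0, .ofNat 1, .ofNat 1, .negSucc 0, .ofNat 3, .negSucc 0, .negSucc 0, .ofNat 1, .ofNat 3, .negSucc 0, .ofNat 1, .negSucc 0, .negSucc 0, .negSucc 0, .ofNat 1, .negSucc 0, .negSucc 0, .ofNat 1, .negSucc 0, .ofNat 3, .negSucc 2, .ofNat 1, .negSucc 0, .ofNat 3]]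

theorem c1m3g7_tr : ∀ q p : GolayPt, mfun c1m3g7t q p = mfun c1m3g7 p q := by decide +kernel

theorem c1m3g7_lat : GamChk (mfun c1m3g7) := by decide +kernel

theorem c1m3g7_latT : GamChk (mfun c1m3g7t) := by decide +kernel

theorem c1m3g7_orth : LOrth (mfun c1m3g7) := by decide +kernel

theorem c1m3g7_orthT : LOrth (mfun c1m3g7t) := by decide +kernel

theorem c1m3g7_ok : MatOk c1m3g7 c1m3g7t := ⟨c1m3g7_tr, c1m3g7_lat, c1m3g7_latT, c1m3g7_orth, c1m3g7_orthT⟩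

theorem c1m3g7_rows : c1m3g7Z = rowsL c1m3g7 := by decide +kernel

/-- the element of `Co0` -/
def c1m3g7E : ↥Co0 := matEN c1m3g7 c1m3g7t c1m3g7_ok

theorem c1m3g7_rep : RepZ c1m3g7Z c1m3g7E := RepZ.of_mat (matEN_rep _ _ _) c1m3g7_rows

end Cfsg.Agent.Lib.Helper26.C1M
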