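import Cfsg.Agent.Lib.Helper26.C1M.Front

set_option autoImplicit false
set_option maxRecDepth 1000000

/-!
# Project C1M: the polycyclic generator c1m3g8 of the Sylow 3-subgroup (generated)
-/

namespace Cfsg.Agent.Lib.Helper26.C1M

open Cfsg Cfsg.Agent.Lib.Lead.CW Cfsg.Agent.Lib.helper3 Cfsg.Agent.Lib.Helper26.Co1O

/-- the packed matrix -/
def c1m3g8 : ℕ := 0x7424e85212841ce849d08420e7425283a0c739d094a1094212739d084a10741ce84212841d264a5084212941d27524e842128425283a508420e741ce84a10739d094a0c7420e74a5083a10741ce8428e8424e84a50842127424e9424e8421284252849d0842929424e741ce8420e841d2839cc8420e9424e83a9073a5073a107420e749d084a10741d2842128424e849d08420e951ce83a10949d074a1074212749d083a0c742528420ea41d2849d084212741ce84a10749d074a109420e949d484a1084a1074a5093a1094212749d0a3a10941ce8420e84252849d08520e741d283a10949d093a109428e74a5084a10941ce84212831ce839d084212741ce84a10749cc73a107421273a5084a1083a10749d093a907420e939d083a10941d264212841d284a508420e7424ea4a1094a5094a107420e739d084a1084a10939d073a109520e739d083a109424e8420e841ce84a50a420e941ce84a10939d093a1074212949d084a90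

/-- the packed transposed matrix -/
def c1m3g8t : ℕ := 0x741ce83a4e83a0e8425094212a425083a1494210741d094a0e849d094a12941d283a4ea3a12841d07420e84250731ce839ce84a12841d074212841d083a10742107425073a12839cc94a12a3a10742107425094a1284a5093a0e83a1075210941d074a0e839d093a0e9425283a4e84a0e841d093212841d084a1094210741d474a1283a5093a1284a10942107425093a0e639d093a0e741d284a4e84a0e842507428e841d07425263a5283a128425074212841d08499074210741d094a12839d074a0e9424e84a4e84a1284250742128525074252849ce83a0e841d4742128425084a107420c7425074a0e849d073a1283a1074210741d093a0e83a5073a9283a10942109425094a92839d073a1283a1094290741d073a12849d073a0e7424e84a4e83a12a41d09420e841d07424e83a5284a0e851d07420e8425084a1074210951d093a12849d093a12941ce84a5283a0e841d074212841d49424e839ce8398e842507420e841d0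

/-- the rows of the matrix -/
def c1m3g8Z : List (List ℤ) :=
  [[.ofNat 0, .ofNat 4, .ofNat 2, .ofNat 0, .ofNat 0, .negSucc 1, .ofNat 2, .ofNat 2, .ofNat 2, .ofNat 0, .ofNat 0, .negSucc 1, .ofNat 0, .ofNat 0, .negSucc 1, .ofNat 2, .ofNat 0, .negSucc 1, .negSucc 1, .ofNat 2, .ofNat 0, .ofNat 0, .ofNat 2, .ofNat 0],
  [.negSucc 1, .negSucc 1, .ofNat 0, .ofNat 2, .negSucc 1, .ofNat 0, .ofNat 0, .ofNat 4, .ofNat 0, .ofNat 2, .ofNat 2, .ofNat 0, .negSucc 1, .negSucc 1, .ofNat 0, .ofNat 0, .negSucc 1, .ofNat 0, .ofNat 0, .ofNat 0, .negSucc 1, .ofNat 2, .ofNat 0, .ofNat 2],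
  [.ofNat 0, .ofNat 0, .negSucc 1, .ofNat 0, .ofNat 0, .negSucc 1, .negSucc 1, .negSucc 1, .negSucc 1, .ofNat 0, .ofNat 4, .ofNat 2, .ofNat 0, .ofNat 0, .negSucc 1, .negSucc 1, .ofNat 0, .negSucc 1, .negSucc 1, .ofNat 2, .ofNat 0, .ofNat 0, .ofNat 2, .ofNat 0],
  [.ofNat 0, .ofNat 0, .ofNat 2, .ofNat 0, .ofNat 0, .negSucc 1, .negSucc 1, .negSucc 1, .negSucc 1, .ofNat 0, .ofNat 0, .negSucc 1, .ofNat 0, .ofNat 0, .ofNat 2, .ofNat 2, .ofNat 0, .ofNat 2, .ofNat 2, .ofNat 2, .ofNat 0, .ofNat 0, .ofNat 2, .ofNat 4],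
  [.negSucc 1, .ofNat 2, .ofNat 0, .negSucc 1, .negSucc 1, .ofNat 0, .ofNat 0, .ofNat 0, .ofNat 0, .ofNat 2, .ofNat 2, .ofNat 0, .ofNat 2, .negSucc 1, .ofNat 0, .ofNat 0, .ofNat 2, .ofNat 0, .ofNat 0, .negSucc 3, .ofNat 2, .negSucc 1, .ofNat 0, .ofNat 2],
  [.ofNat 0, .ofNat 0, .negSucc 1, .ofNat 0, .ofNat 0, .negSucc 1, .negSucc 1, .ofNat 2, .negSucc 1, .ofNat 0, .ofNat 0, .negSucc 1, .ofNat 0, .ofNat 4, .negSucc 1, .ofNat 2, .ofNat 0, .negSucc 1, .ofNat 2, .negSucc 1, .ofNat 0, .ofNat 0, .negSucc 1, .ofNat 0],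
  [.ofNat 0, .ofNat 0, .ofNat 2, .ofNat 0, .ofNat 0, .ofNat 2, .negSucc 1, .negSucc 1, .ofNat 2, .ofNat 0, .ofNat 0, .negSucc 1, .ofNat 0, .ofNat 0, .negSucc 1, .negSucc 1, .negSucc 3, .negSucc 1, .ofNat 2, .negSucc 1, .ofNat 0, .ofNat 0, .ofNat 2, .ofNat 0],
  [.negSucc 1, .negSucc 1, .ofNat 0, .negSucc 1, .ofNat 2, .ofNat 0, .ofNat 0, .ofNat 0, .ofNat 0, .negSucc 1, .negSucc 1, .ofNat 0, .negSucc 1, .negSucc 1, .negSucc 3, .ofNat 0, .ofNat 2, .ofNat 0, .ofNat 0, .ofNat 0, .negSucc 1, .negSucc 1, .ofNat 0, .ofNat 2],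
  [.ofNat 0, .ofNat 0, .ofNat 2, .ofNat 0, .ofNat 0, .ofNat 2, .ofNat 2, .negSucc 1, .negSucc 1, .ofNat 4, .ofNat 0, .ofNat 2, .ofNat 0, .ofNat 0, .negSucc 1, .ofNat 2, .ofNat 0, .negSucc 1, .ofNat 2, .ofNat 2, .ofNat 0, .ofNat 0, .negSucc 1, .ofNat 0],
  [.ofNat 2, .negSucc 1, .ofNat 0, .negSucc 1, .negSucc 1, .ofNat 0, .ofNat 4, .ofNat 0, .ofNat 0, .negSucc 1, .ofNat 2, .ofNat 0, .ofNat 2, .ofNat 2, .ofNat 0, .ofNat 0, .negSucc 1, .ofNat 0, .ofNat 0, .ofNat 0, .negSucc 1, .negSucc 1, .ofNat 0, .ofNat 2],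
  [.ofNat 0, .ofNat 0, .negSucc 1, .ofNat 4, .ofNat 0, .negSucc 1, .ofNat 2, .negSucc 1, .ofNat 2, .ofNat 0, .ofNat 0, .ofNat 2, .ofNat 0, .ofNat 0, .negSucc 1, .ofNat 2, .ofNat 0, .ofNat 2, .ofNat 2, .negSucc 1, .ofNat 0, .ofNat 0, .ofNat 2, .ofNat 0],
  [.ofNat 0, .ofNat 0, .ofNat 2, .ofNat 0, .ofNat 4, .negSucc 1, .ofNat 2, .ofNat 2, .negSucc 1, .ofNat 0, .ofNat 0, .ofNat 2, .ofNat 0, .ofNat 0, .ofNat 2, .negSucc 1, .ofNat 0, .negSucc 1, .ofNat 2, .negSucc 1, .ofNat 0, .ofNat 0, .ofNat 2, .ofNat 0],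
  [.negSucc 1, .negSucc 1, .ofNat 0, .negSucc 1, .ofNat 2, .ofNat 0, .ofNat 0, .ofNat 0, .ofNat 0, .negSucc 1, .ofNat 2, .ofNat 0, .ofNat 2, .negSucc 1, .ofNat 0, .ofNat 4, .negSucc 1, .ofNat 0, .ofNat 0, .ofNat 0, .ofNat 2, .ofNat 2, .ofNat 0, .negSucc 1],
  [.negSucc 3, .ofNat 0, .negSucc 1, .ofNat 0, .ofNat 0, .negSucc 1, .ofNat 2, .negSucc 1, .ofNat 2, .ofNat 0, .ofNat 0, .negSucc 1, .ofNat 0, .ofNat 0, .ofNat 2, .negSucc 1, .ofNat 0, .negSucc 1, .ofNat 2, .ofNat 2, .ofNat 0, .ofNat 0, .negSucc 1, .ofNat 0],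
  [.negSucc 1, .negSucc 1, .ofNat 4, .ofNat 2, .negSucc 1, .ofNat 0, .ofNat 0, .ofNat 0, .ofNat 0, .negSucc 1, .ofNat 2, .ofNat 0, .negSucc 1, .ofNat 2, .ofNat 0, .ofNat 0, .ofNat 2, .ofNat 0, .ofNat 0, .ofNat 0, .ofNat 2, .negSucc 1, .ofNat 0, .negSucc 1],
  [.ofNat 0, .ofNat 0, .ofNat 2, .ofNat 0, .ofNat 0, .negSucc 1, .ofNat 2, .negSucc 1, .negSucc 1, .ofNat 0, .ofNat 0, .negSucc 1, .ofNat 0, .ofNat 0, .negSucc 1, .negSucc 1, .ofNat 0, .ofNat 2, .negSucc 1, .negSucc 1, .ofNat 0, .ofNat 4, .negSucc 1, .ofNat 0],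
  [.negSucc 1, .ofNat 2, .ofNat 0, .ofNat 2, .negSucc 1, .ofNat 0, .ofNat 0, .ofNat 0, .negSucc 3, .negSucc 1, .negSucc 1, .ofNat 0, .ofNat 2, .negSucc 1, .ofNat 0, .ofNat 0, .negSucc 1, .ofNat 0, .ofNat 0, .ofNat 0, .negSucc 1, .negSucc 1, .ofNat 0, .negSucc 1],
  [.negSucc 1, .ofNat 2, .ofNat 0, .ofNat 2, .ofNat 2, .ofNat 4, .ofNat 0, .ofNat 0, .ofNat 0, .negSucc 1, .ofNat 2, .ofNat 0, .ofNat 2, .ofNat 2, .ofNat 0, .ofNat 0, .ofNat 2, .ofNat 0, .ofNat 0, .ofNat 0, .negSucc 1, .ofNat 2, .ofNat 0, .ofNat 2],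
  [.negSucc 1, .ofNat 2, .ofNat 0, .negSucc 1, .ofNat 2, .ofNat 0, .ofNat 0, .ofNat 0, .ofNat 0, .ofNat 2, .ofNat 2, .ofNat 0, .negSucc 1, .ofNat 2, .ofNat 0, .ofNat 0, .negSucc 1, .ofNat 4, .ofNat 0, .ofNat 0, .negSucc 1, .negSucc 1, .ofNat 0, .negSucc 1],
  [.ofNat 0, .ofNat 0, .negSucc 1, .ofNat 0, .ofNat 0, .ofNat 2, .ofNat 2, .negSucc 1, .negSucc 1, .ofNat 0, .ofNat 0, .negSucc 1, .negSucc 3, .ofNat 0, .ofNat 2, .ofNat 2, .ofNat 0, .negSucc 1, .negSucc 1, .negSucc 1, .ofNat 0, .ofNat 0, .ofNat 2, .ofNat 0],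
  [.negSucc 1, .negSucc 1, .ofNat 0, .negSucc 1, .negSucc 1, .ofNat 0, .ofNat 0, .ofNat 0, .ofNat 0, .ofNat 2, .negSucc 1, .ofNat 0, .ofNat 2, .ofNat 2, .ofNat 0, .ofNat 0, .ofNat 2, .ofNat 0, .ofNat 0, .ofNat 0, .negSucc 1, .ofNat 2, .ofNat 4, .negSucc 1],
  [.ofNat 2, .negSucc 1, .ofNat 0, .ofNat 2, .ofNat 2, .ofNat 0, .ofNat 0, .ofNat 0, .ofNat 0, .ofNat 2, .ofNat 2, .negSucc 3, .ofNat 2, .negSucc 1, .ofNat 0, .ofNat 0, .ofNat 2, .ofNat 0, .ofNat 0, .ofNat 0, .negSucc 1, .negSucc 1, .ofNat 0, .negSucc 1],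
  [.ofNat 0, .ofNat 0, .ofNat 2, .ofNat 0, .ofNat 0, .negSucc 1, .negSucc 1, .negSucc 1, .ofNat 2, .ofNat 0, .ofNat 0, .ofNat 2, .ofNat 0, .ofNat 0, .ofNat 2, .ofNat 2, .ofNat 0, .negSucc 1, .negSucc 1, .negSucc 1, .negSucc 3, .ofNat 0, .negSucc 1, .ofNat 0],
  [.ofNat 2, .ofNat 2, .ofNat 0, .negSucc 1, .negSucc 1, .ofNat 0, .ofNat 0, .ofNat 0, .ofNat 0, .negSucc 1, .ofNat 2, .ofNat 0, .negSucc 1, .negSucc 1, .ofNat 0, .ofNat 0, .ofNat 2, .ofNat 0, .ofNat 4, .ofNat 0, .negSucc 1, .ofNat 2, .ofNat 0, .negSucc 1]]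

theorem c1m3g8_tr : ∀ q p : GolayPt, mfun c1m3g8t q p = mfun c1m3g8 p q := by decide +kernel

theorem c1m3g8_lat : GamChk (mfun c1m3g8) := by decide +kernel

theorem c1m3g8_latT : GamChk (mfun c1m3g8t) := by decide +kernel

theorem c1m3g8_orth : LOrth (mfun c1m3g8) := by decide +kernel

theorem c1m3g8_orthT : LOrth (mfun c1m3g8t) := by decide +kernel

theorem c1m3g8_ok : MatOk c1m3g8 c1m3g8t := ⟨c1m3g8_tr, c1m3g8_lat, c1m3g8_latT, c1m3g8_orth, c1m3g8_orthT⟩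

theorem c1m3g8_rows : c1m3g8Z = rowsL c1m3g8 := by decide +kernel

/-- the element of `Co0` -/
def c1m3g8E : ↥Co0 := matEN c1m3g8 c1m3g8t c1m3g8_ok

theorem c1m3g8_rep : RepZ c1m3g8Z c1m3g8E := RepZ.of_mat (matEN_rep _ _ _) c1m3g8_rows

end Cfsg.Agent.Lib.Helper26.C1M
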