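import Cfsg.Agent.Lib.Helper26.C1M.Front

set_option autoImplicit false
set_option maxRecDepth 1000000

/-!
# Project C1M: the conjugating element c1m3h0 for the prime 3 (generated)
-/

namespace Cfsg.Agent.Lib.Helper26.C1M

open Cfsg Cfsg.Agent.Lib.Lead.CW Cfsg.Agent.Lib.helper3 Cfsg.Agent.Lib.Helper26.Co1O

/-- the packed matrix -/
def c1m3h0 : ℕ := 0x841d0849cea4210741ce84250739d2841d0839d2842909424e8425074a52841d0a49d284210741d28425094a4e841d0839ce84210951ce841d093a4ea4250839d284210741ce841d0749ce93a0e74210739d284a1094a8e84210831d084a52842107424e841d073a4e73a0e9421074a5284a1093a1284190841d083a4e8420c7424e84250949ce9499274210749d283a1093a128421074a0e74214939ce84a1093a128421094a0e7521074a4e84a1073a0e84210841d0849ce8321094252841d0749ce94a0e9421073a4e83a1094a1283210841cc83a4e84210741d2841d074a5293a1294210739ce84a1073a128421474a127421073a5264a1074a128421084250849ce842107424ea41d094a5293a0e7421093a5283a1073a12a421093a127421094a4e84a1494a128421073a127421073a4e8399093a0e8421073a0e74190749ce83a1074a128421084250839ce84210742528325073a4e841d0839d28421074252841cc939d2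

/-- the packed transposed matrix -/
def c1m3h0t : ℕ := 0x84210a4a0e849d284a127425273a10842108398e84a5284a0e941ce73a10739ce941d073210741d084a108424e8421083a0e849ce83992941d293a108429083a12839ce84a12741ce73a1093a4e7425074214941d084a10841ce739ce74250942107425083a10831ce74a4e9425074290741d083a10841d2a421083a0e83a4e83a0e7425273a108421083a12849d263a0e741d274a108521083a12839d284a0e9425293a108421084a12649ce83a0e9424e73a10749d2741d074210941d063a10841ce8421484a1283a5283a12941d273a10749ce7425094210941d084a106425273a4e741d0742109425083a14842528421084a1284a4e84a0e751d293a108421084a0e839ce84a0e941d27499094a4e751d094210741d083a108424e8421083a1284a4e84a129425274a0c73a52741d094210741d084a90841d274a4e941d0942109325084a10841ce74a527424c742107425084a108424e949ce741d0742107425484a10841d2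

/-- the rows of the matrix -/
def c1m3h0Z : List (List ℤ) :=
  [[.ofNat 2, .negSucc 1, .negSucc 1, .ofNat 2, .negSucc 3, .negSucc 1, .ofNat 0, .ofNat 0, .ofNat 2, .ofNat 2, .ofNat 0, .negSucc 1, .ofNat 0, .ofNat 0, .ofNat 0, .ofNat 0, .ofNat 2, .negSucc 1, .negSucc 1, .ofNat 0, .ofNat 0, .negSucc 1, .ofNat 0, .ofNat 0],
  [.negSucc 1, .ofNat 2, .negSucc 1, .negSucc 1, .ofNat 0, .ofNat 2, .negSucc 3, .ofNat 0, .ofNat 2, .ofNat 2, .ofNat 0, .negSucc 1, .ofNat 0, .ofNat 0, .ofNat 0, .ofNat 0, .negSucc 1, .negSucc 1, .negSucc 1, .ofNat 0, .ofNat 0, .ofNat 2, .ofNat 0, .ofNat 0],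
  [.ofNat 0, .ofNat 0, .ofNat 0, .ofNat 0, .ofNat 2, .ofNat 0, .ofNat 2, .negSucc 1, .ofNat 0, .ofNat 0, .negSucc 1, .ofNat 0, .negSucc 1, .negSucc 1, .ofNat 2, .negSucc 1, .ofNat 0, .negSucc 3, .ofNat 0, .negSucc 1, .negSucc 1, .ofNat 0, .negSucc 1, .negSucc 1],
  [.ofNat 0, .ofNat 0, .ofNat 0, .ofNat 0, .negSucc 1, .ofNat 0, .negSucc 1, .ofNat 2, .ofNat 0, .negSucc 3, .negSucc 1, .ofNat 0, .negSucc 1, .ofNat 2, .negSucc 1, .negSucc 1, .ofNat 0, .ofNat 0, .ofNat 0, .negSucc 1, .ofNat 2, .ofNat 0, .negSucc 1, .negSucc 1],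
  [.ofNat 0, .ofNat 0, .ofNat 0, .ofNat 0, .ofNat 2, .ofNat 0, .ofNat 2, .ofNat 2, .ofNat 4, .ofNat 0, .ofNat 2, .ofNat 0, .negSucc 1, .ofNat 2, .ofNat 2, .ofNat 2, .ofNat 0, .ofNat 0, .ofNat 0, .negSucc 1, .ofNat 2, .ofNat 0, .negSucc 1, .ofNat 2],
  [.ofNat 0, .ofNat 0, .ofNat 0, .ofNat 4, .ofNat 2, .ofNat 0, .negSucc 1, .negSucc 1, .ofNat 0, .ofNat 0, .negSucc 1, .ofNat 0, .ofNat 2, .ofNat 2, .negSucc 1, .ofNat 2, .ofNat 0, .ofNat 0, .ofNat 0, .negSucc 1, .negSucc 1, .ofNat 0, .negSucc 1, .ofNat 2],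
  [.ofNat 2, .ofNat 2, .ofNat 2, .ofNat 2, .ofNat 0, .negSucc 1, .ofNat 0, .ofNat 4, .negSucc 1, .ofNat 2, .ofNat 0, .negSucc 1, .ofNat 0, .ofNat 0, .ofNat 0, .ofNat 0, .negSucc 1, .negSucc 1, .ofNat 2, .ofNat 0, .ofNat 0, .ofNat 2, .ofNat 0, .ofNat 0],
  [.ofNat 0, .ofNat 0, .ofNat 0, .ofNat 0, .ofNat 2, .ofNat 0, .ofNat 2, .negSucc 1, .ofNat 0, .ofNat 0, .ofNat 2, .negSucc 3, .ofNat 2, .ofNat 2, .negSucc 1, .negSucc 1, .ofNat 0, .ofNat 0, .ofNat 0, .negSucc 1, .ofNat 2, .ofNat 0, .ofNat 2, .negSucc 1],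
  [.ofNat 4, .ofNat 0, .ofNat 0, .ofNat 0, .ofNat 2, .ofNat 0, .negSucc 1, .negSucc 1, .ofNat 0, .ofNat 0, .ofNat 2, .ofNat 0, .negSucc 1, .negSucc 1, .negSucc 1, .negSucc 1, .ofNat 0, .ofNat 0, .ofNat 0, .ofNat 2, .ofNat 2, .ofNat 0, .negSucc 1, .ofNat 2],
  [.ofNat 2, .ofNat 2, .ofNat 2, .negSucc 1, .ofNat 0, .negSucc 1, .ofNat 0, .ofNat 0, .ofNat 2, .negSucc 1, .ofNat 0, .negSucc 1, .ofNat 0, .ofNat 0, .ofNat 0, .ofNat 0, .negSucc 1, .ofNat 2, .negSucc 1, .ofNat 0, .negSucc 3, .negSucc 1, .ofNat 0, .ofNat 0],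
  [.ofNat 0, .ofNat 0, .negSucc 3, .ofNat 0, .ofNat 2, .ofNat 0, .ofNat 2, .ofNat 2, .ofNat 0, .ofNat 0, .negSucc 1, .ofNat 0, .negSucc 1, .ofNat 2, .negSucc 1, .negSucc 1, .ofNat 0, .ofNat 0, .ofNat 0, .ofNat 2, .negSucc 1, .ofNat 0, .ofNat 2, .ofNat 2],
  [.negSucc 1, .negSucc 1, .ofNat 2, .negSucc 1, .ofNat 0, .negSucc 1, .ofNat 0, .ofNat 0, .ofNat 2, .ofNat 2, .ofNat 0, .ofNat 2, .ofNat 0, .ofNat 0, .negSucc 3, .ofNat 0, .negSucc 1, .negSucc 1, .ofNat 2, .ofNat 0, .ofNat 0, .negSucc 1, .ofNat 0, .ofNat 0],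
  [.ofNat 0, .ofNat 0, .ofNat 0, .ofNat 0, .negSucc 1, .ofNat 0, .negSucc 1, .negSucc 1, .ofNat 0, .ofNat 0, .ofNat 2, .ofNat 0, .negSucc 1, .ofNat 2, .ofNat 2, .negSucc 1, .ofNat 0, .ofNat 0, .ofNat 4, .negSucc 1, .negSucc 1, .ofNat 0, .ofNat 2, .ofNat 2],
  [.ofNat 0, .ofNat 0, .ofNat 0, .ofNat 0, .ofNat 2, .ofNat 0, .negSucc 1, .ofNat 2, .ofNat 0, .ofNat 0, .ofNat 2, .ofNat 0, .negSucc 1, .negSucc 1, .negSucc 1, .ofNat 2, .ofNat 4, .ofNat 0, .ofNat 0, .negSucc 1, .negSucc 1, .ofNat 0, .ofNat 2, .negSucc 1],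
  [.ofNat 0, .ofNat 0, .ofNat 0, .ofNat 0, .ofNat 2, .ofNat 0, .negSucc 1, .ofNat 2, .ofNat 0, .ofNat 0, .negSucc 1, .ofNat 0, .ofNat 2, .negSucc 1, .ofNat 2, .negSucc 1, .ofNat 0, .ofNat 0, .ofNat 0, .negSucc 1, .ofNat 2, .negSucc 3, .ofNat 2, .ofNat 2],
  [.negSucc 1, .negSucc 1, .ofNat 2, .ofNat 2, .ofNat 0, .ofNat 2, .ofNat 0, .ofNat 0, .negSucc 1, .ofNat 2, .ofNat 0, .negSucc 1, .negSucc 3, .ofNat 0, .ofNat 0, .ofNat 0, .negSucc 1, .ofNat 2, .negSucc 1, .ofNat 0, .ofNat 0, .negSucc 1, .ofNat 0, .ofNat 0],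
  [.ofNat 0, .negSucc 3, .ofNat 0, .ofNat 0, .ofNat 2, .ofNat 0, .negSucc 1, .ofNat 2, .ofNat 0, .ofNat 0, .ofNat 2, .ofNat 0, .ofNat 2, .ofNat 2, .ofNat 2, .negSucc 1, .ofNat 0, .ofNat 0, .ofNat 0, .ofNat 2, .negSucc 1, .ofNat 0, .negSucc 1, .negSucc 1],
  [.negSucc 1, .ofNat 2, .negSucc 1, .negSucc 1, .ofNat 0, .negSucc 1, .ofNat 0, .ofNat 0, .negSucc 1, .ofNat 2, .ofNat 0, .negSucc 1, .ofNat 0, .ofNat 0, .ofNat 0, .ofNat 0, .ofNat 2, .ofNat 2, .ofNat 2, .ofNat 0, .ofNat 0, .negSucc 1, .negSucc 3, .ofNat 0],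
  [.ofNat 0, .ofNat 0, .ofNat 0, .ofNat 0, .negSucc 1, .ofNat 4, .ofNat 2, .ofNat 2, .ofNat 0, .ofNat 0, .ofNat 2, .ofNat 0, .ofNat 2, .negSucc 1, .negSucc 1, .negSucc 1, .ofNat 0, .ofNat 0, .ofNat 0, .negSucc 1, .negSucc 1, .ofNat 0, .negSucc 1, .ofNat 2],
  [.negSucc 1, .negSucc 1, .ofNat 2, .negSucc 1, .ofNat 0, .negSucc 1, .ofNat 0, .ofNat 0, .negSucc 1, .negSucc 1, .ofNat 0, .negSucc 1, .ofNat 0, .ofNat 0, .ofNat 0, .ofNat 0, .ofNat 2, .negSucc 1, .negSucc 1, .ofNat 0, .ofNat 0, .ofNat 2, .ofNat 0, .ofNat 4],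
  [.negSucc 1, .ofNat 2, .negSucc 1, .ofNat 2, .ofNat 0, .negSucc 1, .ofNat 0, .ofNat 0, .negSucc 1, .negSucc 1, .ofNat 4, .ofNat 2, .ofNat 0, .ofNat 0, .ofNat 0, .ofNat 0, .negSucc 1, .negSucc 1, .negSucc 1, .ofNat 0, .ofNat 0, .negSucc 1, .ofNat 0, .ofNat 0],
  [.negSucc 1, .ofNat 2, .ofNat 2, .ofNat 2, .ofNat 0, .ofNat 2, .ofNat 0, .ofNat 0, .ofNat 2, .negSucc 1, .ofNat 0, .negSucc 1, .ofNat 0, .ofNat 0, .ofNat 0, .ofNat 0, .ofNat 2, .negSucc 1, .ofNat 2, .ofNat 4, .ofNat 0, .negSucc 1, .ofNat 0, .ofNat 0],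
  [.ofNat 2, .ofNat 2, .ofNat 2, .negSucc 1, .ofNat 0, .ofNat 2, .ofNat 0, .ofNat 0, .negSucc 1, .ofNat 2, .ofNat 0, .ofNat 2, .ofNat 0, .ofNat 4, .ofNat 0, .ofNat 0, .ofNat 2, .negSucc 1, .negSucc 1, .ofNat 0, .ofNat 0, .negSucc 1, .ofNat 0, .ofNat 0],
  [.ofNat 2, .negSucc 1, .negSucc 1, .negSucc 1, .ofNat 0, .ofNat 2, .ofNat 0, .ofNat 0, .negSucc 1, .negSucc 1, .ofNat 0, .negSucc 1, .ofNat 0, .ofNat 0, .ofNat 0, .ofNat 4, .negSucc 1, .negSucc 1, .ofNat 2, .ofNat 0, .ofNat 0, .negSucc 1, .ofNat 0, .ofNat 0]]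

theorem c1m3h0_tr : ∀ q p : GolayPt, mfun c1m3h0t q p = mfun c1m3h0 p q := by decide +kernel

theorem c1m3h0_lat : GamChk (mfun c1m3h0) := by decide +kernel

theorem c1m3h0_latT : GamChk (mfun c1m3h0t) := by decide +kernel

theorem c1m3h0_orth : LOrth (mfun c1m3h0) := by decide +kernel

theorem c1m3h0_orthT : LOrth (mfun c1m3h0t) := by decide +kernel

theorem c1m3h0_ok : MatOk c1m3h0 c1m3h0t := ⟨c1m3h0_tr, c1m3h0_lat, c1m3h0_latT, c1m3h0_orth, c1m3h0_orthT⟩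

theorem c1m3h0_rows : c1m3h0Z = rowsL c1m3h0 := by decide +kernel

/-- the element of `Co0` -/
def c1m3h0E : ↥Co0 := matEN c1m3h0 c1m3h0t c1m3h0_ok

theorem c1m3h0_rep : RepZ c1m3h0Z c1m3h0E := RepZ.of_mat (matEN_rep _ _ _) c1m3h0_rows

end Cfsg.Agent.Lib.Helper26.C1M
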