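import Cfsg.Agent.Lib.Helper26.C1M.Front

set_option autoImplicit false
set_option maxRecDepth 1000000

/-!
# Project C1M: the conjugating element c1m3h1 for the prime 3 (generated)
-/

namespace Cfsg.Agent.Lib.Helper26.C1M

open Cfsg Cfsg.Agent.Lib.Lead.CW Cfsg.Agent.Lib.helper3 Cfsg.Agent.Lib.Helper26.Co1O

/-- the packed matrix -/
def c1m3h1 : ℕ := 0x7420e7424e84a0e73a4e74a1094a0e83a5083a1074250a4210851ce841d084a5083a0c741d0852108424e84250839d063a10941d084210841ce642509420e9424e83a0e93a5273a1073a0e83a5083a107425064210831ce841d0839d0a3a10941d084210841cea4250942127424e84a0e939d293a1094a1283a5084a10741d084210641d284254839d083990741cc8421084252841d0742129424e83a0e739ce94a1073a1284a5083a10931d084210841d2851d074212941ce84a12939ce73a1074a0e849d083a1094250842106424e841d463a5084a10941d0842148424e841d094212741ce83a12739d274a1093a0e742127425283a0e949ce73a1093a0e83a5483a1094250842908425284250a3a5084a10941d08420c8424e841d084a5083a10951d084210841d2831d084a50849909424c84210841ce84250849d484a10741d084290841ce841d0942129425284a0e749d274a1074a0e839d084a0c9425085210841d2841d0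

/-- the packed transposed matrix -/
def c1m3h1t : ℕ := 0x7421094212841d074192742908425083a4e839d073a12849d0839d294a0e84a4e849d093a1283a5084a5293a0e7421074212842509421295210852507420c9428e842509420e7421084250839ce839d093a0e83a5083a4e94a129421094212832507420e9421064250741907420e841d07420e942108424c839d283a5073a1284a5084a5293a129421074212841cc9420e7421484250849ce849d073a0e849d0849ce93a12742107420e831d09421274210641d07521093212841d09420e94210841d0742907420e841d07420e9421084254942109420e841d07420e75210851d07421094212841d07429274190842507421074212642507320e74210841d0952107320e8425074212742108425083a4e839d074a0e84a5084a4e73a0e839ce839d094a12839d0849d273a129420c74292841d07421294210841d09421074212841d49420e7420c8425083a5283a5093a0e839d0849ce93a0e7421074212a42507520e74210841d0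

/-- the rows of the matrix -/
def c1m3h1Z : List (List ℤ) :=
  [[.ofNat 0, .negSucc 1, .ofNat 0, .ofNat 0, .ofNat 2, .negSucc 1, .ofNat 0, .ofNat 0, .ofNat 0, .ofNat 0, .ofNat 4, .ofNat 0, .ofNat 0, .ofNat 2, .ofNat 0, .ofNat 2, .negSucc 3, .ofNat 0, .ofNat 2, .ofNat 0, .ofNat 0, .negSucc 1, .negSucc 1, .ofNat 0],
  [.negSucc 1, .ofNat 0, .ofNat 2, .negSucc 1, .ofNat 0, .ofNat 0, .ofNat 2, .negSucc 1, .ofNat 2, .negSucc 1, .ofNat 2, .negSucc 1, .negSucc 1, .ofNat 0, .ofNat 2, .ofNat 0, .ofNat 2, .ofNat 2, .ofNat 0, .ofNat 2, .ofNat 2, .ofNat 0, .ofNat 0, .ofNat 2],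
  [.ofNat 0, .negSucc 1, .ofNat 0, .ofNat 0, .negSucc 1, .negSucc 1, .ofNat 0, .ofNat 0, .ofNat 0, .ofNat 4, .ofNat 0, .ofNat 0, .ofNat 0, .negSucc 1, .ofNat 0, .negSucc 1, .ofNat 0, .ofNat 0, .ofNat 2, .ofNat 0, .ofNat 4, .negSucc 1, .ofNat 2, .ofNat 0],
  [.ofNat 0, .ofNat 2, .ofNat 0, .ofNat 0, .negSucc 1, .negSucc 1, .ofNat 0, .ofNat 0, .ofNat 0, .ofNat 0, .ofNat 0, .ofNat 0, .negSucc 3, .ofNat 2, .ofNat 0, .ofNat 2, .ofNat 0, .negSucc 3, .ofNat 2, .ofNat 0, .ofNat 0, .ofNat 2, .ofNat 2, .ofNat 0],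
  [.ofNat 0, .negSucc 1, .negSucc 3, .ofNat 0, .ofNat 2, .negSucc 1, .ofNat 0, .ofNat 0, .ofNat 0, .ofNat 0, .ofNat 0, .ofNat 0, .ofNat 0, .negSucc 1, .ofNat 4, .ofNat 2, .ofNat 0, .ofNat 0, .negSucc 1, .ofNat 0, .ofNat 0, .ofNat 2, .ofNat 2, .ofNat 0],
  [.ofNat 0, .negSucc 1, .ofNat 0, .ofNat 0, .negSucc 1, .ofNat 2, .ofNat 0, .ofNat 0, .negSucc 3, .ofNat 0, .ofNat 0, .ofNat 0, .ofNat 0, .negSucc 1, .ofNat 0, .ofNat 2, .ofNat 0, .ofNat 0, .ofNat 2, .ofNat 0, .ofNat 0, .ofNat 2, .negSucc 1, .ofNat 4],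
  [.ofNat 0, .ofNat 2, .ofNat 0, .ofNat 0, .ofNat 2, .ofNat 2, .ofNat 0, .ofNat 0, .ofNat 0, .ofNat 4, .ofNat 0, .ofNat 0, .ofNat 0, .ofNat 2, .ofNat 0, .ofNat 2, .ofNat 0, .ofNat 0, .negSucc 1, .ofNat 0, .ofNat 4, .ofNat 2, .negSucc 1, .ofNat 0],
  [.negSucc 1, .ofNat 0, .negSucc 1, .ofNat 2, .ofNat 0, .ofNat 0, .negSucc 1, .negSucc 1, .negSucc 1, .negSucc 1, .ofNat 2, .ofNat 2, .negSucc 1, .ofNat 0, .negSucc 1, .ofNat 0, .ofNat 2, .ofNat 2, .ofNat 0, .negSucc 1, .ofNat 2, .ofNat 0, .ofNat 0, .negSucc 1],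
  [.negSucc 1, .ofNat 0, .negSucc 1, .ofNat 2, .ofNat 0, .ofNat 0, .ofNat 2, .negSucc 1, .ofNat 2, .negSucc 1, .negSucc 1, .negSucc 1, .ofNat 2, .ofNat 0, .negSucc 1, .ofNat 0, .negSucc 1, .negSucc 1, .ofNat 0, .negSucc 1, .ofNat 2, .ofNat 0, .ofNat 0, .ofNat 2],
  [.ofNat 0, .negSucc 1, .ofNat 0, .ofNat 0, .negSucc 1, .ofNat 2, .ofNat 0, .ofNat 0, .ofNat 4, .ofNat 0, .ofNat 0, .ofNat 0, .ofNat 0, .negSucc 1, .ofNat 0, .ofNat 2, .ofNat 0, .ofNat 0, .ofNat 2, .ofNat 0, .ofNat 0, .ofNat 2, .negSucc 1, .negSucc 3],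
  [.ofNat 4, .negSucc 1, .ofNat 0, .ofNat 0, .negSucc 1, .ofNat 2, .ofNat 0, .negSucc 3, .ofNat 0, .ofNat 0, .ofNat 0, .ofNat 0, .ofNat 0, .ofNat 2, .ofNat 0, .ofNat 2, .ofNat 0, .ofNat 0, .negSucc 1, .ofNat 0, .ofNat 0, .negSucc 1, .ofNat 2, .ofNat 0],
  [.negSucc 1, .ofNat 0, .ofNat 2, .negSucc 1, .ofNat 0, .ofNat 0, .negSucc 1, .negSucc 1, .negSucc 1, .negSucc 1, .negSucc 1, .ofNat 2, .ofNat 2, .ofNat 0, .ofNat 2, .ofNat 0, .negSucc 1, .negSucc 1, .ofNat 0, .ofNat 2, .ofNat 2, .ofNat 0, .ofNat 0, .negSucc 1],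
  [.ofNat 0, .negSucc 1, .ofNat 4, .ofNat 0, .ofNat 2, .negSucc 1, .ofNat 0, .ofNat 0, .ofNat 0, .ofNat 0, .ofNat 0, .ofNat 0, .ofNat 0, .negSucc 1, .negSucc 3, .ofNat 2, .ofNat 0, .ofNat 0, .negSucc 1, .ofNat 0, .ofNat 0, .ofNat 2, .ofNat 2, .ofNat 0],
  [.ofNat 2, .ofNat 0, .negSucc 1, .negSucc 1, .ofNat 0, .ofNat 0, .ofNat 2, .ofNat 2, .negSucc 1, .negSucc 1, .negSucc 1, .negSucc 1, .negSucc 1, .ofNat 0, .negSucc 1, .ofNat 0, .negSucc 1, .ofNat 2, .ofNat 0, .ofNat 2, .ofNat 2, .ofNat 0, .ofNat 0, .negSucc 1],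
  [.ofNat 0, .negSucc 1, .ofNat 0, .ofNat 0, .ofNat 2, .ofNat 2, .ofNat 0, .ofNat 0, .ofNat 0, .ofNat 0, .ofNat 0, .ofNat 0, .negSucc 3, .negSucc 1, .ofNat 0, .negSucc 1, .ofNat 0, .negSucc 3, .negSucc 1, .ofNat 0, .ofNat 0, .negSucc 1, .negSucc 1, .ofNat 0],
  [.ofNat 4, .ofNat 2, .ofNat 0, .ofNat 0, .ofNat 2, .negSucc 1, .ofNat 0, .negSucc 3, .ofNat 0, .ofNat 0, .ofNat 0, .ofNat 0, .ofNat 0, .negSucc 1, .ofNat 0, .negSucc 1, .ofNat 0, .ofNat 0, .ofNat 2, .ofNat 0, .ofNat 0, .ofNat 2, .negSucc 1, .ofNat 0],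
  [.ofNat 2, .ofNat 0, .ofNat 2, .ofNat 2, .ofNat 0, .ofNat 0, .negSucc 1, .ofNat 2, .ofNat 2, .negSucc 1, .negSucc 1, .ofNat 2, .negSucc 1, .ofNat 0, .ofNat 2, .ofNat 0, .negSucc 1, .ofNat 2, .ofNat 0, .negSucc 1, .ofNat 2, .ofNat 0, .ofNat 0, .ofNat 2],
  [.ofNat 0, .ofNat 2, .ofNat 0, .ofNat 4, .negSucc 1, .negSucc 1, .ofNat 0, .ofNat 0, .ofNat 0, .ofNat 0, .ofNat 0, .ofNat 0, .ofNat 0, .negSucc 1, .ofNat 0, .ofNat 2, .ofNat 0, .ofNat 0, .negSucc 1, .ofNat 4, .ofNat 0, .negSucc 1, .negSucc 1, .ofNat 0],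
  [.ofNat 0, .negSucc 1, .ofNat 0, .ofNat 0, .negSucc 1, .negSucc 1, .negSucc 3, .ofNat 0, .ofNat 0, .ofNat 0, .ofNat 0, .negSucc 3, .ofNat 0, .ofNat 2, .ofNat 0, .negSucc 1, .ofNat 0, .ofNat 0, .negSucc 1, .ofNat 0, .ofNat 0, .ofNat 2, .negSucc 1, .ofNat 0],
  [.negSucc 1, .ofNat 0, .negSucc 1, .negSucc 1, .ofNat 0, .ofNat 0, .negSucc 1, .negSucc 1, .ofNat 2, .ofNat 2, .negSucc 1, .ofNat 2, .negSucc 1, .ofNat 0, .negSucc 1, .ofNat 0, .negSucc 1, .ofNat 2, .ofNat 0, .ofNat 2, .negSucc 1, .ofNat 0, .ofNat 0, .ofNat 2],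
  [.ofNat 0, .ofNat 2, .ofNat 0, .negSucc 3, .negSucc 1, .negSucc 1, .ofNat 0, .ofNat 0, .ofNat 0, .ofNat 0, .ofNat 0, .ofNat 0, .ofNat 0, .negSucc 1, .ofNat 0, .ofNat 2, .ofNat 0, .ofNat 0, .negSucc 1, .negSucc 3, .ofNat 0, .negSucc 1, .negSucc 1, .ofNat 0],
  [.ofNat 0, .ofNat 2, .ofNat 0, .ofNat 0, .negSucc 1, .ofNat 2, .ofNat 0, .ofNat 0, .ofNat 0, .ofNat 0, .ofNat 4, .ofNat 0, .ofNat 0, .negSucc 1, .ofNat 0, .negSucc 1, .negSucc 3, .ofNat 0, .negSucc 1, .ofNat 0, .ofNat 0, .ofNat 2, .ofNat 2, .ofNat 0],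
  [.ofNat 0, .negSucc 1, .ofNat 0, .ofNat 0, .negSucc 1, .negSucc 1, .ofNat 4, .ofNat 0, .ofNat 0, .ofNat 0, .ofNat 0, .ofNat 4, .ofNat 0, .ofNat 2, .ofNat 0, .negSucc 1, .ofNat 0, .ofNat 0, .negSucc 1, .ofNat 0, .ofNat 0, .ofNat 2, .negSucc 1, .ofNat 0],
  [.negSucc 1, .ofNat 0, .ofNat 2, .ofNat 2, .ofNat 0, .ofNat 0, .ofNat 2, .negSucc 1, .negSucc 1, .ofNat 2, .negSucc 1, .negSucc 1, .negSucc 1, .ofNat 0, .ofNat 2, .ofNat 0, .negSucc 1, .ofNat 2, .ofNat 0, .negSucc 1, .negSucc 1, .ofNat 0, .ofNat 0, .negSucc 1]]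

theorem c1m3h1_tr : ∀ q p : GolayPt, mfun c1m3h1t q p = mfun c1m3h1 p q := by decide +kernel

theorem c1m3h1_lat : GamChk (mfun c1m3h1) := by decide +kernel

theorem c1m3h1_latT : GamChk (mfun c1m3h1t) := by decide +kernel

theorem c1m3h1_orth : LOrth (mfun c1m3h1) := by decide +kernel

theorem c1m3h1_orthT : LOrth (mfun c1m3h1t) := by decide +kernel

theorem c1m3h1_ok : MatOk c1m3h1 c1m3h1t := ⟨c1m3h1_tr, c1m3h1_lat, c1m3h1_latT, c1m3h1_orth, c1m3h1_orthT⟩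

theorem c1m3h1_rows : c1m3h1Z = rowsL c1m3h1 := by decide +kernel

/-- the element of `Co0` -/
def c1m3h1E : ↥Co0 := matEN c1m3h1 c1m3h1t c1m3h1_ok

theorem c1m3h1_rep : RepZ c1m3h1Z c1m3h1E := RepZ.of_mat (matEN_rep _ _ _) c1m3h1_rows

end Cfsg.Agent.Lib.Helper26.C1M
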