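import Cfsg.Agent.Lib.Helper26.C1M.Front

set_option autoImplicit false
set_option maxRecDepth 1000000

/-!
# Project C1M: the polycyclic generator c1m5g0 of the Sylow 5-subgroup (generated)
-/

namespace Cfsg.Agent.Lib.Helper26.C1M

open Cfsg Cfsg.Agent.Lib.Lead.CW Cfsg.Agent.Lib.helper3 Cfsg.Agent.Lib.Helper26.Co1O

/-- the packed matrix -/
def c1m5g0 : ℕ := 0x8420c84a107425083a1284212a3a0e949ce7424e84a12741d0939d0741d084210849907425064a0e8421284a128321083a10741d084a0e8419283a0e8421084a10941d08398e8521284a0e84210a4a10941d484a128421283a128521083a10741d084a0e8429283a0e8421084a14741d083a0ea420e83a12939d27425284a127425074a50941d094a4e741d284a1294250749d0742508421083a1074250849928520e83a128421083a149425084a12a421284a0e8421084a9074250a4a0e8421284a128419084a109425084a0e8420e83a8e8429084a109425084a0e8420e8398e949d2941ce84a0e94250949d0941d06421084a10751d084a128420e84a0e93a4e9424e84a0e7425094a5074250739ce741ce83a129425094a50741d08421484a107425083a128421263a0e74a527424e83a1274250949d09425084210a3a107425483a0e8420e84a0e93a52741ce84a12941d093a50942506421083a109525083a0e8421283a12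

/-- the packed transposed matrix -/
def c1m5g0t : ℕ := 0x84a108421094a1084212649d07424c84a0c8429074a1084212839d0941d083a108421074a108328e849d09425063a108421093a1084212839d49425083a108521073a1084212849d0751d09424e949d2841ce94a509421283a0e849908421093a10a420e849d0941d083a108421494a148420e839d0741d0741ce949ce841d274a507420e83a1284a108421094a1084212a49d0742549424e739ce8425294a507421284a1284a108521094a108420e83a5095250839908421074a10a421283a50742507425274a4e8425294a509420e83a0e83a1064210949908421284a50941d0941ce749ce84252739d09421283a0e84a108421473a148421284a509425083a10a421094a908421284a50941d083a0c8429093a108420e84a50742509425294a4e841d2939d07421283a12a3a108421093a1084212839cc942507424e939ce841d2939d09420e84a0e83a108421074a108518e849d0942507424e749d28424e939d07420e83a12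

/-- the rows of the matrix -/
def c1m5g0Z : List (List ℤ) :=
  [[.ofNat 2, .ofNat 0, .negSucc 1, .ofNat 0, .ofNat 2, .ofNat 0, .ofNat 0, .ofNat 0, .negSucc 1, .ofNat 0, .negSucc 1, .ofNat 0, .ofNat 0, .ofNat 2, .ofNat 4, .ofNat 2, .ofNat 0, .ofNat 0, .negSucc 1, .ofNat 0, .ofNat 0, .ofNat 0, .ofNat 0, .negSucc 3],
  [.ofNat 0, .ofNat 2, .ofNat 0, .ofNat 2, .ofNat 0, .ofNat 2, .negSucc 1, .ofNat 2, .ofNat 0, .negSucc 1, .ofNat 0, .ofNat 2, .ofNat 2, .ofNat 0, .ofNat 2, .ofNat 0, .negSucc 1, .negSucc 1, .ofNat 0, .negSucc 1, .ofNat 2, .ofNat 2, .negSucc 1, .ofNat 2],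
  [.negSucc 1, .ofNat 0, .ofNat 2, .ofNat 0, .negSucc 1, .ofNat 0, .ofNat 0, .ofNat 0, .negSucc 1, .ofNat 0, .negSucc 1, .ofNat 0, .ofNat 4, .ofNat 2, .ofNat 0, .negSucc 1, .ofNat 0, .ofNat 0, .negSucc 1, .ofNat 4, .ofNat 0, .ofNat 0, .ofNat 0, .ofNat 0],
  [.ofNat 0, .ofNat 2, .ofNat 0, .ofNat 2, .ofNat 0, .negSucc 1, .ofNat 2, .ofNat 2, .ofNat 0, .ofNat 2, .ofNat 0, .negSucc 1, .ofNat 2, .ofNat 0, .negSucc 1, .ofNat 0, .negSucc 1, .ofNat 2, .ofNat 0, .negSucc 1, .ofNat 2, .ofNat 2, .ofNat 2, .negSucc 1],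
  [.negSucc 1, .ofNat 0, .negSucc 1, .negSucc 3, .ofNat 2, .ofNat 0, .ofNat 0, .ofNat 0, .ofNat 2, .ofNat 0, .negSucc 1, .ofNat 0, .ofNat 0, .ofNat 2, .ofNat 0, .negSucc 1, .ofNat 0, .ofNat 0, .ofNat 2, .ofNat 0, .ofNat 4, .ofNat 0, .ofNat 0, .ofNat 0],
  [.ofNat 0, .negSucc 1, .ofNat 0, .negSucc 1, .ofNat 0, .ofNat 2, .ofNat 2, .ofNat 2, .ofNat 0, .ofNat 2, .ofNat 0, .ofNat 2, .ofNat 2, .ofNat 0, .negSucc 1, .ofNat 0, .negSucc 1, .negSucc 1, .ofNat 0, .negSucc 1, .negSucc 1, .negSucc 1, .negSucc 1, .negSucc 1],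
  [.ofNat 0, .ofNat 2, .ofNat 0, .negSucc 1, .ofNat 0, .ofNat 2, .ofNat 2, .ofNat 2, .ofNat 0, .ofNat 2, .ofNat 0, .negSucc 1, .negSucc 1, .ofNat 0, .ofNat 2, .ofNat 0, .negSucc 1, .ofNat 2, .ofNat 0, .ofNat 2, .negSucc 1, .ofNat 2, .negSucc 1, .ofNat 2],
  [.negSucc 1, .ofNat 0, .ofNat 2, .ofNat 0, .negSucc 1, .ofNat 0, .ofNat 0, .ofNat 0, .ofNat 2, .ofNat 0, .ofNat 2, .ofNat 0, .ofNat 0, .negSucc 1, .ofNat 4, .negSucc 1, .ofNat 0, .ofNat 0, .ofNat 2, .ofNat 0, .ofNat 0, .ofNat 0, .ofNat 0, .negSucc 3],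
  [.ofNat 0, .negSucc 1, .ofNat 0, .ofNat 2, .ofNat 0, .negSucc 1, .ofNat 2, .ofNat 2, .ofNat 0, .ofNat 2, .ofNat 0, .ofNat 2, .negSucc 1, .ofNat 0, .ofNat 2, .ofNat 0, .negSucc 1, .negSucc 1, .ofNat 0, .ofNat 2, .ofNat 2, .negSucc 1, .ofNat 2, .ofNat 2],
  [.negSucc 1, .negSucc 3, .negSucc 1, .ofNat 0, .negSucc 1, .ofNat 0, .ofNat 0, .ofNat 0, .negSucc 1, .ofNat 0, .ofNat 2, .ofNat 0, .ofNat 0, .ofNat 2, .ofNat 0, .ofNat 2, .ofNat 0, .ofNat 0, .ofNat 2, .ofNat 0, .ofNat 0, .ofNat 4, .ofNat 0, .ofNat 0],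
  [.negSucc 1, .ofNat 4, .negSucc 1, .ofNat 0, .negSucc 1, .ofNat 0, .ofNat 0, .ofNat 0, .negSucc 1, .ofNat 0, .ofNat 2, .ofNat 0, .ofNat 0, .ofNat 2, .ofNat 0, .ofNat 2, .ofNat 0, .ofNat 0, .ofNat 2, .ofNat 0, .ofNat 0, .negSucc 3, .ofNat 0, .ofNat 0],
  [.ofNat 2, .ofNat 0, .ofNat 2, .ofNat 0, .ofNat 2, .ofNat 0, .ofNat 0, .ofNat 0, .negSucc 1, .ofNat 0, .ofNat 2, .ofNat 4, .ofNat 0, .ofNat 2, .ofNat 0, .negSucc 1, .ofNat 0, .ofNat 4, .ofNat 2, .ofNat 0, .ofNat 0, .ofNat 0, .ofNat 0, .ofNat 0],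
  [.negSucc 1, .ofNat 0, .ofNat 2, .ofNat 0, .ofNat 2, .ofNat 0, .ofNat 0, .ofNat 4, .ofNat 2, .ofNat 0, .ofNat 2, .ofNat 0, .ofNat 0, .ofNat 2, .ofNat 0, .ofNat 2, .ofNat 4, .ofNat 0, .negSucc 1, .ofNat 0, .ofNat 0, .ofNat 0, .ofNat 0, .ofNat 0],
  [.ofNat 2, .ofNat 0, .negSucc 1, .ofNat 0, .negSucc 1, .ofNat 0, .ofNat 4, .ofNat 0, .ofNat 2, .negSucc 3, .ofNat 2, .ofNat 0, .ofNat 0, .ofNat 2, .ofNat 0, .negSucc 1, .ofNat 0, .ofNat 0, .negSucc 1, .ofNat 0, .ofNat 0, .ofNat 0, .ofNat 0, .ofNat 0],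
  [.ofNat 0, .ofNat 2, .ofNat 0, .negSucc 1, .ofNat 0, .negSucc 1, .ofNat 2, .negSucc 1, .ofNat 0, .ofNat 2, .ofNat 0, .ofNat 2, .ofNat 2, .ofNat 0, .ofNat 2, .ofNat 0, .ofNat 2, .negSucc 1, .ofNat 0, .negSucc 1, .negSucc 1, .ofNat 2, .ofNat 2, .ofNat 2],
  [.ofNat 0, .negSucc 1, .ofNat 0, .ofNat 2, .ofNat 0, .ofNat 2, .ofNat 2, .negSucc 1, .ofNat 0, .ofNat 2, .ofNat 0, .negSucc 1, .ofNat 2, .ofNat 0, .ofNat 2, .ofNat 0, .ofNat 2, .ofNat 2, .ofNat 0, .negSucc 1, .ofNat 2, .negSucc 1, .negSucc 1, .ofNat 2],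
  [.ofNat 2, .ofNat 0, .negSucc 1, .ofNat 0, .negSucc 1, .ofNat 0, .ofNat 0, .ofNat 4, .negSucc 1, .ofNat 0, .negSucc 1, .ofNat 0, .ofNat 0, .negSucc 1, .ofNat 0, .negSucc 1, .ofNat 4, .ofNat 0, .ofNat 2, .ofNat 0, .ofNat 0, .ofNat 0, .ofNat 0, .ofNat 0],
  [.negSucc 1, .ofNat 0, .negSucc 1, .ofNat 0, .ofNat 2, .ofNat 4, .ofNat 0, .ofNat 0, .negSucc 1, .ofNat 0, .ofNat 2, .ofNat 0, .ofNat 0, .negSucc 1, .ofNat 0, .negSucc 1, .ofNat 0, .ofNat 0, .negSucc 1, .ofNat 0, .ofNat 0, .ofNat 0, .ofNat 4, .ofNat 0],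
  [.ofNat 2, .ofNat 0, .negSucc 1, .ofNat 0, .ofNat 2, .ofNat 0, .ofNat 0, .ofNat 0, .ofNat 2, .ofNat 0, .ofNat 2, .ofNat 0, .ofNat 4, .negSucc 1, .ofNat 0, .ofNat 2, .ofNat 0, .ofNat 0, .ofNat 2, .ofNat 4, .ofNat 0, .ofNat 0, .ofNat 0, .ofNat 0],
  [.negSucc 1, .ofNat 0, .ofNat 2, .ofNat 0, .ofNat 2, .ofNat 0, .ofNat 4, .ofNat 0, .negSucc 1, .negSucc 3, .negSucc 1, .ofNat 0, .ofNat 0, .negSucc 1, .ofNat 0, .ofNat 2, .ofNat 0, .ofNat 0, .ofNat 2, .ofNat 0, .ofNat 0, .ofNat 0, .ofNat 0, .ofNat 0],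
  [.negSucc 1, .ofNat 0, .negSucc 1, .ofNat 0, .ofNat 2, .negSucc 3, .ofNat 0, .ofNat 0, .negSucc 1, .ofNat 0, .ofNat 2, .ofNat 0, .ofNat 0, .negSucc 1, .ofNat 0, .negSucc 1, .ofNat 0, .ofNat 0, .negSucc 1, .ofNat 0, .ofNat 0, .ofNat 0, .negSucc 3, .ofNat 0],
  [.ofNat 2, .ofNat 0, .ofNat 2, .ofNat 0, .ofNat 2, .ofNat 0, .ofNat 0, .ofNat 0, .negSucc 1, .ofNat 0, .ofNat 2, .negSucc 3, .ofNat 0, .ofNat 2, .ofNat 0, .negSucc 1, .ofNat 0, .negSucc 3, .ofNat 2, .ofNat 0, .ofNat 0, .ofNat 0, .ofNat 0, .ofNat 0],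
  [.ofNat 0, .negSucc 1, .ofNat 0, .negSucc 1, .ofNat 0, .negSucc 1, .negSucc 1, .ofNat 2, .ofNat 0, .negSucc 1, .ofNat 0, .negSucc 1, .ofNat 2, .ofNat 0, .ofNat 2, .ofNat 0, .negSucc 1, .ofNat 2, .ofNat 0, .negSucc 1, .negSucc 1, .negSucc 1, .ofNat 2, .ofNat 2],
  [.negSucc 1, .ofNat 0, .negSucc 1, .ofNat 4, .ofNat 2, .ofNat 0, .ofNat 0, .ofNat 0, .ofNat 2, .ofNat 0, .negSucc 1, .ofNat 0, .ofNat 0, .ofNat 2, .ofNat 0, .negSucc 1, .ofNat 0, .ofNat 0, .ofNat 2, .ofNat 0, .negSucc 3, .ofNat 0, .ofNat 0, .ofNat 0]]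

theorem c1m5g0_tr : ∀ q p : GolayPt, mfun c1m5g0t q p = mfun c1m5g0 p q := by decide +kernel

theorem c1m5g0_lat : GamChk (mfun c1m5g0) := by decide +kernel

theorem c1m5g0_latT : GamChk (mfun c1m5g0t) := by decide +kernel

theorem c1m5g0_orth : LOrth (mfun c1m5g0) := by decide +kernel

theorem c1m5g0_orthT : LOrth (mfun c1m5g0t) := by decide +kernel

theorem c1m5g0_ok : MatOk c1m5g0 c1m5g0t := ⟨c1m5g0_tr, c1m5g0_lat, c1m5g0_latT, c1m5g0_orth, c1m5g0_orthT⟩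

theorem c1m5g0_rows : c1m5g0Z = rowsL c1m5g0 := by decide +kernel

/-- the element of `Co0` -/
def c1m5g0E : ↥Co0 := matEN c1m5g0 c1m5g0t c1m5g0_ok

theorem c1m5g0_rep : RepZ c1m5g0Z c1m5g0E := RepZ.of_mat (matEN_rep _ _ _) c1m5g0_rows

end Cfsg.Agent.Lib.Helper26.C1M
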