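import Cfsg.Agent.Lib.Helper26.C1M.Front

set_option autoImplicit false
set_option maxRecDepth 1000000

/-!
# Project C1M: the conjugating element c1m5h0 for the prime 5 (generated)
-/

namespace Cfsg.Agent.Lib.Helper26.C1M

open Cfsg Cfsg.Agent.Lib.Lead.CW Cfsg.Agent.Lib.helper3 Cfsg.Agent.Lib.Helper26.Co1O

/-- the packed matrix -/
def c1m5h0 : ℕ := 0x8c62f7c5f18bdf18c62f8c5b59c5f17ce718be2f7c6337bded9bdef8be2f8c62f7c5f16be718b62f6b6317c5f18c62f7c5f18cded8c5af8b6317b5f19be718be2f9b62f9bdf17bdef8be2f7bded8be337c6339cdf17bdef8be2f8c5af7b6718bdf18b62f8c6317b5f18b62f9b5f18bdf16c62f8b6317c5f18c62f7c5f18bdf18c62f8c6ad9c5f19bded8bdaf7c62f7bded7cdef8be2f8c62f9c6716bded8c62f8c6317c6717bdf18be2f7c62f7bdf17be73abe2f7bdf18be2f7c5af9bded7bdef8cdaf8c5af7c5ed8bdf18c62f8b6317c66d7be6d6be2f7c5af7be717bdef8be2f8c62f9c5f18cdf18b6338c6317c5ed8c62f7b5ed6bdf18c5b38c6317c5f18b62f7c66d8ce718c62f8c6317c5f18b6337c5f16bdf18c62f8c6317b5ed6b62f7c5f18bdf18b5af8c6317c6718c62f7c6718bdf16c5af6c6317c5ed9bdf18ce2f7c5b37bdf17bdef8be338c6337b5f18cdf18c62f6c6317c6716c62f9c5ed8bdf18c62f6c6317b5f1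

/-- the packed transposed matrix -/
def c1m5h0t : ℕ := 0x8be319be318ce2f7c5f18c62d8ce2d8ce317be2d8be2f7c5f18b5ad8be318ce319bdb18be2f7b6718c6318be317c5ef8b5ef7b5f18bdaf7be6f7c66f7c5ef8c5f37c6718bdb37bdef7c5f38be317bdad8be2f7c5f16c6318cdb17c5ef8c66f7b6718be2f7cdef9c5ef8be317ce318be2f7b5f16b6318be2d8bdb19be318bdaf7c5f16c5b18be317c5f36c5ef7c5f18be337cdef7c66f7c66f8c5ef7c5f16bdaf7cdef7b5ef8ce2d7ce318bdaf7c5f18c6318ce318be319ce2d8be2f9c5f18c6316be318bdb17cdb18be2f7c5ed8c62d8be318be2d7be318be2f7c6716c62d6be317b5ef8c5ef7b5f16be339bdef7c5ef8cdb17be318be2f7c5f18c6316bdad8bdad7be2d8ce2f7b5f18c6318be316be317be31abe337c5f18c6318be31abe317be316be337c5f18c6318be319c5ef8c5ef9c5f58be2f7bdef7c5ef8be2d7bdb18be2f9c5f18c5b18be2d7c5ef8c5ef7c6716ce2f7bdf37c66f8be317be318be2f7b5ed8c5b16ce31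

/-- the rows of the matrix -/
def c1m5h0Z : List (List ℤ) :=
  [[.ofNat 1, .negSucc 0, .negSucc 2, .negSucc 0, .ofNat 1, .ofNat 1, .ofNat 1, .negSucc 2, .negSucc 0, .ofNat 1, .ofNat 1, .ofNat 1, .ofNat 1, .negSucc 0, .negSucc 0, .ofNat 1, .negSucc 2, .negSucc 0, .ofNat 1, .ofNat 3, .negSucc 0, .ofNat 1, .ofNat 1, .negSucc 2],
  [.ofNat 1, .ofNat 3, .ofNat 1, .negSucc 0, .ofNat 1, .ofNat 1, .ofNat 1, .negSucc 2, .negSucc 0, .ofNat 1, .ofNat 1, .ofNat 1, .ofNat 1, .negSucc 0, .ofNat 3, .ofNat 1, .ofNat 1, .negSucc 0, .negSucc 2, .negSucc 0, .ofNat 3, .ofNat 1, .ofNat 1, .ofNat 1],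
  [.ofNat 3, .ofNat 1, .negSucc 0, .ofNat 1, .negSucc 0, .negSucc 0, .negSucc 0, .negSucc 0, .ofNat 1, .negSucc 0, .negSucc 0, .negSucc 0, .ofNat 3, .negSucc 2, .ofNat 1, .negSucc 0, .negSucc 0, .ofNat 1, .ofNat 3, .ofNat 1, .ofNat 1, .negSucc 0, .negSucc 0, .ofNat 3],
  [.negSucc 2, .negSucc 0, .ofNat 1, .negSucc 0, .ofNat 1, .ofNat 1, .ofNat 1, .negSucc 2, .negSucc 0, .negSucc 2, .ofNat 1, .negSucc 2, .ofNat 1, .negSucc 0, .negSucc 0, .ofNat 1, .ofNat 1, .ofNat 3, .ofNat 1, .negSucc 0, .negSucc 0, .ofNat 1, .ofNat 1, .ofNat 1],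
  [.ofNat 1, .ofNat 3, .ofNat 1, .negSucc 0, .ofNat 1, .ofNat 1, .ofNat 1, .ofNat 1, .negSucc 0, .negSucc 2, .negSucc 2, .ofNat 1, .ofNat 1, .negSucc 0, .negSucc 0, .ofNat 1, .ofNat 1, .negSucc 0, .ofNat 1, .negSucc 0, .negSucc 0, .ofNat 1, .negSucc 2, .negSucc 2],
  [.negSucc 2, .negSucc 0, .negSucc 2, .negSucc 0, .ofNat 1, .ofNat 1, .ofNat 1, .ofNat 1, .negSucc 0, .ofNat 1, .ofNat 1, .ofNat 1, .ofNat 1, .negSucc 0, .negSucc 0, .negSucc 2, .ofNat 1, .negSucc 0, .ofNat 1, .negSucc 0, .ofNat 3, .ofNat 1, .negSucc 2, .ofNat 1],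
  [.ofNat 1, .negSucc 0, .ofNat 1, .negSucc 0, .ofNat 1, .ofNat 1, .ofNat 1, .ofNat 1, .negSucc 0, .ofNat 1, .ofNat 1, .ofNat 1, .ofNat 1, .ofNat 3, .ofNat 3, .ofNat 1, .negSucc 2, .ofNat 3, .ofNat 1, .negSucc 0, .negSucc 0, .ofNat 1, .negSucc 2, .ofNat 1],
  [.ofNat 1, .negSucc 0, .ofNat 1, .negSucc 0, .ofNat 1, .ofNat 1, .ofNat 1, .ofNat 1, .ofNat 3, .negSucc 2, .ofNat 1, .ofNat 1, .ofNat 1, .negSucc 0, .negSucc 0, .negSucc 2, .negSucc 2, .negSucc 0, .negSucc 2, .negSucc 0, .negSucc 0, .ofNat 1, .ofNat 1, .ofNat 1],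
  [.negSucc 2, .negSucc 0, .ofNat 1, .negSucc 0, .ofNat 1, .ofNat 1, .ofNat 1, .ofNat 1, .ofNat 3, .ofNat 1, .negSucc 2, .ofNat 1, .ofNat 1, .negSucc 0, .ofNat 3, .ofNat 1, .ofNat 1, .negSucc 0, .ofNat 1, .ofNat 3, .negSucc 0, .ofNat 1, .ofNat 1, .ofNat 1],
  [.negSucc 0, .ofNat 1, .negSucc 0, .ofNat 1, .negSucc 0, .negSucc 0, .negSucc 0, .negSucc 0, .ofNat 1, .ofNat 3, .negSucc 0, .negSucc 0, .negSucc 0, .negSucc 2, .ofNat 1, .negSucc 0, .negSucc 0, .ofNat 1, .negSucc 0, .negSucc 2, .negSucc 2, .ofNat 3, .negSucc 0, .negSucc 0],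
  [.negSucc 2, .ofNat 3, .ofNat 1, .negSucc 0, .ofNat 1, .ofNat 1, .negSucc 2, .ofNat 1, .negSucc 0, .ofNat 1, .ofNat 1, .ofNat 1, .ofNat 1, .negSucc 0, .negSucc 0, .ofNat 1, .negSucc 2, .negSucc 0, .ofNat 1, .negSucc 0, .negSucc 0, .negSucc 2, .ofNat 1, .ofNat 1],
  [.negSucc 0, .negSucc 2, .ofNat 3, .ofNat 1, .negSucc 0, .negSucc 0, .negSucc 0, .negSucc 0, .negSucc 2, .negSucc 0, .negSucc 0, .ofNat 3, .negSucc 0, .negSucc 2, .ofNat 1, .negSucc 0, .negSucc 0, .ofNat 1, .negSucc 0, .ofNat 1, .ofNat 1, .negSucc 0, .negSucc 0, .negSucc 0],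
  [.negSucc 0, .ofNat 1, .negSucc 0, .ofNat 5, .ofNat 3, .ofNat 3, .negSucc 0, .negSucc 0, .ofNat 1, .negSucc 0, .negSucc 0, .negSucc 0, .negSucc 0, .ofNat 1, .ofNat 1, .negSucc 0, .negSucc 0, .ofNat 1, .negSucc 0, .ofNat 1, .ofNat 1, .negSucc 0, .negSucc 0, .negSucc 0],
  [.ofNat 1, .ofNat 3, .ofNat 1, .negSucc 0, .ofNat 1, .ofNat 1, .ofNat 1, .ofNat 1, .negSucc 0, .ofNat 1, .ofNat 1, .ofNat 1, .negSucc 2, .negSucc 0, .negSucc 0, .negSucc 2, .ofNat 1, .ofNat 3, .ofNat 1, .ofNat 3, .negSucc 0, .ofNat 1, .ofNat 1, .ofNat 1],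
  [.negSucc 0, .ofNat 1, .negSucc 0, .ofNat 1, .negSucc 0, .negSucc 0, .ofNat 3, .negSucc 0, .negSucc 2, .negSucc 0, .negSucc 0, .negSucc 0, .negSucc 0, .ofNat 1, .ofNat 1, .negSucc 0, .negSucc 0, .negSucc 2, .negSucc 0, .ofNat 1, .negSucc 2, .negSucc 0, .negSucc 0, .ofNat 3],
  [.ofNat 1, .negSucc 0, .ofNat 1, .ofNat 3, .negSucc 2, .ofNat 5, .ofNat 1, .ofNat 1, .negSucc 0, .ofNat 1, .ofNat 1, .ofNat 1, .ofNat 1, .negSucc 0, .negSucc 0, .ofNat 1, .ofNat 1, .negSucc 0, .ofNat 1, .negSucc 0, .negSucc 0, .ofNat 1, .ofNat 1, .ofNat 1],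
  [.ofNat 1, .negSucc 0, .ofNat 1, .negSucc 0, .ofNat 1, .ofNat 1, .negSucc 2, .ofNat 1, .negSucc 0, .ofNat 1, .ofNat 1, .negSucc 2, .ofNat 1, .negSucc 0, .negSucc 0, .ofNat 1, .ofNat 1, .negSucc 0, .negSucc 2, .ofNat 3, .negSucc 0, .ofNat 1, .negSucc 2, .ofNat 1],
  [.ofNat 1, .negSucc 0, .negSucc 2, .negSucc 0, .ofNat 1, .ofNat 1, .ofNat 1, .ofNat 1, .negSucc 0, .ofNat 1, .negSucc 2, .ofNat 1, .ofNat 1, .negSucc 0, .negSucc 0, .ofNat 1, .ofNat 1, .ofNat 3, .negSucc 2, .negSucc 0, .negSucc 0, .negSucc 2, .ofNat 1, .ofNat 1],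
  [.negSucc 0, .ofNat 1, .negSucc 0, .ofNat 1, .negSucc 0, .negSucc 0, .negSucc 0, .negSucc 0, .ofNat 1, .negSucc 0, .ofNat 3, .ofNat 3, .ofNat 3, .ofNat 1, .ofNat 1, .negSucc 0, .ofNat 3, .ofNat 1, .negSucc 0, .ofNat 1, .negSucc 2, .negSucc 0, .negSucc 0, .negSucc 0],
  [.negSucc 0, .ofNat 1, .negSucc 0, .ofNat 1, .negSucc 0, .negSucc 0, .negSucc 0, .negSucc 0, .ofNat 1, .negSucc 0, .negSucc 0, .ofNat 3, .negSucc 0, .ofNat 1, .negSucc 2, .ofNat 3, .negSucc 0, .ofNat 1, .negSucc 0, .ofNat 1, .ofNat 1, .ofNat 3, .negSucc 0, .ofNat 3],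
  [.ofNat 1, .negSucc 0, .negSucc 2, .negSucc 0, .ofNat 1, .ofNat 1, .negSucc 2, .ofNat 1, .negSucc 0, .negSucc 2, .ofNat 1, .ofNat 1, .negSucc 2, .negSucc 0, .ofNat 3, .ofNat 1, .ofNat 1, .negSucc 0, .ofNat 1, .negSucc 0, .negSucc 0, .ofNat 1, .ofNat 1, .ofNat 1],
  [.ofNat 1, .negSucc 0, .ofNat 1, .negSucc 0, .ofNat 1, .ofNat 1, .negSucc 2, .negSucc 2, .negSucc 0, .ofNat 1, .negSucc 2, .ofNat 1, .ofNat 1, .ofNat 3, .negSucc 0, .negSucc 2, .ofNat 1, .negSucc 0, .ofNat 1, .negSucc 0, .negSucc 0, .ofNat 1, .ofNat 1, .ofNat 1],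
  [.negSucc 0, .ofNat 1, .negSucc 0, .ofNat 1, .negSucc 0, .negSucc 0, .negSucc 0, .ofNat 3, .negSucc 2, .negSucc 0, .negSucc 0, .negSucc 0, .ofNat 3, .ofNat 1, .ofNat 1, .negSucc 0, .negSucc 0, .ofNat 1, .negSucc 0, .ofNat 1, .ofNat 1, .ofNat 3, .ofNat 3, .negSucc 0],
  [.ofNat 1, .negSucc 0, .ofNat 1, .ofNat 3, .ofNat 5, .negSucc 2, .ofNat 1, .ofNat 1, .negSucc 0, .ofNat 1, .ofNat 1, .ofNat 1, .ofNat 1, .negSucc 0, .negSucc 0, .ofNat 1, .ofNat 1, .negSucc 0, .ofNat 1, .negSucc 0, .negSucc 0, .ofNat 1, .ofNat 1, .ofNat 1]]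

theorem c1m5h0_tr : ∀ q p : GolayPt, mfun c1m5h0t q p = mfun c1m5h0 p q := by decide +kernel

theorem c1m5h0_lat : GamChk (mfun c1m5h0) := by decide +kernel

theorem c1m5h0_latT : GamChk (mfun c1m5h0t) := by decide +kernel

theorem c1m5h0_orth : LOrth (mfun c1m5h0) := by decide +kernel

theorem c1m5h0_orthT : LOrth (mfun c1m5h0t) := by decide +kernel

theorem c1m5h0_ok : MatOk c1m5h0 c1m5h0t := ⟨c1m5h0_tr, c1m5h0_lat, c1m5h0_latT, c1m5h0_orth, c1m5h0_orthT⟩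

theorem c1m5h0_rows : c1m5h0Z = rowsL c1m5h0 := by decide +kernel

/-- the element of `Co0` -/
def c1m5h0E : ↥Co0 := matEN c1m5h0 c1m5h0t c1m5h0_ok

theorem c1m5h0_rep : RepZ c1m5h0Z c1m5h0E := RepZ.of_mat (matEN_rep _ _ _) c1m5h0_rows

end Cfsg.Agent.Lib.Helper26.C1M
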