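import Cfsg.Agent.Lib.Helper26.C1M.Front

set_option autoImplicit false
set_option maxRecDepth 1000000

/-!
# Project C1M: the conjugating element c1m5h1 for the prime 5 (generated)
-/

namespace Cfsg.Agent.Lib.Helper26.C1M

open Cfsg Cfsg.Agent.Lib.Lead.CW Cfsg.Agent.Lib.helper3 Cfsg.Agent.Lib.Helper26.Co1O

/-- the packed matrix -/
def c1m5h1 : ℕ := 0x63a5083a4e841d273a1074a10842129420e9420c93a10841ce841ce739d09420e9321073a108425284252939d0839d0839ce8424e74a1074a108520e942929421094a10841d28424e949d07420e9421094a0c841d2841d293a50849d084a4e8425273a1494a108420e84a50849ce8425274a1073a1484212942127421074a10841ce851d2939d0839d084a528424e73a1073a1084192742129421094a108424e84252739cc84a5083a528424e74a1094a1064212839d0a49d2841d274a1094a1084212849d0839d2a425293a1074a1084212942129421074a1084252641ce73a50932127421093a10841d28425273a507420e7419074a10841d28424e739d09420e742109499084252841d2749d09420e7421094a106424e8424e93a50849d083a52841d27499073a108420e9420e9421074a10831ce8425274a5083a4c84a528425294a1074a108420e849d084a4e841ce94a1074a908421284a50849d2831ce73a1074a108420e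

/-- the packed transposed matrix -/
def c1m5h1t : ℕ := 0x64a5093a10941d08425274a50942107420e8425283a1274a0c8421283a529420ea41d283a1273a108420e849d2839d093a109425084252739d07321084a5094a1074250a424e739d0942107418e8425284a0e93a108420e84a529420e8424e84a1273a106421284a4e7320e841ce84a1294a1084212849d2849d094a1074250851d274a5074210839d094a10942508424e94a509420c742128425284a1274a108320e849ce9420e8325283a0e94a1084212849ce7420e841ce83a0e74a108418e84a4e74212841d283a1293a108421264a4e83a5073a10742508424e74a4c7421083a5094a90741d084252949d0742107420e8424e83a12939908420e839ce942128424ea3a1294a108420e84a5283a5093a1074250841d293a509429083a5074a1494250841d2749d09421083a5094a10941cc841ce73a5074210839d493a10741d0841ce749d094210839d074a10731d08425273a50942109420e841d28499294a108420e83a4e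

/-- the rows of the matrix -/
def c1m5h1Z : List (List ℤ) :=
  [[.negSucc 1, .ofNat 0, .ofNat 0, .ofNat 0, .ofNat 0, .ofNat 0, .ofNat 2, .negSucc 1, .ofNat 0, .ofNat 0, .negSucc 1, .negSucc 1, .negSucc 1, .negSucc 1, .negSucc 3, .ofNat 0, .ofNat 2, .negSucc 1, .ofNat 2, .ofNat 0, .ofNat 0, .ofNat 2, .ofNat 2, .ofNat 0],
  [.ofNat 2, .ofNat 0, .ofNat 0, .ofNat 0, .ofNat 0, .ofNat 4, .ofNat 2, .negSucc 1, .ofNat 0, .ofNat 0, .ofNat 2, .ofNat 2, .negSucc 1, .negSucc 1, .ofNat 0, .ofNat 0, .negSucc 1, .ofNat 2, .ofNat 2, .ofNat 0, .ofNat 0, .negSucc 1, .ofNat 2, .ofNat 0],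
  [.negSucc 1, .ofNat 0, .ofNat 0, .ofNat 0, .ofNat 0, .ofNat 0, .ofNat 2, .negSucc 1, .ofNat 0, .ofNat 0, .ofNat 2, .ofNat 2, .ofNat 2, .ofNat 2, .ofNat 0, .ofNat 0, .ofNat 2, .ofNat 2, .ofNat 2, .ofNat 0, .negSucc 3, .ofNat 2, .negSucc 1, .ofNat 0],
  [.ofNat 0, .ofNat 2, .ofNat 2, .negSucc 1, .ofNat 2, .ofNat 2, .ofNat 0, .ofNat 0, .negSucc 1, .negSucc 1, .negSucc 3, .ofNat 0, .ofNat 0, .ofNat 0, .ofNat 2, .negSucc 1, .ofNat 0, .ofNat 0, .ofNat 0, .ofNat 2, .negSucc 1, .ofNat 0, .ofNat 0, .ofNat 2],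
  [.negSucc 1, .ofNat 0, .ofNat 0, .ofNat 0, .ofNat 0, .ofNat 0, .negSucc 1, .negSucc 1, .ofNat 0, .negSucc 3, .ofNat 2, .negSucc 1, .ofNat 2, .negSucc 1, .ofNat 0, .ofNat 0, .ofNat 2, .ofNat 2, .negSucc 1, .ofNat 0, .ofNat 0, .negSucc 1, .ofNat 2, .ofNat 0],
  [.ofNat 0, .ofNat 2, .negSucc 1, .ofNat 2, .negSucc 1, .ofNat 2, .ofNat 0, .ofNat 0, .negSucc 1, .ofNat 2, .ofNat 0, .negSucc 3, .ofNat 0, .ofNat 0, .ofNat 2, .ofNat 2, .ofNat 0, .ofNat 0, .ofNat 0, .negSucc 1, .negSucc 1, .ofNat 0, .ofNat 0, .ofNat 2],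
  [.ofNat 0, .negSucc 1, .ofNat 2, .negSucc 1, .ofNat 2, .negSucc 1, .ofNat 0, .ofNat 0, .ofNat 2, .ofNat 2, .ofNat 0, .ofNat 0, .ofNat 0, .negSucc 3, .ofNat 2, .ofNat 2, .ofNat 0, .ofNat 0, .ofNat 0, .negSucc 1, .negSucc 1, .ofNat 0, .ofNat 0, .ofNat 2],
  [.ofNat 0, .negSucc 1, .negSucc 1, .negSucc 1, .negSucc 1, .ofNat 2, .ofNat 0, .ofNat 0, .ofNat 2, .negSucc 1, .ofNat 0, .ofNat 0, .ofNat 0, .ofNat 0, .ofNat 2, .negSucc 1, .ofNat 0, .negSucc 3, .ofNat 0, .negSucc 1, .negSucc 1, .ofNat 0, .ofNat 0, .negSucc 1],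
  [.ofNat 0, .ofNat 2, .negSucc 1, .negSucc 1, .ofNat 2, .ofNat 2, .ofNat 0, .ofNat 0, .ofNat 2, .negSucc 1, .ofNat 0, .ofNat 0, .ofNat 0, .ofNat 0, .negSucc 1, .ofNat 2, .ofNat 0, .ofNat 0, .ofNat 0, .negSucc 1, .ofNat 2, .ofNat 0, .negSucc 3, .ofNat 2],
  [.ofNat 0, .ofNat 2, .negSucc 1, .negSucc 1, .negSucc 1, .negSucc 1, .ofNat 0, .negSucc 3, .ofNat 2, .ofNat 2, .ofNat 0, .ofNat 0, .ofNat 0, .ofNat 0, .ofNat 2, .negSucc 1, .ofNat 0, .ofNat 0, .ofNat 0, .ofNat 2, .ofNat 2, .ofNat 0, .ofNat 0, .ofNat 2],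
  [.ofNat 2, .ofNat 0, .ofNat 0, .ofNat 0, .ofNat 0, .ofNat 0, .ofNat 2, .negSucc 1, .ofNat 0, .ofNat 0, .negSucc 1, .ofNat 2, .ofNat 2, .ofNat 2, .ofNat 0, .ofNat 4, .ofNat 2, .negSucc 1, .negSucc 1, .ofNat 0, .ofNat 0, .negSucc 1, .ofNat 2, .ofNat 0],
  [.ofNat 2, .ofNat 0, .ofNat 0, .ofNat 0, .ofNat 0, .ofNat 0, .ofNat 2, .ofNat 2, .ofNat 0, .ofNat 0, .ofNat 2, .negSucc 1, .ofNat 2, .negSucc 1, .ofNat 0, .ofNat 0, .ofNat 2, .negSucc 1, .ofNat 2, .ofNat 4, .ofNat 0, .negSucc 1, .negSucc 1, .ofNat 0],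
  [.ofNat 2, .ofNat 0, .ofNat 0, .negSucc 3, .ofNat 0, .ofNat 0, .ofNat 2, .ofNat 2, .ofNat 0, .ofNat 0, .ofNat 2, .negSucc 1, .negSucc 1, .ofNat 2, .ofNat 0, .ofNat 0, .ofNat 2, .ofNat 2, .negSucc 1, .ofNat 0, .ofNat 0, .ofNat 2, .ofNat 2, .ofNat 0],
  [.negSucc 3, .negSucc 1, .negSucc 1, .negSucc 1, .ofNat 2, .ofNat 2, .ofNat 0, .ofNat 0, .negSucc 1, .ofNat 2, .ofNat 0, .ofNat 0, .ofNat 0, .ofNat 0, .ofNat 2, .ofNat 2, .ofNat 0, .ofNat 0, .ofNat 0, .ofNat 2, .ofNat 2, .ofNat 0, .ofNat 0, .negSucc 1],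
  [.ofNat 2, .negSucc 3, .ofNat 0, .ofNat 0, .ofNat 0, .ofNat 0, .negSucc 1, .negSucc 1, .ofNat 0, .ofNat 0, .negSucc 1, .negSucc 1, .negSucc 1, .ofNat 2, .ofNat 0, .ofNat 0, .ofNat 2, .ofNat 2, .ofNat 2, .ofNat 0, .ofNat 0, .negSucc 1, .negSucc 1, .ofNat 0],
  [.ofNat 0, .negSucc 1, .negSucc 1, .ofNat 2, .ofNat 2, .negSucc 1, .ofNat 4, .ofNat 0, .negSucc 1, .negSucc 1, .ofNat 0, .ofNat 0, .ofNat 0, .ofNat 0, .ofNat 2, .negSucc 1, .ofNat 0, .ofNat 0, .ofNat 0, .negSucc 1, .ofNat 2, .ofNat 0, .ofNat 0, .ofNat 2],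
  [.ofNat 2, .ofNat 0, .ofNat 0, .ofNat 0, .ofNat 4, .ofNat 0, .negSucc 1, .negSucc 1, .ofNat 0, .ofNat 0, .ofNat 2, .negSucc 1, .ofNat 2, .ofNat 2, .ofNat 0, .ofNat 0, .negSucc 1, .negSucc 1, .ofNat 2, .ofNat 0, .ofNat 0, .ofNat 2, .ofNat 2, .ofNat 0],
  [.negSucc 1, .ofNat 0, .ofNat 0, .ofNat 0, .ofNat 0, .ofNat 0, .ofNat 2, .ofNat 2, .ofNat 4, .ofNat 0, .negSucc 1, .negSucc 1, .ofNat 2, .ofNat 2, .ofNat 0, .ofNat 0, .negSucc 1, .ofNat 2, .ofNat 2, .ofNat 0, .ofNat 0, .negSucc 1, .ofNat 2, .ofNat 0],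
  [.ofNat 0, .ofNat 2, .negSucc 1, .ofNat 2, .ofNat 2, .negSucc 1, .ofNat 0, .ofNat 0, .ofNat 2, .negSucc 1, .ofNat 0, .ofNat 0, .negSucc 3, .ofNat 0, .ofNat 2, .ofNat 2, .ofNat 0, .ofNat 0, .ofNat 0, .ofNat 2, .negSucc 1, .ofNat 0, .ofNat 0, .negSucc 1],
  [.ofNat 0, .negSucc 1, .ofNat 2, .ofNat 2, .negSucc 1, .ofNat 2, .ofNat 0, .ofNat 0, .ofNat 2, .negSucc 1, .ofNat 0, .ofNat 0, .ofNat 0, .ofNat 0, .ofNat 2, .ofNat 2, .ofNat 0, .ofNat 0, .ofNat 0, .ofNat 2, .ofNat 2, .ofNat 4, .ofNat 0, .ofNat 2],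
  [.negSucc 1, .ofNat 0, .ofNat 4, .ofNat 0, .ofNat 0, .ofNat 0, .ofNat 2, .negSucc 1, .ofNat 0, .ofNat 0, .ofNat 2, .negSucc 1, .negSucc 1, .ofNat 2, .ofNat 0, .ofNat 0, .negSucc 1, .negSucc 1, .negSucc 1, .ofNat 0, .ofNat 0, .negSucc 1, .negSucc 1, .ofNat 0],
  [.ofNat 0, .negSucc 1, .negSucc 1, .ofNat 2, .ofNat 2, .ofNat 2, .ofNat 0, .ofNat 0, .ofNat 2, .ofNat 2, .ofNat 0, .ofNat 0, .ofNat 0, .ofNat 0, .negSucc 1, .negSucc 1, .ofNat 0, .ofNat 0, .negSucc 3, .ofNat 2, .negSucc 1, .ofNat 0, .ofNat 0, .ofNat 2],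
  [.ofNat 0, .negSucc 1, .negSucc 1, .negSucc 1, .negSucc 1, .negSucc 1, .ofNat 0, .ofNat 0, .negSucc 1, .negSucc 1, .ofNat 0, .ofNat 0, .ofNat 0, .ofNat 0, .negSucc 1, .ofNat 2, .negSucc 3, .ofNat 0, .ofNat 0, .ofNat 2, .negSucc 1, .ofNat 0, .ofNat 0, .ofNat 2],
  [.ofNat 2, .ofNat 0, .ofNat 0, .ofNat 0, .ofNat 0, .ofNat 0, .ofNat 2, .negSucc 1, .ofNat 0, .ofNat 0, .negSucc 1, .negSucc 1, .ofNat 2, .negSucc 1, .ofNat 0, .ofNat 0, .negSucc 1, .ofNat 2, .negSucc 1, .ofNat 0, .ofNat 0, .ofNat 2, .negSucc 1, .negSucc 3]]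

theorem c1m5h1_tr : ∀ q p : GolayPt, mfun c1m5h1t q p = mfun c1m5h1 p q := by decide +kernel

theorem c1m5h1_lat : GamChk (mfun c1m5h1) := by decide +kernel

theorem c1m5h1_latT : GamChk (mfun c1m5h1t) := by decide +kernel

theorem c1m5h1_orth : LOrth (mfun c1m5h1) := by decide +kernel

theorem c1m5h1_orthT : LOrth (mfun c1m5h1t) := by decide +kernel

theorem c1m5h1_ok : MatOk c1m5h1 c1m5h1t := ⟨c1m5h1_tr, c1m5h1_lat, c1m5h1_latT, c1m5h1_orth, c1m5h1_orthT⟩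

theorem c1m5h1_rows : c1m5h1Z = rowsL c1m5h1 := by decide +kernel

/-- the element of `Co0` -/
def c1m5h1E : ↥Co0 := matEN c1m5h1 c1m5h1t c1m5h1_ok

theorem c1m5h1_rep : RepZ c1m5h1Z c1m5h1E := RepZ.of_mat (matEN_rep _ _ _) c1m5h1_rows

end Cfsg.Agent.Lib.Helper26.C1M
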