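import Cfsg.Agent.Lib.Helper26.C1M.Front
import Cfsg.Agent.Lib.Lead.LeechGen

set_option autoImplicit false

/-!
# Project C1M: a lower bound for the order of a subgroup from a chain of stabilisers
-/

namespace Cfsg.Agent.Lib.Helper26.C1M

open Cfsg Subgroup Cfsg.Agent.Lib.Helper26.Co1O Cfsg.Agent.Lib.Helper5.PcT Cfsg.Agent.Lib.Helper5.PcP
open Cfsg.Agent.Lib.Lead.CW Cfsg.Agent.Lib.helper3

/-- the elements of `K` fixing all points of a list, for an arbitrary action -/
def fixSubA {H X : Type*} [Group H] [MulAction H X] (K : Subgroup H) (bs : List X) : Subgroup H where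
  carrier := {g | g ∈ K ∧ ∀ b ∈ bs, g • b = b}
  one_mem' := ⟨K.one_mem, fun _ _ => one_smul _ _⟩
  mul_mem' := by
    rintro x y ⟨hx, hx'⟩ ⟨hy, hy'⟩
    refine ⟨K.mul_mem hx hy, fun b hb => ?_⟩
    rw [mul_smul, hy' b hb, hx' b hb]
  inv_mem' := by
    rintro x ⟨hx, hx'⟩
    refine ⟨K.inv_mem hx, fun b hb => ?_⟩
    rw [inv_smul_eq_iff, hx' b hb]

/-- the check of a chain of stabilisers: at each level the elements lie in `K`, fix the previous
base points and map the new base point to pairwise different points -/
def chainOKA {H X : Type*} [Group H] [MulAction H X] (K : Subgroup H) :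
    List X → List (X × List H) → Prop
  | _, [] => True
  | bs, (b, us) :: rest =>
    (∀ u ∈ us, u ∈ K ∧ ∀ c ∈ bs, u • c = c) ∧ (us.map fun u => u • b).Nodup ∧
      chainOKA K (b :: bs) rest

/-- one level of the chain -/
theorem card_fixSubA_ge {H X : Type*} [Group H] [MulAction H X] [Finite H] (K : Subgroup H)
    (bs : List X) (b : X) (us : List H) (hus : ∀ u ∈ us, u ∈ fixSubA K bs)
    (hd : (us.map fun u => u • b).Nodup) :
    us.length * Nat.card (fixSubA K (b :: bs)) ≤ Nat.card (fixSubA K bs) := by
  classical
  let f : Fin us.length × fixSubA K (b :: bs) → fixSubA K bs := fun q =>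
    ⟨us[q.1] * q.2.1, (fixSubA K bs).mul_mem (hus _ (List.getElem_mem q.1.2))
      ⟨q.2.2.1, fun c hc => q.2.2.2 c (List.mem_cons_of_mem _ hc)⟩⟩
  have hf : Function.Injective f := by
    rintro ⟨i, s⟩ ⟨j, t⟩ h
    have h1 : us[i] * s.1 = us[j] * t.1 := congrArg Subtype.val h
    have hs : s.1 • b = b := s.2.2 b List.mem_cons_self
    have ht : t.1 • b = b := t.2.2 b List.mem_cons_self
    have h2 : us[i] • b = us[j] • b := by
      have e := congrArg (fun g : H => g • b) h1
      simp only [mul_smul, hs, ht] at e
      exact e
    have h3 : (us.map fun u => u • b)[i.1]'(by simp) = (us.map fun u => u • b)[j.1]'(by simp) := by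
      simp only [List.getElem_map]
      exact h2
    have hij : i.1 = j.1 := (List.Nodup.getElem_inj_iff hd).mp h3
    have hij' : i = j := Fin.ext hij
    subst hij'
    have h4 : s.1 = t.1 := mul_left_cancel h1
    have h5 : s = t := Subtype.ext h4
    rw [h5]
  have := Nat.card_le_card_of_injective f hf
  rwa [Nat.card_prod, Nat.card_fin] at this

/-- a lower bound for the order of a subgroup from a chain of stabilisers, for an arbitrary
action -/
theorem card_ge_of_chainA {H X : Type*} [Group H] [MulAction H X] [Finite H] (K : Subgroup H) :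
    ∀ (levels : List (X × List H)) (bs : List X), chainOKA K bs levels →
      (levels.map fun lv => lv.2.length).prod ≤ Nat.card (fixSubA K bs) := by
  intro levels
  induction levels with
  | nil =>
    intro bs _
    show 1 ≤ Nat.card (fixSubA K bs)
    exact Nat.one_le_iff_ne_zero.mpr (Nat.card_pos).ne'
  | cons lv rest ih =>
    intro bs h
    obtain ⟨b, us⟩ := lv
    obtain ⟨h1, h2, h3⟩ := h
    have ih' := ih (b :: bs) h3
    have hus : ∀ u ∈ us, u ∈ fixSubA K bs := fun u hu => h1 u hu
    have h4 := card_fixSubA_ge K bs b us hus h2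
    rw [List.map_cons, List.prod_cons]
    calc us.length * (rest.map fun lv => lv.2.length).prod
        ≤ us.length * Nat.card (fixSubA K (b :: bs)) := Nat.mul_le_mul_left _ ih'
      _ ≤ Nat.card (fixSubA K bs) := h4

theorem fixSubA_le {H X : Type*} [Group H] [MulAction H X] (K : Subgroup H) (bs : List X) :
    fixSubA K bs ≤ K := fun _ hg => hg.1

/-! ### the chain for matrix elements of `Co0` -/

/-- the vector of a list of coordinates -/
def ofL (l : List ℤ) : V := fun p => l.getD (gidx p) 0

theorem vecL_ofL (l : List ℤ) (hl : l.length = 24) : vecL (ofL l) = l := by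
  unfold vecL ofL
  apply List.ext_getElem
  · simp [hl]
  · intro k h1 h2
    have hk : k < 24 := by simpa using h1
    simp only [List.getElem_map, List.getElem_range]
    rw [gidx_ofIdx ⟨k, hk⟩, List.getD_eq_getElem _ _ h2]

open Classical in
/-- the lattice vector of a list of coordinates (zero if the list is not in the lattice) -/
noncomputable def mkL (l : List ℤ) : ↥leechLattice :=
  if h : ofL l ∈ leechLattice then ⟨ofL l, h⟩ else 0

/-- the test of a base vector -/
def baseOK (l : List ℤ) : Bool := decide (l.length = 24) && isLeechB (ofL l)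

theorem vecL_mkL (l : List ℤ) (h : baseOK l = true) : vecL (mkL l).1 = l := by
  unfold baseOK at h
  rw [Bool.and_eq_true, decide_eq_true_eq] at h
  have hm : ofL l ∈ leechLattice := isLeechB_sound _ h.2
  unfold mkL
  rw [dif_pos hm]
  exact vecL_ofL l h.1

/-- the check of a chain: at each level the words fix the previous base vectors and map the new
base vector to pairwise different vectors -/
def chainChkZ (Ms : List (List (List ℤ))) : List (List ℤ) → List (List ℤ × List (List ℕ)) → Bool
  | _, [] => true
  | bs, (b, ws) :: rest =>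
    (baseOK b && ws.all (fun w => bs.all fun c => decide (evalZ (wordM Ms w) c = c))) &&
    (decide ((ws.map fun w => evalZ (wordM Ms w) b).Nodup) && chainChkZ Ms (b :: bs) rest)

theorem word_mem_closure {G : Type*} [Group G] (Es : List G) (K : Subgroup G)
    (hK : ∀ g ∈ Es, g ∈ K) (w : List ℕ) : nfw (fun i => Es.getD i 1) w ∈ K := by
  induction w with
  | nil => rw [nfw_nil]; exact K.one_mem
  | cons i w ih =>
    rw [nfw_cons]
    refine K.mul_mem ?_ ih
    by_cases hi : i < Es.length
    · rw [List.getD_eq_getElem _ _ hi]
      exact hK _ (List.getElem_mem hi)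
    · rw [List.getD_eq_default _ _ (by omega)]
      exact K.one_mem

theorem smul_eq_of_eval {Ms : List (List (List ℤ))} {g : ↥Co0} (hg : WRepZ Ms g) (x y : ↥leechLattice)
    (h : evalZ Ms (vecL x.1) = vecL y.1) : g • x = y := by
  apply Subtype.ext
  apply vecL_inj
  show vecL (g.1 x).1 = _
  rw [hg x, h]

theorem chainOKA_of_chk {Ms : List (List (List ℤ))} {Es : List ↥Co0} (hrep : RepL Ms Es)
    (K : Subgroup ↥Co0) (hK : ∀ g ∈ Es, g ∈ K) :
    ∀ (levels : List (List ℤ × List (List ℕ))) (bs : List (List ℤ)),
      (∀ c ∈ bs, baseOK c = true) → chainChkZ Ms bs levels = true →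
      chainOKA K (bs.map mkL) (levels.map fun lv =>
        (mkL lv.1, lv.2.map fun w => nfw (fun i => Es.getD i 1) w)) := by
  intro levels
  induction levels with
  | nil => intro bs _ _; trivial
  | cons lv rest ih =>
    intro bs hbs h
    obtain ⟨b, ws⟩ := lv
    unfold chainChkZ at h
    rw [Bool.and_eq_true, Bool.and_eq_true, Bool.and_eq_true, decide_eq_true_eq] at h
    obtain ⟨⟨hb, hfix⟩, hnd, hrest⟩ := h
    rw [List.map_cons]
    refine ⟨?_, ?_, ?_⟩
    · intro u hu
      obtain ⟨w, hw, rfl⟩ := List.mem_map.mp hu
      refine ⟨word_mem_closure Es K hK w, ?_⟩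
      intro c hc
      obtain ⟨cl, hcl, rfl⟩ := List.mem_map.mp hc
      rw [List.all_eq_true] at hfix
      have h1 := hfix w hw
      rw [List.all_eq_true] at h1
      have h2 := of_decide_eq_true (h1 cl hcl)
      apply smul_eq_of_eval (wordM_rep hrep w)
      rw [vecL_mkL cl (hbs cl hcl)]
      exact h2
    · rw [List.map_map]
      have hinj : ∀ w ∈ ws, vecL ((nfw (fun i => Es.getD i 1) w) • mkL b).1 =
          evalZ (wordM Ms w) b := by
        intro w _
        show vecL ((nfw (fun i => Es.getD i 1) w).1 (mkL b)).1 = _
        rw [wordM_rep hrep w (mkL b), vecL_mkL b hb]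
      have hmap : ws.map (fun w => evalZ (wordM Ms w) b) =
          (ws.map ((fun u : ↥Co0 => u • mkL b) ∘ fun w => nfw (fun i => Es.getD i 1) w)).map
            (fun y : ↥leechLattice => vecL y.1) := by
        rw [List.map_map]
        apply List.map_congr_left
        intro w hw
        exact (hinj w hw).symm
      rw [hmap] at hnd
      exact List.Nodup.of_map _ hnd
    · have := ih (b :: bs) (by
        intro c hc
        rcases List.mem_cons.mp hc with rfl | hc
        · exact hb
        · exact hbs c hc) hrest
      rw [List.map_cons] at this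
      exact this

/-- the product of the numbers of words of the levels -/
def chainProdZ : List (List ℤ × List (List ℕ)) → ℕ
  | [] => 1
  | (_, ws) :: rest => ws.length * chainProdZ rest

theorem chainProdZ_eq (Es : List ↥Co0) (levels : List (List ℤ × List (List ℕ))) :
    chainProdZ levels = ((levels.map fun lv =>
      (mkL lv.1, lv.2.map fun w => nfw (fun i => Es.getD i 1) w)).map fun lv => lv.2.length).prod := by
  induction levels with
  | nil => rfl
  | cons lv rest ih =>
    obtain ⟨b, ws⟩ := lv
    simp only [chainProdZ, List.map_cons, List.prod_cons, List.length_map, ih]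

/-- a lower bound for the order of a subgroup of `Co0` containing given matrix elements -/
theorem card_ge_of_chainZ {Ms : List (List (List ℤ))} {Es : List ↥Co0} (hrep : RepL Ms Es)
    (K : Subgroup ↥Co0) [Finite ↥Co0] (hK : ∀ g ∈ Es, g ∈ K)
    (levels : List (List ℤ × List (List ℕ))) (h : chainChkZ Ms [] levels = true) :
    chainProdZ levels ≤ Nat.card K := by
  have h1 := chainOKA_of_chk hrep K hK levels [] (by intro c hc; simp at hc) h
  have h2 := card_ge_of_chainA K _ _ h1
  rw [chainProdZ_eq Es levels]
  exact le_trans h2 (Subgroup.card_le_of_le (fixSubA_le K _))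

end Cfsg.Agent.Lib.Helper26.C1M
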