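import Cfsg.Agent.Lib.Helper26.C1M.Front
import Cfsg.Agent.Lib.Helper26.C1M.C1mca
import Cfsg.Agent.Lib.Helper26.C1M.C1mcb
import Cfsg.Agent.Lib.Helper10.C1MPERF
import Cfsg.Agent.Lib.helper7.Co1A
import Cfsg.Agent.S0399

set_option autoImplicit false
set_option maxRecDepth 1000000

/-!
# Project C1M: `Co0 → Co1` is a stem extension with kernel of order two, and `Co0` is perfect
-/

namespace Cfsg.Agent.Lib.Helper26.C1M

open Cfsg Subgroup Cfsg.Agent.Lib.Helper26.Co1O Cfsg.Agent.Lib.helper7.Co1
open Cfsg.Agent.Lib.Lead.CW Cfsg.Agent.Lib.helper3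
open scoped commutatorElement

/-- the matrix of `-1` -/
def negZ : List (List ℤ) :=
  (List.range 24).map (fun q => (List.range 24).map (fun p => if p = q then -8 else 0))

theorem stepZ_negZ (v : List ℤ) (hv : v.length = 24) :
    stepZ negZ v = (List.range 24).map (fun q => -(v.getD q 0)) := by
  unfold stepZ negZ
  rw [List.map_map]
  apply List.map_congr_left
  intro q hq
  have hq' : q < 24 := List.mem_range.1 hq
  simp only [Function.comp]
  rw [dotZ_map_range _ 24 v hv, Finset.sum_eq_single q]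
  · rw [if_pos rfl]
    omega
  · intro p _ hp
    rw [if_neg hp, zero_mul]
  · intro h
    exact absurd (Finset.mem_range.2 hq') h

theorem repZ_negZ : RepZ negZ negE := by
  intro x
  rw [stepZ_negZ _ (vecL_length _), negE_apply]
  unfold vecL
  apply List.map_congr_left
  intro k hk
  have hk' : k < 24 := List.mem_range.1 hk
  have h1 := vecL_getD x.1 k hk'
  unfold vecL at h1
  rw [h1]
  rfl

theorem comm_chk : eqWZ [c1mcaZ, c1mcbZ] [negZ, c1mcbZ, c1mcaZ] = true := by decide +kernel

theorem comm_eq : c1mcaE * c1mcbE = negE * (c1mcbE * c1mcaE) := by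
  have h1 : WRepZ [c1mcaZ, c1mcbZ] (c1mcaE * c1mcbE) :=
    WRepZ.cons c1mca_rep (WRepZ.of_rep c1mcb_rep)
  have h2 : WRepZ [negZ, c1mcbZ, c1mcaZ] (negE * (c1mcbE * c1mcaE)) :=
    WRepZ.cons repZ_negZ (WRepZ.cons c1mcb_rep (WRepZ.of_rep c1mca_rep))
  exact eqWZ_sound h1 h2 comm_chk

theorem negE_mem_commutator : negE ∈ commutator ↥Co0 := by
  have h : negE = ⁅c1mcaE, c1mcbE⁆ := by
    rw [commutatorElement_def, comm_eq]
    group
  rw [h, _root_.commutator_def]
  exact Subgroup.commutator_mem_commutator (Subgroup.mem_top _) (Subgroup.mem_top _)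

theorem center_le_commutator : Subgroup.center ↥Co0 ≤ commutator ↥Co0 := by
  intro z hz
  rcases center_cases z hz with rfl | rfl
  · exact Subgroup.one_mem _
  · exact negE_mem_commutator

instance co1_finite : Finite (↥Co0 ⧸ Subgroup.center ↥Co0) :=
  Nat.finite_of_card_ne_zero (by rw [card_quot]; norm_num)

theorem co1_perfect : Group.IsPerfect (↥Co0 ⧸ Subgroup.center ↥Co0) := by
  have : IsSimpleGroup (↥Co0 ⧸ Subgroup.center ↥Co0) := Cfsg.Agent.S0399.result.1
  apply isPerfect_of_simple
  rw [card_quot]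
  norm_num

instance co0_perfect : Group.IsPerfect ↥Co0 :=
  isPerfect_of_center_quotient co1_perfect center_le_commutator

/-- the quotient map `Co0 → Co1` is a stem extension -/
theorem co0_stem : Cfsg.IsStemExtension (QuotientGroup.mk' (Subgroup.center ↥Co0)) := by
  refine ⟨QuotientGroup.mk'_surjective _, ?_, ?_⟩
  · rw [QuotientGroup.ker_mk']
  · rw [QuotientGroup.ker_mk']
    exact center_le_commutator

/-- the kernel of `Co0 → Co1` is cyclic of order two -/
theorem co0_ker_equiv :
    Nonempty ((QuotientGroup.mk' (Subgroup.center ↥Co0)).ker ≃* Multiplicative (ZMod 2)) := by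
  have hcard : Nat.card (QuotientGroup.mk' (Subgroup.center ↥Co0)).ker = 2 := by
    rw [QuotientGroup.ker_mk']
    exact Cfsg.Agent.S0398.result
  have : Fact (Nat.Prime 2) := ⟨Nat.prime_two⟩
  have hcyc : IsCyclic (QuotientGroup.mk' (Subgroup.center ↥Co0)).ker := isCyclic_of_prime_card hcard
  have e := zmodCyclicMulEquiv hcyc
  rw [hcard] at e
  exact ⟨e.symm⟩

end Cfsg.Agent.Lib.Helper26.C1M
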