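import Cfsg.Agent.Lib.Helper26.Co1O.Eval

set_option autoImplicit false

/-!
# Project C1M: a faster evaluation of products of matrix elements of `Co0`

A matrix is a list of 24 rows of 24 integers (scaled by `8`); `evalZ Ms v` is the image of the
vector `v` under the product of the matrices `Ms`.  `rowsL N` is the list of the rows of the packed
matrix `N`, and `evalZ (Ns.map rowsL) v = evalL Ns v` for vectors of length `24`.
-/

namespace Cfsg.Agent.Lib.Helper26.C1M

open Cfsg Cfsg.Agent.Lib.Helper26.Co1O

/-- the scalar product of two lists of integers -/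
def dotZ : List ℤ → List ℤ → ℤ
  | a :: as, b :: bs => Int.add (Int.mul a b) (dotZ as bs)
  | _, _ => 0

/-- the image of a vector under a matrix, divided by `8` -/
def stepZ (M : List (List ℤ)) (v : List ℤ) : List ℤ := M.map (fun r => dotZ r v / 8)

/-- the image of a vector under a product of matrices -/
def evalZ (Ms : List (List (List ℤ))) (v : List ℤ) : List ℤ := Ms.foldr stepZ v

/-- the rows of a packed matrix -/
def rowsL (N : ℕ) : List (List ℤ) :=
  (List.range 24).map (fun q => (List.range 24).map (fun p => mget N q p))

theorem dotZ_cons (a b : ℤ) (as bs : List ℤ) : dotZ (a :: as) (b :: bs) = a * b + dotZ as bs := rfl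

theorem dotZ_map_range (f : ℕ → ℤ) (n : ℕ) : ∀ (v : List ℤ), v.length = n →
    dotZ ((List.range n).map f) v = ∑ p ∈ Finset.range n, f p * v.getD p 0 := by
  induction n generalizing f with
  | zero =>
    intro v hv
    have : v = [] := List.length_eq_zero_iff.mp hv
    subst this
    simp [dotZ]
  | succ n ih =>
    intro v hv
    obtain ⟨b, bs, rfl⟩ : ∃ b bs, v = b :: bs := by
      cases v with
      | nil => simp at hv
      | cons b bs => exact ⟨b, bs, rfl⟩
    have hbs : bs.length = n := by simpa using hv
    rw [List.range_succ_eq_map, List.map_cons, dotZ_cons, List.map_map, ih (f ∘ Nat.succ) bs hbs,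
      Finset.sum_range_succ']
    simp only [Function.comp, List.getD_cons_succ, List.getD_cons_zero]
    ring

theorem stepZ_rowsL (N : ℕ) (v : List ℤ) (hv : v.length = 24) : stepZ (rowsL N) v = stepL N v := by
  unfold stepZ rowsL stepL
  rw [List.map_map]
  apply List.map_congr_left
  intro q _
  show dotZ ((List.range 24).map (fun p => mget N q p)) v / 8 = dotRow N q v / 8
  rw [dotZ_map_range _ 24 v hv]
  rfl

theorem stepL_length (N : ℕ) (v : List ℤ) : (stepL N v).length = 24 := by
  unfold stepL
  simp

theorem evalL_length (Ns : List ℕ) (v : List ℤ) (hv : v.length = 24) : (evalL Ns v).length = 24 := by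
  induction Ns with
  | nil => exact hv
  | cons N Ns _ => exact stepL_length N _

theorem evalZ_rowsL (Ns : List ℕ) (v : List ℤ) (hv : v.length = 24) :
    evalZ (Ns.map rowsL) v = evalL Ns v := by
  induction Ns with
  | nil => rfl
  | cons N Ns ih =>
    show stepZ (rowsL N) (evalZ (Ns.map rowsL) v) = stepL N (evalL Ns v)
    rw [ih, stepZ_rowsL N _ (evalL_length Ns v hv)]

theorem b8_length (k : ℕ) : (b8 k).length = 24 := by
  unfold b8
  simp

theorem vecL_length (x : Cfsg.Agent.Lib.Lead.CW.V) : (vecL x).length = 24 := by
  unfold vecL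
  simp

end Cfsg.Agent.Lib.Helper26.C1M
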