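import Cfsg.Agent.Lib.Helper26.C1M.EvalZ
import Cfsg.Agent.Lib.Helper5.PcPE

set_option autoImplicit false

/-!
# Project C1M: words of matrix elements of `Co0`

The front end of the certificate theorem for the group `Co0`: elements are given by matrices
(lists of rows), words are evaluated on the 24 vectors `8 e_k`, and two words with the same images
give the same element.
-/

namespace Cfsg.Agent.Lib.Helper26.C1M

open Cfsg Cfsg.Agent.Lib.Helper26.Co1O Cfsg.Agent.Lib.Helper5.PcT Cfsg.Agent.Lib.Helper5.PcP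
open Cfsg.Agent.Lib.Lead.CW Cfsg.Agent.Lib.helper3

/-- `g` acts as the matrix `M` -/
def RepZ (M : List (List ℤ)) (g : ↥Co0) : Prop :=
  ∀ x : ↥leechLattice, vecL (g.1 x).1 = stepZ M (vecL x.1)

/-- `g` acts as the product of the matrices `Ms` -/
def WRepZ (Ms : List (List (List ℤ))) (g : ↥Co0) : Prop :=
  ∀ x : ↥leechLattice, vecL (g.1 x).1 = evalZ Ms (vecL x.1)

theorem RepZ.of_mat {N : ℕ} {M : List (List ℤ)} {g : ↥Co0} (h : MatRep (mfun N) g)
    (hM : M = rowsL N) : RepZ M g := by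
  intro x
  rw [h.step x, hM, stepZ_rowsL N _ (vecL_length _)]

theorem WRepZ.one : WRepZ [] 1 := fun _ => rfl

theorem WRepZ.of_rep {M : List (List ℤ)} {g : ↥Co0} (h : RepZ M g) : WRepZ [M] g := h

theorem WRepZ.mul {As Bs : List (List (List ℤ))} {g h : ↥Co0} (hg : WRepZ As g) (hh : WRepZ Bs h) :
    WRepZ (As ++ Bs) (g * h) := by
  intro x
  show vecL (g.1 (h.1 x)).1 = _
  rw [hg (h.1 x), hh x]
  unfold evalZ
  rw [List.foldr_append]

theorem WRepZ.cons {M : List (List ℤ)} {Bs : List (List (List ℤ))} {g h : ↥Co0} (hg : RepZ M g)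
    (hh : WRepZ Bs h) : WRepZ (M :: Bs) (g * h) :=
  (WRepZ.of_rep hg).mul hh

theorem WRepZ.ext_basis {As Bs : List (List (List ℤ))} {g h : ↥Co0} (hg : WRepZ As g)
    (hh : WRepZ Bs h) (H : ∀ k : ℕ, k < 24 → evalZ As (b8 k) = evalZ Bs (b8 k)) : g = h := by
  apply ext_s8
  intro p
  apply Subtype.ext
  apply vecL_inj
  have hp := vecL_s8 (gidx p) (gidx_lt p)
  rw [ofIdx_gidx] at hp
  rw [hg (s8 p), hh (s8 p), hp]
  exact H (gidx p) (gidx_lt p)

/-- the identity matrix -/
def idZ : List (List ℤ) :=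
  (List.range 24).map (fun q => (List.range 24).map (fun p => if p = q then 8 else 0))

theorem stepZ_idZ (v : List ℤ) (hv : v.length = 24) : stepZ idZ v = v := by
  unfold stepZ idZ
  rw [List.map_map]
  apply List.ext_getElem
  · simp [hv]
  · intro q h1 h2
    have hq : q < 24 := by simpa using h1
    simp only [List.getElem_map, List.getElem_range, Function.comp]
    rw [dotZ_map_range _ 24 v hv, Finset.sum_eq_single q]
    · rw [if_pos rfl, List.getD_eq_getElem _ _ (by omega)]
      omega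
    · intro p _ hp
      rw [if_neg hp, zero_mul]
    · intro h
      exact absurd (Finset.mem_range.2 hq) h

theorem repZ_idZ : RepZ idZ 1 := by
  intro x
  rw [stepZ_idZ _ (vecL_length _)]
  rfl

/-- a list of elements given by a list of matrices -/
def RepL (Ms : List (List (List ℤ))) (Es : List ↥Co0) : Prop := List.Forall₂ RepZ Ms Es

theorem RepL.getD {Ms : List (List (List ℤ))} {Es : List ↥Co0} (h : RepL Ms Es) (i : ℕ) :
    RepZ (Ms.getD i idZ) (Es.getD i 1) := by
  induction h generalizing i with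
  | nil => simpa using repZ_idZ
  | cons h1 _ ih =>
    cases i with
    | zero => simpa using h1
    | succ i => simpa using ih i

/-- the matrices of a word -/
def wordM (Ms : List (List (List ℤ))) (w : List ℕ) : List (List (List ℤ)) :=
  w.map (fun i => Ms.getD i idZ)

theorem wordM_rep {Ms : List (List (List ℤ))} {Es : List ↥Co0} (h : RepL Ms Es) (w : List ℕ) :
    WRepZ (wordM Ms w) (nfw (fun i => Es.getD i 1) w) := by
  induction w with
  | nil => exact WRepZ.one
  | cons i w ih =>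
    rw [nfw_cons]
    exact WRepZ.cons (h.getD i) ih

/-- two products of matrices agree on the vectors `8 e_k` -/
def eqWZ (As Bs : List (List (List ℤ))) : Bool :=
  (List.range 24).all (fun k => decide (evalZ As (b8 k) = evalZ Bs (b8 k)))

theorem eqWZ_sound {As Bs : List (List (List ℤ))} {g h : ↥Co0} (hg : WRepZ As g) (hh : WRepZ Bs h)
    (H : eqWZ As Bs = true) : g = h := by
  apply WRepZ.ext_basis hg hh
  intro k hk
  unfold eqWZ at H
  rw [List.all_eq_true] at H
  exact of_decide_eq_true (H k (List.mem_range.2 hk))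

/-! ### the relations of a polycyclic presentation -/

/-- the check of the relations with first index `i` -/
def relRow (p : ℕ) (Ms : List (List (List ℤ))) (k : ℕ) (sqL : List (List ℕ))
    (cmL : List (List (List ℕ))) (i : ℕ) : Bool :=
  eqWZ (wordM Ms (List.replicate p i)) (wordM Ms (sqL.getD i [])) &&
  (List.range k).all (fun j => Nat.ble j i ||
    eqWZ (wordM Ms [j, i]) (wordM Ms (i :: j :: (cmL.getD i []).getD j [])))

theorem nfw_replicate {Γ : Type*} [Group Γ] (X : ℕ → Γ) (p i : ℕ) :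
    nfw X (List.replicate p i) = X i ^ p := by
  induction p with
  | zero => simp [nfw]
  | succ n ih => rw [List.replicate_succ, nfw_cons, ih, pow_succ']

theorem rels_of_relRow {Ms : List (List (List ℤ))} {Es : List ↥Co0} (hrep : RepL Ms Es) (p k : ℕ)
    (sqL : List (List ℕ)) (cmL : List (List (List ℕ)))
    (h : ∀ i, i < k → relRow p Ms k sqL cmL i = true) :
    (∀ i, i < k → Es.getD i 1 ^ p = nfw (fun i => Es.getD i 1) (sqL.getD i [])) ∧
    (∀ i j, i < j → j < k → Es.getD j 1 * Es.getD i 1 =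
      Es.getD i 1 * Es.getD j 1 * nfw (fun i => Es.getD i 1) ((cmL.getD i []).getD j [])) := by
  constructor
  · intro i hi
    have h1 := h i hi
    unfold relRow at h1
    rw [Bool.and_eq_true] at h1
    have h2 := eqWZ_sound (wordM_rep hrep _) (wordM_rep hrep _) h1.1
    rw [nfw_replicate] at h2
    exact h2
  · intro i j hij hjk
    have h1 := h i (lt_trans hij hjk)
    unfold relRow at h1
    rw [Bool.and_eq_true, List.all_eq_true] at h1
    have h2 := h1.2 j (List.mem_range.2 hjk)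
    rw [Bool.or_eq_true] at h2
    rcases h2 with h2 | h2
    · have := Nat.le_of_ble_eq_true h2
      omega
    · have h3 := eqWZ_sound (wordM_rep hrep _) (wordM_rep hrep _) h2
      simp only [nfw_cons, nfw_nil, mul_one] at h3
      rw [h3, mul_assoc]

/-! ### fusion -/

/-- the check of the conjugacy of elements of order `p` -/
def pwChkZ (p : ℕ) (Ms Hs : List (List (List ℤ))) (L : List ((List ℕ × List ℕ) × ℕ)) : Bool :=
  L.all fun q =>
    eqWZ (Hs.getD q.2 idZ :: wordM Ms q.1.1) (wordM Ms q.1.2 ++ [Hs.getD q.2 idZ]) &&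
    eqWZ (wordM Ms (flat p q.1.1)) []

theorem conj_of_mul {G : Type*} [Group G] {a b c : G} (h : a * b = c * a) : a * b * a⁻¹ = c := by
  rw [h]; group

theorem pw_of_chkZ {Ms Hs : List (List (List ℤ))} {Es Fs : List ↥Co0} (hrep : RepL Ms Es)
    (hrepH : RepL Hs Fs) (p : ℕ) (L : List ((List ℕ × List ℕ) × ℕ))
    (h : pwChkZ p Ms Hs L = true) :
    ∀ q ∈ L.map Prod.fst, nfw (fun i => Es.getD i 1) q.1 ^ p = 1 ∧
      ∃ c : ↥Co0, c * nfw (fun i => Es.getD i 1) q.1 * c⁻¹ = nfw (fun i => Es.getD i 1) q.2 := by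
  intro q hq
  obtain ⟨r, hr, rfl⟩ := List.mem_map.mp hq
  unfold pwChkZ at h
  rw [List.all_eq_true] at h
  have h1 := h r hr
  rw [Bool.and_eq_true] at h1
  obtain ⟨ha, hb⟩ := h1
  constructor
  · have := eqWZ_sound (wordM_rep hrep _) WRepZ.one hb
    rw [nfw_flat] at this
    exact this
  · refine ⟨Fs.getD r.2 1, conj_of_mul ?_⟩
    exact eqWZ_sound (WRepZ.cons (hrepH.getD r.2) (wordM_rep hrep _))
      ((wordM_rep hrep _).mul (WRepZ.of_rep (hrepH.getD r.2))) ha

/-- the check of the conjugacy of commuting pairs -/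
def cmChkZ (Ms Hs : List (List (List ℤ)))
    (L : List ((List ℕ × List ℕ × List ℕ × List ℕ) × ℕ)) : Bool :=
  L.all fun q =>
    (eqWZ (Hs.getD q.2 idZ :: wordM Ms q.1.1) (wordM Ms q.1.2.2.1 ++ [Hs.getD q.2 idZ]) &&
    eqWZ (Hs.getD q.2 idZ :: wordM Ms q.1.2.1) (wordM Ms q.1.2.2.2 ++ [Hs.getD q.2 idZ])) &&
    eqWZ (wordM Ms (q.1.1 ++ q.1.2.1)) (wordM Ms (q.1.2.1 ++ q.1.1))

theorem cm_of_chkZ {Ms Hs : List (List (List ℤ))} {Es Fs : List ↥Co0} (hrep : RepL Ms Es)
    (hrepH : RepL Hs Fs) (L : List ((List ℕ × List ℕ × List ℕ × List ℕ) × ℕ))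
    (h : cmChkZ Ms Hs L = true) :
    ∀ q ∈ L.map Prod.fst,
      nfw (fun i => Es.getD i 1) q.1 * nfw (fun i => Es.getD i 1) q.2.1 =
        nfw (fun i => Es.getD i 1) q.2.1 * nfw (fun i => Es.getD i 1) q.1 ∧
      ∃ c : ↥Co0, c * nfw (fun i => Es.getD i 1) q.1 * c⁻¹ = nfw (fun i => Es.getD i 1) q.2.2.1 ∧
        c * nfw (fun i => Es.getD i 1) q.2.1 * c⁻¹ = nfw (fun i => Es.getD i 1) q.2.2.2 := by
  intro q hq
  obtain ⟨r, hr, rfl⟩ := List.mem_map.mp hq
  unfold cmChkZ at h
  rw [List.all_eq_true] at h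
  have h1 := h r hr
  rw [Bool.and_eq_true, Bool.and_eq_true] at h1
  obtain ⟨⟨ha, hb⟩, hc⟩ := h1
  constructor
  · have := eqWZ_sound (wordM_rep hrep _) (wordM_rep hrep _) hc
    rw [nfw_append, nfw_append] at this
    exact this
  · refine ⟨Fs.getD r.2 1, conj_of_mul ?_, conj_of_mul ?_⟩
    · exact eqWZ_sound (WRepZ.cons (hrepH.getD r.2) (wordM_rep hrep _))
        ((wordM_rep hrep _).mul (WRepZ.of_rep (hrepH.getD r.2))) ha
    · exact eqWZ_sound (WRepZ.cons (hrepH.getD r.2) (wordM_rep hrep _))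
        ((wordM_rep hrep _).mul (WRepZ.of_rep (hrepH.getD r.2))) hb

end Cfsg.Agent.Lib.Helper26.C1M
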