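import Cfsg.Agent.Lib.Helper26.C1M.NoStem
import Cfsg.Agent.Lib.Helper5.PcPJ

set_option autoImplicit false

/-!
# Project C1M: the checks of the front end, cut into small pieces

Each kernel computation is kept short: one relation, one fusion entry, one part of a level of the
chain at a time.
-/

namespace Cfsg.Agent.Lib.Helper26.C1M

open Cfsg Cfsg.Agent.Lib.Helper26.Co1O Cfsg.Agent.Lib.Helper5.PcT Cfsg.Agent.Lib.Helper5.PcP

/-- the check of one relation: a power (`i = j`) or a commutator (`i < j`) -/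
def relPair (p : ℕ) (Ms : List (List (List ℤ))) (sqL : List (List ℕ))
    (cmL : List (List (List ℕ))) (i j : ℕ) : Bool :=
  if i = j then eqWZ (wordM Ms (List.replicate p i)) (wordM Ms (sqL.getD i []))
  else eqWZ (wordM Ms [j, i]) (wordM Ms (i :: j :: (cmL.getD i []).getD j []))

theorem relRow_of_pairs (p : ℕ) (Ms : List (List (List ℤ))) (k : ℕ) (sqL : List (List ℕ))
    (cmL : List (List (List ℕ))) (i : ℕ)
    (h : ∀ j, i ≤ j → j < k → relPair p Ms sqL cmL i j = true) (hi : i < k) :
    relRow p Ms k sqL cmL i = true := by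
  unfold relRow
  rw [Bool.and_eq_true, List.all_eq_true]
  constructor
  · have := h i le_rfl hi
    unfold relPair at this
    rwa [if_pos rfl] at this
  · intro j hj
    rw [Bool.or_eq_true]
    by_cases hji : j ≤ i
    · left
      exact Nat.ble_eq_true_of_le hji
    · right
      have := h j (by omega) (List.mem_range.1 hj)
      unfold relPair at this
      rwa [if_neg (by omega)] at this

/-- the check of one pair of conjugate elements of order `p` -/
def pwOne (p : ℕ) (Ms Hs : List (List (List ℤ))) (q : (List ℕ × List ℕ) × ℕ) : Bool :=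
  eqWZ (Hs.getD q.2 idZ :: wordM Ms q.1.1) (wordM Ms q.1.2 ++ [Hs.getD q.2 idZ]) &&
    eqWZ (wordM Ms (flat p q.1.1)) []

theorem pwChkZ_of_all (p : ℕ) (Ms Hs : List (List (List ℤ))) (L : List ((List ℕ × List ℕ) × ℕ))
    (h : ∀ q ∈ L, pwOne p Ms Hs q = true) : pwChkZ p Ms Hs L = true := by
  unfold pwChkZ
  rw [List.all_eq_true]
  exact h

/-- the check of one pair of conjugate commuting pairs -/
def cmOne (Ms Hs : List (List (List ℤ))) (q : (List ℕ × List ℕ × List ℕ × List ℕ) × ℕ) : Bool :=
  (eqWZ (Hs.getD q.2 idZ :: wordM Ms q.1.1) (wordM Ms q.1.2.2.1 ++ [Hs.getD q.2 idZ]) &&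
    eqWZ (Hs.getD q.2 idZ :: wordM Ms q.1.2.1) (wordM Ms q.1.2.2.2 ++ [Hs.getD q.2 idZ])) &&
    eqWZ (wordM Ms (q.1.1 ++ q.1.2.1)) (wordM Ms (q.1.2.1 ++ q.1.1))

theorem cmChkZ_of_all (Ms Hs : List (List (List ℤ)))
    (L : List ((List ℕ × List ℕ × List ℕ × List ℕ) × ℕ))
    (h : ∀ q ∈ L, cmOne Ms Hs q = true) : cmChkZ Ms Hs L = true := by
  unfold cmChkZ
  rw [List.all_eq_true]
  exact h

/-- one of the two parts of the check of a pair of conjugate elements of order `p` -/
def pwOneC (p : ℕ) (Ms Hs : List (List (List ℤ))) (q : (List ℕ × List ℕ) × ℕ) (c : ℕ) : Bool :=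
  if c = 0 then eqWZ (Hs.getD q.2 idZ :: wordM Ms q.1.1) (wordM Ms q.1.2 ++ [Hs.getD q.2 idZ])
  else eqWZ (wordM Ms (flat p q.1.1)) []

theorem pwOne_of_parts (p : ℕ) (Ms Hs : List (List (List ℤ))) (q : (List ℕ × List ℕ) × ℕ)
    (h0 : pwOneC p Ms Hs q 0 = true) (h1 : pwOneC p Ms Hs q 1 = true) :
    pwOne p Ms Hs q = true := by
  unfold pwOneC at h0 h1
  rw [if_pos rfl] at h0
  rw [if_neg (by norm_num)] at h1
  unfold pwOne
  rw [Bool.and_eq_true]
  exact ⟨h0, h1⟩

/-- one of the three parts of the check of a pair of conjugate commuting pairs -/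
def cmOneC (Ms Hs : List (List (List ℤ))) (q : (List ℕ × List ℕ × List ℕ × List ℕ) × ℕ)
    (c : ℕ) : Bool :=
  if c = 0 then eqWZ (Hs.getD q.2 idZ :: wordM Ms q.1.1) (wordM Ms q.1.2.2.1 ++ [Hs.getD q.2 idZ])
  else if c = 1 then
    eqWZ (Hs.getD q.2 idZ :: wordM Ms q.1.2.1) (wordM Ms q.1.2.2.2 ++ [Hs.getD q.2 idZ])
  else eqWZ (wordM Ms (q.1.1 ++ q.1.2.1)) (wordM Ms (q.1.2.1 ++ q.1.1))

theorem cmOne_of_parts (Ms Hs : List (List (List ℤ)))
    (q : (List ℕ × List ℕ × List ℕ × List ℕ) × ℕ)
    (h0 : cmOneC Ms Hs q 0 = true) (h1 : cmOneC Ms Hs q 1 = true) (h2 : cmOneC Ms Hs q 2 = true) :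
    cmOne Ms Hs q = true := by
  unfold cmOneC at h0 h1 h2
  rw [if_pos rfl] at h0
  rw [if_neg (by norm_num), if_pos rfl] at h1
  rw [if_neg (by norm_num), if_neg (by norm_num)] at h2
  unfold cmOne
  rw [Bool.and_eq_true, Bool.and_eq_true]
  exact ⟨⟨h0, h1⟩, h2⟩

/-- a property of all members of a list, one member at a time -/
theorem allCons {α : Type*} {P : α → Prop} {a : α} {l : List α} (h1 : P a) (h2 : ∀ x ∈ l, P x) :
    ∀ x ∈ a :: l, P x := List.forall_mem_cons.2 ⟨h1, h2⟩

theorem allNil {α : Type*} {P : α → Prop} : ∀ x ∈ ([] : List α), P x :=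
  fun _ h => absurd h List.not_mem_nil

/-! ### the certificate check, cut into pieces -/

/-- one row of the faster certificate check -/
def certRowV (p : ℕ) (D : PcD) (C : List (List (ℕ × ℕ))) (ZV : List (List (List ℕ)))
    (certs : List (List ℕ)) (i : ℕ) : Bool :=
  (List.range D.k).all fun j =>
    decide (j < i) || allZ p (addV (vecOf ((i, j) :: rep (p - 1) (cob D C i j)))
      (sumV ((certs.getD (i * D.k + j) []).map fun n => ZV.getD n [])))

theorem certChkV_of_rows (p : ℕ) (D : PcD) (C : List (List (ℕ × ℕ))) (ZV : List (List (List ℕ)))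
    (certs : List (List ℕ)) (h : ∀ i, i < D.k → certRowV p D C ZV certs i = true) :
    certChkV p D C ZV certs = true := by
  unfold certChkV
  rw [List.all_eq_true]
  intro i hi
  exact h i (List.mem_range.1 hi)

theorem filterMap_flatten_map {α β γ : Type*} (g : α → Option β) (h : β → γ) :
    ∀ (Ls : List (List α)) (Rs : List (List γ)),
      List.Forall₂ (fun c zv => (c.filterMap g).map h = zv) Ls Rs →
      (Ls.flatten.filterMap g).map h = Rs.flatten := by
  intro Ls Rs H
  induction H with
  | nil => rfl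
  | cons h1 _ ih =>
    rw [List.flatten_cons, List.filterMap_append, List.map_append, h1, ih, List.flatten_cons]

/-- the tables of counts of the forms, from the tables of the parts of the lists -/
theorem zforms_map_vecOf (p : ℕ) (D : PcD) (f : ℕ) (cons : List (List (List ℕ × List ℕ)))
    (ZVc : List (List (List (List ℕ))))
    (rels : List (List (List ℕ × List ℕ × List ℕ × List ℕ))) (ZVr : List (List (List (List ℕ))))
    (hc : List.Forall₂ (fun c zv => (c.filterMap (conForm p D f)).map vecOf = zv) cons ZVc)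
    (hr : List.Forall₂ (fun c zv => (c.filterMap (relForm p D f)).map vecOf = zv) rels ZVr) :
    (zformsP p D f cons.flatten rels.flatten).map vecOf = ZVc.flatten ++ ZVr.flatten := by
  unfold zformsP
  rw [List.map_append, filterMap_flatten_map _ _ _ _ hc, filterMap_flatten_map _ _ _ _ hr]

/-- the certificate check from its pieces -/
theorem certOKP_of_pieces (p : ℕ) (D : PcD) (f : ℕ) (C : List (List (ℕ × ℕ)))
    (cons : List (List (List ℕ × List ℕ))) (ZVc : List (List (List (List ℕ))))
    (rels : List (List (List ℕ × List ℕ × List ℕ × List ℕ))) (ZVr : List (List (List (List ℕ))))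
    (certs : List (List ℕ))
    (hc : List.Forall₂ (fun c zv => (c.filterMap (conForm p D f)).map vecOf = zv) cons ZVc)
    (hr : List.Forall₂ (fun c zv => (c.filterMap (relForm p D f)).map vecOf = zv) rels ZVr)
    (rel : List (List ℕ × List ℕ × List ℕ × List ℕ)) (hrel : rel = rels.flatten)
    (h : ∀ i, i < D.k → certRowV p D C (ZVc.flatten ++ ZVr.flatten) certs i = true) :
    certOKP p D C (zformsP p D f cons.flatten rel) certs = true := by
  subst hrel
  apply certOKP_of_certOKV
  unfold certOKV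
  rw [zforms_map_vecOf p D f cons ZVc rels ZVr hc hr]
  exact certChkV_of_rows p D C _ certs h

/-- the words fix the vectors of a list -/
def fixChk (Ms : List (List (List ℤ))) (bs : List (List ℤ)) (ws : List (List ℕ)) : Bool :=
  ws.all (fun w => bs.all fun c => decide (evalZ (wordM Ms w) c = c))

/-- the images of a vector under the words -/
def imgsOf (Ms : List (List (List ℤ))) (b : List ℤ) (ws : List (List ℕ)) : List (List ℤ) :=
  ws.map fun w => evalZ (wordM Ms w) b

theorem fixChk_append (Ms : List (List (List ℤ))) (bs : List (List ℤ)) (ws₁ ws₂ : List (List ℕ)) :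
    fixChk Ms bs (ws₁ ++ ws₂) = (fixChk Ms bs ws₁ && fixChk Ms bs ws₂) := by
  unfold fixChk
  rw [List.all_append]

theorem imgsOf_append (Ms : List (List (List ℤ))) (b : List ℤ) (ws₁ ws₂ : List (List ℕ)) :
    imgsOf Ms b (ws₁ ++ ws₂) = imgsOf Ms b ws₁ ++ imgsOf Ms b ws₂ := by
  unfold imgsOf
  rw [List.map_append]

/-- one level of the chain from its pieces -/
theorem chainChkZ_cons (Ms : List (List (List ℤ))) (bs : List (List ℤ)) (b : List ℤ)
    (ws : List (List ℕ)) (rest : List (List ℤ × List (List ℕ))) (imgs : List (List ℤ))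
    (hb : baseOK b = true) (hfix : fixChk Ms bs ws = true) (himg : imgsOf Ms b ws = imgs)
    (hnd : imgs.Nodup) (hrest : chainChkZ Ms (b :: bs) rest = true) :
    chainChkZ Ms bs ((b, ws) :: rest) = true := by
  unfold chainChkZ
  rw [Bool.and_eq_true, Bool.and_eq_true, Bool.and_eq_true, decide_eq_true_eq]
  refine ⟨⟨hb, hfix⟩, ?_, hrest⟩
  show (imgsOf Ms b ws).Nodup
  rw [himg]
  exact hnd

theorem chainChkZ_nil (Ms : List (List (List ℤ))) (bs : List (List ℤ)) :
    chainChkZ Ms bs [] = true := rfl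

end Cfsg.Agent.Lib.Helper26.C1M
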