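import Cfsg.Agent.Lib.Helper26.C1M.Front2
import Cfsg.Agent.Lib.Helper26.C1M.P2Data
import Cfsg.Agent.Lib.Helper26.C1M.P2ZV

set_option autoImplicit false
set_option maxRecDepth 1000000

/-!
# Project C1M: checks of the certificate for the prime 2, part 0 (generated)
-/

namespace Cfsg.Agent.Lib.Helper26.C1M

open Cfsg Cfsg.Agent.Lib.Helper26.Co1O Cfsg.Agent.Lib.Helper5.PcT Cfsg.Agent.Lib.Helper5.PcP

theorem data2_ok : dataOK 22 sqL2 cmL2 = true := by decide +kernel

theorem levels2_prod : chainProdZ levels2 = 2 ^ 22 := by decide +kernel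

theorem relflat2 : mkRel 2 (pwL2.map Prod.fst) [] (cmEL2.map Prod.fst) [] = relC2.flatten := by
  decide +kernel

theorem zc2_0 : (conC2_0.filterMap (conForm 2 (PcD.ofLists 22 sqL2 cmL2) 400)).map vecOf = zvC2_0 := by
  decide +kernel

theorem zc2_1 : (conC2_1.filterMap (conForm 2 (PcD.ofLists 22 sqL2 cmL2) 400)).map vecOf = zvC2_1 := by
  decide +kernel

theorem zc2_2 : (conC2_2.filterMap (conForm 2 (PcD.ofLists 22 sqL2 cmL2) 400)).map vecOf = zvC2_2 := by
  decide +kernel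

theorem zc2_3 : (conC2_3.filterMap (conForm 2 (PcD.ofLists 22 sqL2 cmL2) 400)).map vecOf = zvC2_3 := by
  decide +kernel

theorem zc2_4 : (conC2_4.filterMap (conForm 2 (PcD.ofLists 22 sqL2 cmL2) 400)).map vecOf = zvC2_4 := by
  decide +kernel

theorem zc2_5 : (conC2_5.filterMap (conForm 2 (PcD.ofLists 22 sqL2 cmL2) 400)).map vecOf = zvC2_5 := by
  decide +kernel

theorem zr2_0 : (relC2_0.filterMap (relForm 2 (PcD.ofLists 22 sqL2 cmL2) 400)).map vecOf = zvR2_0 := by
  decide +kernel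

theorem zr2_1 : (relC2_1.filterMap (relForm 2 (PcD.ofLists 22 sqL2 cmL2) 400)).map vecOf = zvR2_1 := by
  decide +kernel

theorem crow2_0 : certRowV 2 (PcD.ofLists 22 sqL2 cmL2) CC2 (zvC2.flatten ++ zvR2.flatten) certs2 0 = true := by
  decide +kernel

theorem crow2_1 : certRowV 2 (PcD.ofLists 22 sqL2 cmL2) CC2 (zvC2.flatten ++ zvR2.flatten) certs2 1 = true := by
  decide +kernel

theorem crow2_2 : certRowV 2 (PcD.ofLists 22 sqL2 cmL2) CC2 (zvC2.flatten ++ zvR2.flatten) certs2 2 = true := by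
  decide +kernel

theorem crow2_3 : certRowV 2 (PcD.ofLists 22 sqL2 cmL2) CC2 (zvC2.flatten ++ zvR2.flatten) certs2 3 = true := by
  decide +kernel

theorem crow2_4 : certRowV 2 (PcD.ofLists 22 sqL2 cmL2) CC2 (zvC2.flatten ++ zvR2.flatten) certs2 4 = true := by
  decide +kernel

theorem crow2_5 : certRowV 2 (PcD.ofLists 22 sqL2 cmL2) CC2 (zvC2.flatten ++ zvR2.flatten) certs2 5 = true := by
  decide +kernel

end Cfsg.Agent.Lib.Helper26.C1M
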