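import Cfsg.Agent.Lib.Helper26.C1M.Front2
import Cfsg.Agent.Lib.Helper26.C1M.P2Data
import Cfsg.Agent.Lib.Helper26.C1M.P2ZV

set_option autoImplicit false
set_option maxRecDepth 1000000

/-!
# Project C1M: checks of the certificate for the prime 2, part 2 (generated)
-/

namespace Cfsg.Agent.Lib.Helper26.C1M

open Cfsg Cfsg.Agent.Lib.Helper26.Co1O Cfsg.Agent.Lib.Helper5.PcT Cfsg.Agent.Lib.Helper5.PcP

theorem crow2_20 : certRowV 2 (PcD.ofLists 22 sqL2 cmL2) CC2 (zvC2.flatten ++ zvR2.flatten) certs2 20 = true := by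
  decide +kernel

theorem crow2_21 : certRowV 2 (PcD.ofLists 22 sqL2 cmL2) CC2 (zvC2.flatten ++ zvR2.flatten) certs2 21 = true := by
  decide +kernel

end Cfsg.Agent.Lib.Helper26.C1M
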