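import Cfsg.Agent.Lib.Helper26.C1M.C1m2g0
import Cfsg.Agent.Lib.Helper26.C1M.C1m2g1
import Cfsg.Agent.Lib.Helper26.C1M.C1m2g2
import Cfsg.Agent.Lib.Helper26.C1M.C1m2g3
import Cfsg.Agent.Lib.Helper26.C1M.C1m2g4
import Cfsg.Agent.Lib.Helper26.C1M.C1m2g5
import Cfsg.Agent.Lib.Helper26.C1M.C1m2g6
import Cfsg.Agent.Lib.Helper26.C1M.C1m2g7
import Cfsg.Agent.Lib.Helper26.C1M.C1m2g8
import Cfsg.Agent.Lib.Helper26.C1M.C1m2g9
import Cfsg.Agent.Lib.Helper26.C1M.C1m2g10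
import Cfsg.Agent.Lib.Helper26.C1M.C1m2g11
import Cfsg.Agent.Lib.Helper26.C1M.C1m2g12
import Cfsg.Agent.Lib.Helper26.C1M.C1m2g13
import Cfsg.Agent.Lib.Helper26.C1M.C1m2g14
import Cfsg.Agent.Lib.Helper26.C1M.C1m2g15
import Cfsg.Agent.Lib.Helper26.C1M.C1m2g16
import Cfsg.Agent.Lib.Helper26.C1M.C1m2g17
import Cfsg.Agent.Lib.Helper26.C1M.C1m2g18
import Cfsg.Agent.Lib.Helper26.C1M.C1m2g19
import Cfsg.Agent.Lib.Helper26.C1M.C1m2g20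
import Cfsg.Agent.Lib.Helper26.C1M.C1m2g21
import Cfsg.Agent.Lib.Helper26.C1M.C1m2h0
import Cfsg.Agent.Lib.Helper26.C1M.C1m2h1
import Cfsg.Agent.Lib.Helper26.C1M.C1m2h2
import Cfsg.Agent.Lib.Helper26.C1M.C1m2h3
import Cfsg.Agent.Lib.Helper26.C1M.C1m2h4
import Cfsg.Agent.Lib.Helper26.C1M.C1m2h5
import Cfsg.Agent.Lib.Helper26.C1M.C1m2h6
import Cfsg.Agent.Lib.Helper26.C1M.P2Data

set_option autoImplicit false

/-!
# Project C1M: the lists of matrix elements for the prime 2 (generated)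
-/

namespace Cfsg.Agent.Lib.Helper26.C1M

open Cfsg Cfsg.Agent.Lib.Helper26.Co1O

/-- the matrices of the polycyclic generators -/
def gM2 : List (List (List ℤ)) := [c1m2g0Z, c1m2g1Z, c1m2g2Z, c1m2g3Z, c1m2g4Z, c1m2g5Z, c1m2g6Z, c1m2g7Z, c1m2g8Z, c1m2g9Z, c1m2g10Z, c1m2g11Z, c1m2g12Z, c1m2g13Z, c1m2g14Z, c1m2g15Z, c1m2g16Z, c1m2g17Z, c1m2g18Z, c1m2g19Z, c1m2g20Z, c1m2g21Z]

/-- the polycyclic generators -/
def gE2 : List ↥Co0 := [c1m2g0E, c1m2g1E, c1m2g2E, c1m2g3E, c1m2g4E, c1m2g5E, c1m2g6E, c1m2g7E, c1m2g8E, c1m2g9E, c1m2g10E, c1m2g11E, c1m2g12E, c1m2g13E, c1m2g14E, c1m2g15E, c1m2g16E, c1m2g17E, c1m2g18E, c1m2g19E, c1m2g20E, c1m2g21E]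

/-- the matrices of the conjugating elements -/
def hM2 : List (List (List ℤ)) := [c1m2h0Z, c1m2h1Z, c1m2h2Z, c1m2h3Z, c1m2h4Z, c1m2h5Z, c1m2h6Z]

/-- the conjugating elements -/
def hE2 : List ↥Co0 := [c1m2h0E, c1m2h1E, c1m2h2E, c1m2h3E, c1m2h4E, c1m2h5E, c1m2h6E]

theorem gRep2 : RepL gM2 gE2 :=
  (List.Forall₂.cons c1m2g0_rep (List.Forall₂.cons c1m2g1_rep (List.Forall₂.cons c1m2g2_rep (List.Forall₂.cons c1m2g3_rep (List.Forall₂.cons c1m2g4_rep (List.Forall₂.cons c1m2g5_rep (List.Forall₂.cons c1m2g6_rep (List.Forall₂.cons c1m2g7_rep (List.Forall₂.cons c1m2g8_rep (List.Forall₂.cons c1m2g9_rep (List.Forall₂.cons c1m2g10_rep (List.Forall₂.cons c1m2g11_rep (List.Forall₂.cons c1m2g12_rep (List.Forall₂.cons c1m2g13_rep (List.Forall₂.cons c1m2g14_rep (List.Forall₂.cons c1m2g15_rep (List.Forall₂.cons c1m2g16_rep (List.Forall₂.cons c1m2g17_rep (List.Forall₂.cons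 c1m2g18_rep (List.Forall₂.cons c1m2g19_rep (List.Forall₂.cons c1m2g20_rep (List.Forall₂.cons c1m2g21_rep List.Forall₂.nil))))))))))))))))))))))

theorem hRep2 : RepL hM2 hE2 :=
  (List.Forall₂.cons c1m2h0_rep (List.Forall₂.cons c1m2h1_rep (List.Forall₂.cons c1m2h2_rep (List.Forall₂.cons c1m2h3_rep (List.Forall₂.cons c1m2h4_rep (List.Forall₂.cons c1m2h5_rep (List.Forall₂.cons c1m2h6_rep List.Forall₂.nil)))))))

end Cfsg.Agent.Lib.Helper26.C1M
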