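import Cfsg.Agent.Lib.Helper26.C1M.Front2
import Cfsg.Agent.Lib.Helper26.C1M.P2List

set_option autoImplicit false
set_option maxRecDepth 1000000

/-!
# Project C1M: checks with matrices for the prime 2, part 1 (generated)
-/

namespace Cfsg.Agent.Lib.Helper26.C1M

open Cfsg Cfsg.Agent.Lib.Helper26.Co1O Cfsg.Agent.Lib.Helper5.PcT Cfsg.Agent.Lib.Helper5.PcP

theorem r2_1_3 : relPair 2 gM2 sqL2 cmL2 1 3 = true := by decide +kernel

theorem r2_1_4 : relPair 2 gM2 sqL2 cmL2 1 4 = true := by decide +kernel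

theorem r2_1_5 : relPair 2 gM2 sqL2 cmL2 1 5 = true := by decide +kernel

theorem r2_1_6 : relPair 2 gM2 sqL2 cmL2 1 6 = true := by decide +kernel

theorem r2_1_7 : relPair 2 gM2 sqL2 cmL2 1 7 = true := by decide +kernel

theorem r2_1_8 : relPair 2 gM2 sqL2 cmL2 1 8 = true := by decide +kernel

theorem r2_1_9 : relPair 2 gM2 sqL2 cmL2 1 9 = true := by decide +kernel

theorem r2_1_10 : relPair 2 gM2 sqL2 cmL2 1 10 = true := by decide +kernel

theorem r2_1_11 : relPair 2 gM2 sqL2 cmL2 1 11 = true := by decide +kernel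

theorem r2_1_12 : relPair 2 gM2 sqL2 cmL2 1 12 = true := by decide +kernel

theorem r2_1_13 : relPair 2 gM2 sqL2 cmL2 1 13 = true := by decide +kernel

theorem r2_1_14 : relPair 2 gM2 sqL2 cmL2 1 14 = true := by decide +kernel

theorem r2_1_15 : relPair 2 gM2 sqL2 cmL2 1 15 = true := by decide +kernel

theorem r2_1_16 : relPair 2 gM2 sqL2 cmL2 1 16 = true := by decide +kernel

theorem r2_1_17 : relPair 2 gM2 sqL2 cmL2 1 17 = true := by decide +kernel

theorem r2_1_18 : relPair 2 gM2 sqL2 cmL2 1 18 = true := by decide +kernel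

theorem r2_1_19 : relPair 2 gM2 sqL2 cmL2 1 19 = true := by decide +kernel

theorem r2_1_20 : relPair 2 gM2 sqL2 cmL2 1 20 = true := by decide +kernel

theorem r2_1_21 : relPair 2 gM2 sqL2 cmL2 1 21 = true := by decide +kernel

theorem r2_2_2 : relPair 2 gM2 sqL2 cmL2 2 2 = true := by decide +kernel

theorem r2_2_3 : relPair 2 gM2 sqL2 cmL2 2 3 = true := by decide +kernel

theorem r2_2_4 : relPair 2 gM2 sqL2 cmL2 2 4 = true := by decide +kernel

theorem r2_2_5 : relPair 2 gM2 sqL2 cmL2 2 5 = true := by decide +kernel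

theorem r2_2_6 : relPair 2 gM2 sqL2 cmL2 2 6 = true := by decide +kernel

theorem r2_2_7 : relPair 2 gM2 sqL2 cmL2 2 7 = true := by decide +kernel

end Cfsg.Agent.Lib.Helper26.C1M
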