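import Cfsg.Agent.Lib.Helper26.C1M.Front2
import Cfsg.Agent.Lib.Helper26.C1M.P2List

set_option autoImplicit false
set_option maxRecDepth 1000000

/-!
# Project C1M: checks with matrices for the prime 2, part 10 (generated)
-/

namespace Cfsg.Agent.Lib.Helper26.C1M

open Cfsg Cfsg.Agent.Lib.Helper26.Co1O Cfsg.Agent.Lib.Helper5.PcT Cfsg.Agent.Lib.Helper5.PcP

theorem cmc2_3_1 : cmOneC gM2 hM2 cmE2_3 1 = true := by decide +kernel

theorem cmc2_3_2 : cmOneC gM2 hM2 cmE2_3 2 = true := by decide +kernel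

theorem cmc2_4_0 : cmOneC gM2 hM2 cmE2_4 0 = true := by decide +kernel

theorem cmc2_4_1 : cmOneC gM2 hM2 cmE2_4 1 = true := by decide +kernel

theorem cmc2_4_2 : cmOneC gM2 hM2 cmE2_4 2 = true := by decide +kernel

theorem cmc2_5_0 : cmOneC gM2 hM2 cmE2_5 0 = true := by decide +kernel

theorem cmc2_5_1 : cmOneC gM2 hM2 cmE2_5 1 = true := by decide +kernel

theorem cmc2_5_2 : cmOneC gM2 hM2 cmE2_5 2 = true := by decide +kernel

theorem cmc2_6_0 : cmOneC gM2 hM2 cmE2_6 0 = true := by decide +kernel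

theorem cmc2_6_1 : cmOneC gM2 hM2 cmE2_6 1 = true := by decide +kernel

theorem cmc2_6_2 : cmOneC gM2 hM2 cmE2_6 2 = true := by decide +kernel

theorem cmc2_7_0 : cmOneC gM2 hM2 cmE2_7 0 = true := by decide +kernel

theorem cmc2_7_1 : cmOneC gM2 hM2 cmE2_7 1 = true := by decide +kernel

theorem cmc2_7_2 : cmOneC gM2 hM2 cmE2_7 2 = true := by decide +kernel

theorem cmc2_8_0 : cmOneC gM2 hM2 cmE2_8 0 = true := by decide +kernel

end Cfsg.Agent.Lib.Helper26.C1M
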