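import Cfsg.Agent.Lib.Helper26.C1M.Front2
import Cfsg.Agent.Lib.Helper26.C1M.P2List

set_option autoImplicit false
set_option maxRecDepth 1000000

/-!
# Project C1M: checks with matrices for the prime 2, part 2 (generated)
-/

namespace Cfsg.Agent.Lib.Helper26.C1M

open Cfsg Cfsg.Agent.Lib.Helper26.Co1O Cfsg.Agent.Lib.Helper5.PcT Cfsg.Agent.Lib.Helper5.PcP

theorem r2_2_8 : relPair 2 gM2 sqL2 cmL2 2 8 = true := by decide +kernel

theorem r2_2_9 : relPair 2 gM2 sqL2 cmL2 2 9 = true := by decide +kernel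

theorem r2_2_10 : relPair 2 gM2 sqL2 cmL2 2 10 = true := by decide +kernel

theorem r2_2_11 : relPair 2 gM2 sqL2 cmL2 2 11 = true := by decide +kernel

theorem r2_2_12 : relPair 2 gM2 sqL2 cmL2 2 12 = true := by decide +kernel

theorem r2_2_13 : relPair 2 gM2 sqL2 cmL2 2 13 = true := by decide +kernel

theorem r2_2_14 : relPair 2 gM2 sqL2 cmL2 2 14 = true := by decide +kernel

theorem r2_2_15 : relPair 2 gM2 sqL2 cmL2 2 15 = true := by decide +kernel

theorem r2_2_16 : relPair 2 gM2 sqL2 cmL2 2 16 = true := by decide +kernel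

theorem r2_2_17 : relPair 2 gM2 sqL2 cmL2 2 17 = true := by decide +kernel

theorem r2_2_18 : relPair 2 gM2 sqL2 cmL2 2 18 = true := by decide +kernel

theorem r2_2_19 : relPair 2 gM2 sqL2 cmL2 2 19 = true := by decide +kernel

theorem r2_2_20 : relPair 2 gM2 sqL2 cmL2 2 20 = true := by decide +kernel

theorem r2_2_21 : relPair 2 gM2 sqL2 cmL2 2 21 = true := by decide +kernel

theorem r2_3_3 : relPair 2 gM2 sqL2 cmL2 3 3 = true := by decide +kernel

theorem r2_3_4 : relPair 2 gM2 sqL2 cmL2 3 4 = true := by decide +kernel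

theorem r2_3_5 : relPair 2 gM2 sqL2 cmL2 3 5 = true := by decide +kernel

theorem r2_3_6 : relPair 2 gM2 sqL2 cmL2 3 6 = true := by decide +kernel

theorem r2_3_7 : relPair 2 gM2 sqL2 cmL2 3 7 = true := by decide +kernel

theorem r2_3_8 : relPair 2 gM2 sqL2 cmL2 3 8 = true := by decide +kernel

theorem r2_3_9 : relPair 2 gM2 sqL2 cmL2 3 9 = true := by decide +kernel

theorem r2_3_10 : relPair 2 gM2 sqL2 cmL2 3 10 = true := by decide +kernel

theorem r2_3_11 : relPair 2 gM2 sqL2 cmL2 3 11 = true := by decide +kernel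

theorem r2_3_12 : relPair 2 gM2 sqL2 cmL2 3 12 = true := by decide +kernel

theorem r2_3_13 : relPair 2 gM2 sqL2 cmL2 3 13 = true := by decide +kernel

theorem r2_3_14 : relPair 2 gM2 sqL2 cmL2 3 14 = true := by decide +kernel

theorem r2_3_15 : relPair 2 gM2 sqL2 cmL2 3 15 = true := by decide +kernel

end Cfsg.Agent.Lib.Helper26.C1M
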