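import Cfsg.Agent.Lib.Helper26.C1M.Front2
import Cfsg.Agent.Lib.Helper26.C1M.P2List

set_option autoImplicit false
set_option maxRecDepth 1000000

/-!
# Project C1M: checks with matrices for the prime 2, part 3 (generated)
-/

namespace Cfsg.Agent.Lib.Helper26.C1M

open Cfsg Cfsg.Agent.Lib.Helper26.Co1O Cfsg.Agent.Lib.Helper5.PcT Cfsg.Agent.Lib.Helper5.PcP

theorem r2_3_16 : relPair 2 gM2 sqL2 cmL2 3 16 = true := by decide +kernel

theorem r2_3_17 : relPair 2 gM2 sqL2 cmL2 3 17 = true := by decide +kernel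

theorem r2_3_18 : relPair 2 gM2 sqL2 cmL2 3 18 = true := by decide +kernel

theorem r2_3_19 : relPair 2 gM2 sqL2 cmL2 3 19 = true := by decide +kernel

theorem r2_3_20 : relPair 2 gM2 sqL2 cmL2 3 20 = true := by decide +kernel

theorem r2_3_21 : relPair 2 gM2 sqL2 cmL2 3 21 = true := by decide +kernel

theorem r2_4_4 : relPair 2 gM2 sqL2 cmL2 4 4 = true := by decide +kernel

theorem r2_4_5 : relPair 2 gM2 sqL2 cmL2 4 5 = true := by decide +kernel

theorem r2_4_6 : relPair 2 gM2 sqL2 cmL2 4 6 = true := by decide +kernel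

theorem r2_4_7 : relPair 2 gM2 sqL2 cmL2 4 7 = true := by decide +kernel

theorem r2_4_8 : relPair 2 gM2 sqL2 cmL2 4 8 = true := by decide +kernel

theorem r2_4_9 : relPair 2 gM2 sqL2 cmL2 4 9 = true := by decide +kernel

theorem r2_4_10 : relPair 2 gM2 sqL2 cmL2 4 10 = true := by decide +kernel

theorem r2_4_11 : relPair 2 gM2 sqL2 cmL2 4 11 = true := by decide +kernel

theorem r2_4_12 : relPair 2 gM2 sqL2 cmL2 4 12 = true := by decide +kernel

theorem r2_4_13 : relPair 2 gM2 sqL2 cmL2 4 13 = true := by decide +kernel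

theorem r2_4_14 : relPair 2 gM2 sqL2 cmL2 4 14 = true := by decide +kernel

theorem r2_4_15 : relPair 2 gM2 sqL2 cmL2 4 15 = true := by decide +kernel

theorem r2_4_16 : relPair 2 gM2 sqL2 cmL2 4 16 = true := by decide +kernel

theorem r2_4_17 : relPair 2 gM2 sqL2 cmL2 4 17 = true := by decide +kernel

theorem r2_4_18 : relPair 2 gM2 sqL2 cmL2 4 18 = true := by decide +kernel

theorem r2_4_19 : relPair 2 gM2 sqL2 cmL2 4 19 = true := by decide +kernel

theorem r2_4_20 : relPair 2 gM2 sqL2 cmL2 4 20 = true := by decide +kernel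

theorem r2_4_21 : relPair 2 gM2 sqL2 cmL2 4 21 = true := by decide +kernel

theorem r2_5_5 : relPair 2 gM2 sqL2 cmL2 5 5 = true := by decide +kernel

theorem r2_5_6 : relPair 2 gM2 sqL2 cmL2 5 6 = true := by decide +kernel

theorem r2_5_7 : relPair 2 gM2 sqL2 cmL2 5 7 = true := by decide +kernel

end Cfsg.Agent.Lib.Helper26.C1M
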