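import Cfsg.Agent.Lib.Helper26.C1M.Front2
import Cfsg.Agent.Lib.Helper26.C1M.P2List

set_option autoImplicit false
set_option maxRecDepth 1000000

/-!
# Project C1M: checks with matrices for the prime 2, part 4 (generated)
-/

namespace Cfsg.Agent.Lib.Helper26.C1M

open Cfsg Cfsg.Agent.Lib.Helper26.Co1O Cfsg.Agent.Lib.Helper5.PcT Cfsg.Agent.Lib.Helper5.PcP

theorem r2_5_8 : relPair 2 gM2 sqL2 cmL2 5 8 = true := by decide +kernel

theorem r2_5_9 : relPair 2 gM2 sqL2 cmL2 5 9 = true := by decide +kernel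

theorem r2_5_10 : relPair 2 gM2 sqL2 cmL2 5 10 = true := by decide +kernel

theorem r2_5_11 : relPair 2 gM2 sqL2 cmL2 5 11 = true := by decide +kernel

theorem r2_5_12 : relPair 2 gM2 sqL2 cmL2 5 12 = true := by decide +kernel

theorem r2_5_13 : relPair 2 gM2 sqL2 cmL2 5 13 = true := by decide +kernel

theorem r2_5_14 : relPair 2 gM2 sqL2 cmL2 5 14 = true := by decide +kernel

theorem r2_5_15 : relPair 2 gM2 sqL2 cmL2 5 15 = true := by decide +kernel

theorem r2_5_16 : relPair 2 gM2 sqL2 cmL2 5 16 = true := by decide +kernel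

theorem r2_5_17 : relPair 2 gM2 sqL2 cmL2 5 17 = true := by decide +kernel

theorem r2_5_18 : relPair 2 gM2 sqL2 cmL2 5 18 = true := by decide +kernel

theorem r2_5_19 : relPair 2 gM2 sqL2 cmL2 5 19 = true := by decide +kernel

theorem r2_5_20 : relPair 2 gM2 sqL2 cmL2 5 20 = true := by decide +kernel

theorem r2_5_21 : relPair 2 gM2 sqL2 cmL2 5 21 = true := by decide +kernel

theorem r2_6_6 : relPair 2 gM2 sqL2 cmL2 6 6 = true := by decide +kernel

theorem r2_6_7 : relPair 2 gM2 sqL2 cmL2 6 7 = true := by decide +kernel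

theorem r2_6_8 : relPair 2 gM2 sqL2 cmL2 6 8 = true := by decide +kernel

theorem r2_6_9 : relPair 2 gM2 sqL2 cmL2 6 9 = true := by decide +kernel

theorem r2_6_10 : relPair 2 gM2 sqL2 cmL2 6 10 = true := by decide +kernel

theorem r2_6_11 : relPair 2 gM2 sqL2 cmL2 6 11 = true := by decide +kernel

theorem r2_6_12 : relPair 2 gM2 sqL2 cmL2 6 12 = true := by decide +kernel

theorem r2_6_13 : relPair 2 gM2 sqL2 cmL2 6 13 = true := by decide +kernel

theorem r2_6_14 : relPair 2 gM2 sqL2 cmL2 6 14 = true := by decide +kernel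

theorem r2_6_15 : relPair 2 gM2 sqL2 cmL2 6 15 = true := by decide +kernel

theorem r2_6_16 : relPair 2 gM2 sqL2 cmL2 6 16 = true := by decide +kernel

theorem r2_6_17 : relPair 2 gM2 sqL2 cmL2 6 17 = true := by decide +kernel

theorem r2_6_18 : relPair 2 gM2 sqL2 cmL2 6 18 = true := by decide +kernel

end Cfsg.Agent.Lib.Helper26.C1M
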