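import Cfsg.Agent.Lib.Helper26.C1M.Front2
import Cfsg.Agent.Lib.Helper26.C1M.P2List

set_option autoImplicit false
set_option maxRecDepth 1000000

/-!
# Project C1M: checks with matrices for the prime 2, part 5 (generated)
-/

namespace Cfsg.Agent.Lib.Helper26.C1M

open Cfsg Cfsg.Agent.Lib.Helper26.Co1O Cfsg.Agent.Lib.Helper5.PcT Cfsg.Agent.Lib.Helper5.PcP

theorem r2_6_19 : relPair 2 gM2 sqL2 cmL2 6 19 = true := by decide +kernel

theorem r2_6_20 : relPair 2 gM2 sqL2 cmL2 6 20 = true := by decide +kernel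

theorem r2_6_21 : relPair 2 gM2 sqL2 cmL2 6 21 = true := by decide +kernel

theorem r2_7_7 : relPair 2 gM2 sqL2 cmL2 7 7 = true := by decide +kernel

theorem r2_7_8 : relPair 2 gM2 sqL2 cmL2 7 8 = true := by decide +kernel

theorem r2_7_9 : relPair 2 gM2 sqL2 cmL2 7 9 = true := by decide +kernel

theorem r2_7_10 : relPair 2 gM2 sqL2 cmL2 7 10 = true := by decide +kernel

theorem r2_7_11 : relPair 2 gM2 sqL2 cmL2 7 11 = true := by decide +kernel

theorem r2_7_12 : relPair 2 gM2 sqL2 cmL2 7 12 = true := by decide +kernel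

theorem r2_7_13 : relPair 2 gM2 sqL2 cmL2 7 13 = true := by decide +kernel

theorem r2_7_14 : relPair 2 gM2 sqL2 cmL2 7 14 = true := by decide +kernel

theorem r2_7_15 : relPair 2 gM2 sqL2 cmL2 7 15 = true := by decide +kernel

theorem r2_7_16 : relPair 2 gM2 sqL2 cmL2 7 16 = true := by decide +kernel

theorem r2_7_17 : relPair 2 gM2 sqL2 cmL2 7 17 = true := by decide +kernel

theorem r2_7_18 : relPair 2 gM2 sqL2 cmL2 7 18 = true := by decide +kernel

theorem r2_7_19 : relPair 2 gM2 sqL2 cmL2 7 19 = true := by decide +kernel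

theorem r2_7_20 : relPair 2 gM2 sqL2 cmL2 7 20 = true := by decide +kernel

theorem r2_7_21 : relPair 2 gM2 sqL2 cmL2 7 21 = true := by decide +kernel

theorem r2_8_8 : relPair 2 gM2 sqL2 cmL2 8 8 = true := by decide +kernel

theorem r2_8_9 : relPair 2 gM2 sqL2 cmL2 8 9 = true := by decide +kernel

theorem r2_8_10 : relPair 2 gM2 sqL2 cmL2 8 10 = true := by decide +kernel

theorem r2_8_11 : relPair 2 gM2 sqL2 cmL2 8 11 = true := by decide +kernel

theorem r2_8_12 : relPair 2 gM2 sqL2 cmL2 8 12 = true := by decide +kernel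

theorem r2_8_13 : relPair 2 gM2 sqL2 cmL2 8 13 = true := by decide +kernel

theorem r2_8_14 : relPair 2 gM2 sqL2 cmL2 8 14 = true := by decide +kernel

theorem r2_8_15 : relPair 2 gM2 sqL2 cmL2 8 15 = true := by decide +kernel

theorem r2_8_16 : relPair 2 gM2 sqL2 cmL2 8 16 = true := by decide +kernel

theorem r2_8_17 : relPair 2 gM2 sqL2 cmL2 8 17 = true := by decide +kernel

theorem r2_8_18 : relPair 2 gM2 sqL2 cmL2 8 18 = true := by decide +kernel

theorem r2_8_19 : relPair 2 gM2 sqL2 cmL2 8 19 = true := by decide +kernel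

theorem r2_8_20 : relPair 2 gM2 sqL2 cmL2 8 20 = true := by decide +kernel

theorem r2_8_21 : relPair 2 gM2 sqL2 cmL2 8 21 = true := by decide +kernel

theorem r2_9_9 : relPair 2 gM2 sqL2 cmL2 9 9 = true := by decide +kernel

theorem r2_9_10 : relPair 2 gM2 sqL2 cmL2 9 10 = true := by decide +kernel

end Cfsg.Agent.Lib.Helper26.C1M
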