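import Cfsg.Agent.Lib.Helper26.C1M.Front2
import Cfsg.Agent.Lib.Helper26.C1M.P2List

set_option autoImplicit false
set_option maxRecDepth 1000000

/-!
# Project C1M: checks with matrices for the prime 2, part 6 (generated)
-/

namespace Cfsg.Agent.Lib.Helper26.C1M

open Cfsg Cfsg.Agent.Lib.Helper26.Co1O Cfsg.Agent.Lib.Helper5.PcT Cfsg.Agent.Lib.Helper5.PcP

theorem r2_9_11 : relPair 2 gM2 sqL2 cmL2 9 11 = true := by decide +kernel

theorem r2_9_12 : relPair 2 gM2 sqL2 cmL2 9 12 = true := by decide +kernel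

theorem r2_9_13 : relPair 2 gM2 sqL2 cmL2 9 13 = true := by decide +kernel

theorem r2_9_14 : relPair 2 gM2 sqL2 cmL2 9 14 = true := by decide +kernel

theorem r2_9_15 : relPair 2 gM2 sqL2 cmL2 9 15 = true := by decide +kernel

theorem r2_9_16 : relPair 2 gM2 sqL2 cmL2 9 16 = true := by decide +kernel

theorem r2_9_17 : relPair 2 gM2 sqL2 cmL2 9 17 = true := by decide +kernel

theorem r2_9_18 : relPair 2 gM2 sqL2 cmL2 9 18 = true := by decide +kernel

theorem r2_9_19 : relPair 2 gM2 sqL2 cmL2 9 19 = true := by decide +kernel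

theorem r2_9_20 : relPair 2 gM2 sqL2 cmL2 9 20 = true := by decide +kernel

theorem r2_9_21 : relPair 2 gM2 sqL2 cmL2 9 21 = true := by decide +kernel

theorem r2_10_10 : relPair 2 gM2 sqL2 cmL2 10 10 = true := by decide +kernel

theorem r2_10_11 : relPair 2 gM2 sqL2 cmL2 10 11 = true := by decide +kernel

theorem r2_10_12 : relPair 2 gM2 sqL2 cmL2 10 12 = true := by decide +kernel

theorem r2_10_13 : relPair 2 gM2 sqL2 cmL2 10 13 = true := by decide +kernel

theorem r2_10_14 : relPair 2 gM2 sqL2 cmL2 10 14 = true := by decide +kernel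

theorem r2_10_15 : relPair 2 gM2 sqL2 cmL2 10 15 = true := by decide +kernel

theorem r2_10_16 : relPair 2 gM2 sqL2 cmL2 10 16 = true := by decide +kernel

theorem r2_10_17 : relPair 2 gM2 sqL2 cmL2 10 17 = true := by decide +kernel

theorem r2_10_18 : relPair 2 gM2 sqL2 cmL2 10 18 = true := by decide +kernel

theorem r2_10_19 : relPair 2 gM2 sqL2 cmL2 10 19 = true := by decide +kernel

theorem r2_10_20 : relPair 2 gM2 sqL2 cmL2 10 20 = true := by decide +kernel

theorem r2_10_21 : relPair 2 gM2 sqL2 cmL2 10 21 = true := by decide +kernel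

theorem r2_11_11 : relPair 2 gM2 sqL2 cmL2 11 11 = true := by decide +kernel

theorem r2_11_12 : relPair 2 gM2 sqL2 cmL2 11 12 = true := by decide +kernel

theorem r2_11_13 : relPair 2 gM2 sqL2 cmL2 11 13 = true := by decide +kernel

theorem r2_11_14 : relPair 2 gM2 sqL2 cmL2 11 14 = true := by decide +kernel

theorem r2_11_15 : relPair 2 gM2 sqL2 cmL2 11 15 = true := by decide +kernel

theorem r2_11_16 : relPair 2 gM2 sqL2 cmL2 11 16 = true := by decide +kernel

theorem r2_11_17 : relPair 2 gM2 sqL2 cmL2 11 17 = true := by decide +kernel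

theorem r2_11_18 : relPair 2 gM2 sqL2 cmL2 11 18 = true := by decide +kernel

theorem r2_11_19 : relPair 2 gM2 sqL2 cmL2 11 19 = true := by decide +kernel

end Cfsg.Agent.Lib.Helper26.C1M
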