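import Cfsg.Agent.Lib.Helper26.C1M.Front2
import Cfsg.Agent.Lib.Helper26.C1M.P2List

set_option autoImplicit false
set_option maxRecDepth 1000000

/-!
# Project C1M: checks with matrices for the prime 2, part 7 (generated)
-/

namespace Cfsg.Agent.Lib.Helper26.C1M

open Cfsg Cfsg.Agent.Lib.Helper26.Co1O Cfsg.Agent.Lib.Helper5.PcT Cfsg.Agent.Lib.Helper5.PcP

theorem r2_11_20 : relPair 2 gM2 sqL2 cmL2 11 20 = true := by decide +kernel

theorem r2_11_21 : relPair 2 gM2 sqL2 cmL2 11 21 = true := by decide +kernel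

theorem r2_12_12 : relPair 2 gM2 sqL2 cmL2 12 12 = true := by decide +kernel

theorem r2_12_13 : relPair 2 gM2 sqL2 cmL2 12 13 = true := by decide +kernel

theorem r2_12_14 : relPair 2 gM2 sqL2 cmL2 12 14 = true := by decide +kernel

theorem r2_12_15 : relPair 2 gM2 sqL2 cmL2 12 15 = true := by decide +kernel

theorem r2_12_16 : relPair 2 gM2 sqL2 cmL2 12 16 = true := by decide +kernel

theorem r2_12_17 : relPair 2 gM2 sqL2 cmL2 12 17 = true := by decide +kernel

theorem r2_12_18 : relPair 2 gM2 sqL2 cmL2 12 18 = true := by decide +kernel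

theorem r2_12_19 : relPair 2 gM2 sqL2 cmL2 12 19 = true := by decide +kernel

theorem r2_12_20 : relPair 2 gM2 sqL2 cmL2 12 20 = true := by decide +kernel

theorem r2_12_21 : relPair 2 gM2 sqL2 cmL2 12 21 = true := by decide +kernel

theorem r2_13_13 : relPair 2 gM2 sqL2 cmL2 13 13 = true := by decide +kernel

theorem r2_13_14 : relPair 2 gM2 sqL2 cmL2 13 14 = true := by decide +kernel

theorem r2_13_15 : relPair 2 gM2 sqL2 cmL2 13 15 = true := by decide +kernel

theorem r2_13_16 : relPair 2 gM2 sqL2 cmL2 13 16 = true := by decide +kernel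

theorem r2_13_17 : relPair 2 gM2 sqL2 cmL2 13 17 = true := by decide +kernel

theorem r2_13_18 : relPair 2 gM2 sqL2 cmL2 13 18 = true := by decide +kernel

theorem r2_13_19 : relPair 2 gM2 sqL2 cmL2 13 19 = true := by decide +kernel

theorem r2_13_20 : relPair 2 gM2 sqL2 cmL2 13 20 = true := by decide +kernel

theorem r2_13_21 : relPair 2 gM2 sqL2 cmL2 13 21 = true := by decide +kernel

theorem r2_14_14 : relPair 2 gM2 sqL2 cmL2 14 14 = true := by decide +kernel

theorem r2_14_15 : relPair 2 gM2 sqL2 cmL2 14 15 = true := by decide +kernel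

theorem r2_14_16 : relPair 2 gM2 sqL2 cmL2 14 16 = true := by decide +kernel

theorem r2_14_17 : relPair 2 gM2 sqL2 cmL2 14 17 = true := by decide +kernel

theorem r2_14_18 : relPair 2 gM2 sqL2 cmL2 14 18 = true := by decide +kernel

theorem r2_14_19 : relPair 2 gM2 sqL2 cmL2 14 19 = true := by decide +kernel

theorem r2_14_20 : relPair 2 gM2 sqL2 cmL2 14 20 = true := by decide +kernel

theorem r2_14_21 : relPair 2 gM2 sqL2 cmL2 14 21 = true := by decide +kernel

theorem r2_15_15 : relPair 2 gM2 sqL2 cmL2 15 15 = true := by decide +kernel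

theorem r2_15_16 : relPair 2 gM2 sqL2 cmL2 15 16 = true := by decide +kernel

theorem r2_15_17 : relPair 2 gM2 sqL2 cmL2 15 17 = true := by decide +kernel

theorem r2_15_18 : relPair 2 gM2 sqL2 cmL2 15 18 = true := by decide +kernel

theorem r2_15_19 : relPair 2 gM2 sqL2 cmL2 15 19 = true := by decide +kernel

theorem r2_15_20 : relPair 2 gM2 sqL2 cmL2 15 20 = true := by decide +kernel

theorem r2_15_21 : relPair 2 gM2 sqL2 cmL2 15 21 = true := by decide +kernel

theorem r2_16_16 : relPair 2 gM2 sqL2 cmL2 16 16 = true := by decide +kernel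

theorem r2_16_17 : relPair 2 gM2 sqL2 cmL2 16 17 = true := by decide +kernel

theorem r2_16_18 : relPair 2 gM2 sqL2 cmL2 16 18 = true := by decide +kernel

theorem r2_16_19 : relPair 2 gM2 sqL2 cmL2 16 19 = true := by decide +kernel

end Cfsg.Agent.Lib.Helper26.C1M
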