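import Cfsg.Agent.Lib.Helper26.C1M.Front2
import Cfsg.Agent.Lib.Helper26.C1M.P2List

set_option autoImplicit false
set_option maxRecDepth 1000000

/-!
# Project C1M: checks with matrices for the prime 2, part 8 (generated)
-/

namespace Cfsg.Agent.Lib.Helper26.C1M

open Cfsg Cfsg.Agent.Lib.Helper26.Co1O Cfsg.Agent.Lib.Helper5.PcT Cfsg.Agent.Lib.Helper5.PcP

theorem r2_16_20 : relPair 2 gM2 sqL2 cmL2 16 20 = true := by decide +kernel

theorem r2_16_21 : relPair 2 gM2 sqL2 cmL2 16 21 = true := by decide +kernel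

theorem r2_17_17 : relPair 2 gM2 sqL2 cmL2 17 17 = true := by decide +kernel

theorem r2_17_18 : relPair 2 gM2 sqL2 cmL2 17 18 = true := by decide +kernel

theorem r2_17_19 : relPair 2 gM2 sqL2 cmL2 17 19 = true := by decide +kernel

theorem r2_17_20 : relPair 2 gM2 sqL2 cmL2 17 20 = true := by decide +kernel

theorem r2_17_21 : relPair 2 gM2 sqL2 cmL2 17 21 = true := by decide +kernel

theorem r2_18_18 : relPair 2 gM2 sqL2 cmL2 18 18 = true := by decide +kernel

theorem r2_18_19 : relPair 2 gM2 sqL2 cmL2 18 19 = true := by decide +kernel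

theorem r2_18_20 : relPair 2 gM2 sqL2 cmL2 18 20 = true := by decide +kernel

theorem r2_18_21 : relPair 2 gM2 sqL2 cmL2 18 21 = true := by decide +kernel

theorem r2_19_19 : relPair 2 gM2 sqL2 cmL2 19 19 = true := by decide +kernel

theorem r2_19_20 : relPair 2 gM2 sqL2 cmL2 19 20 = true := by decide +kernel

theorem r2_19_21 : relPair 2 gM2 sqL2 cmL2 19 21 = true := by decide +kernel

theorem r2_20_20 : relPair 2 gM2 sqL2 cmL2 20 20 = true := by decide +kernel

theorem r2_20_21 : relPair 2 gM2 sqL2 cmL2 20 21 = true := by decide +kernel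

theorem r2_21_21 : relPair 2 gM2 sqL2 cmL2 21 21 = true := by decide +kernel

theorem pwc2_0_0 : pwOneC 2 gM2 hM2 pwE2_0 0 = true := by decide +kernel

theorem pwc2_0_1 : pwOneC 2 gM2 hM2 pwE2_0 1 = true := by decide +kernel

theorem pwc2_1_0 : pwOneC 2 gM2 hM2 pwE2_1 0 = true := by decide +kernel

theorem pwc2_1_1 : pwOneC 2 gM2 hM2 pwE2_1 1 = true := by decide +kernel

theorem pwc2_2_0 : pwOneC 2 gM2 hM2 pwE2_2 0 = true := by decide +kernel

theorem pwc2_2_1 : pwOneC 2 gM2 hM2 pwE2_2 1 = true := by decide +kernel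

theorem pwc2_3_0 : pwOneC 2 gM2 hM2 pwE2_3 0 = true := by decide +kernel

theorem pwc2_3_1 : pwOneC 2 gM2 hM2 pwE2_3 1 = true := by decide +kernel

theorem pwc2_4_0 : pwOneC 2 gM2 hM2 pwE2_4 0 = true := by decide +kernel

theorem pwc2_4_1 : pwOneC 2 gM2 hM2 pwE2_4 1 = true := by decide +kernel

theorem pwc2_5_0 : pwOneC 2 gM2 hM2 pwE2_5 0 = true := by decide +kernel

theorem pwc2_5_1 : pwOneC 2 gM2 hM2 pwE2_5 1 = true := by decide +kernel

theorem pwc2_6_0 : pwOneC 2 gM2 hM2 pwE2_6 0 = true := by decide +kernel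

theorem pwc2_6_1 : pwOneC 2 gM2 hM2 pwE2_6 1 = true := by decide +kernel

end Cfsg.Agent.Lib.Helper26.C1M
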