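import Cfsg.Agent.Lib.Helper26.C1M.Front2
import Cfsg.Agent.Lib.Helper26.C1M.P2List

set_option autoImplicit false
set_option maxRecDepth 1000000

/-!
# Project C1M: checks with matrices for the prime 2, part 9 (generated)
-/

namespace Cfsg.Agent.Lib.Helper26.C1M

open Cfsg Cfsg.Agent.Lib.Helper26.Co1O Cfsg.Agent.Lib.Helper5.PcT Cfsg.Agent.Lib.Helper5.PcP

theorem pwc2_7_0 : pwOneC 2 gM2 hM2 pwE2_7 0 = true := by decide +kernel

theorem pwc2_7_1 : pwOneC 2 gM2 hM2 pwE2_7 1 = true := by decide +kernel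

theorem pwc2_8_0 : pwOneC 2 gM2 hM2 pwE2_8 0 = true := by decide +kernel

theorem pwc2_8_1 : pwOneC 2 gM2 hM2 pwE2_8 1 = true := by decide +kernel

theorem pwc2_9_0 : pwOneC 2 gM2 hM2 pwE2_9 0 = true := by decide +kernel

theorem pwc2_9_1 : pwOneC 2 gM2 hM2 pwE2_9 1 = true := by decide +kernel

theorem pwc2_10_0 : pwOneC 2 gM2 hM2 pwE2_10 0 = true := by decide +kernel

theorem pwc2_10_1 : pwOneC 2 gM2 hM2 pwE2_10 1 = true := by decide +kernel

theorem cmc2_0_0 : cmOneC gM2 hM2 cmE2_0 0 = true := by decide +kernel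

theorem cmc2_0_1 : cmOneC gM2 hM2 cmE2_0 1 = true := by decide +kernel

theorem cmc2_0_2 : cmOneC gM2 hM2 cmE2_0 2 = true := by decide +kernel

theorem cmc2_1_0 : cmOneC gM2 hM2 cmE2_1 0 = true := by decide +kernel

theorem cmc2_1_1 : cmOneC gM2 hM2 cmE2_1 1 = true := by decide +kernel

theorem cmc2_1_2 : cmOneC gM2 hM2 cmE2_1 2 = true := by decide +kernel

theorem cmc2_2_0 : cmOneC gM2 hM2 cmE2_2 0 = true := by decide +kernel

theorem cmc2_2_1 : cmOneC gM2 hM2 cmE2_2 1 = true := by decide +kernel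

theorem cmc2_2_2 : cmOneC gM2 hM2 cmE2_2 2 = true := by decide +kernel

theorem cmc2_3_0 : cmOneC gM2 hM2 cmE2_3 0 = true := by decide +kernel

end Cfsg.Agent.Lib.Helper26.C1M
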