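import Cfsg.Agent.Lib.Helper26.C1M.P2K0
import Cfsg.Agent.Lib.Helper26.C1M.P2K1
import Cfsg.Agent.Lib.Helper26.C1M.P2K2
import Cfsg.Agent.Lib.Helper26.C1M.P2K3
import Cfsg.Agent.Lib.Helper26.C1M.P2K4
import Cfsg.Agent.Lib.Helper26.C1M.P2K5
import Cfsg.Agent.Lib.Helper26.C1M.P2K6
import Cfsg.Agent.Lib.Helper26.C1M.P2K7
import Cfsg.Agent.Lib.Helper26.C1M.P2K8
import Cfsg.Agent.Lib.Helper26.C1M.P2K9
import Cfsg.Agent.Lib.Helper26.C1M.P2K10
import Cfsg.Agent.Lib.Helper26.C1M.P2K11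
import Cfsg.Agent.Lib.Helper26.C1M.P2C0
import Cfsg.Agent.Lib.Helper26.C1M.P2C1
import Cfsg.Agent.Lib.Helper26.C1M.P2C2

set_option autoImplicit false
set_option maxRecDepth 1000000

/-!
# Project C1M: no stem extension of `Co0` has a kernel of order 2 (generated)
-/

namespace Cfsg.Agent.Lib.Helper26.C1M

open Cfsg Cfsg.Agent.Lib.Helper26.Co1O Cfsg.Agent.Lib.Helper5.PcT Cfsg.Agent.Lib.Helper5.PcP

theorem rrow2_0 : relRow 2 gM2 22 sqL2 cmL2 0 = true :=
  relRow_of_pairs 2 gM2 22 sqL2 cmL2 0 (by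
    intro j h1 h2
    interval_cases j
    · exact r2_0_0
    · exact r2_0_1
    · exact r2_0_2
    · exact r2_0_3
    · exact r2_0_4
    · exact r2_0_5
    · exact r2_0_6
    · exact r2_0_7
    · exact r2_0_8
    · exact r2_0_9
    · exact r2_0_10
    · exact r2_0_11
    · exact r2_0_12
    · exact r2_0_13
    · exact r2_0_14
    · exact r2_0_15
    · exact r2_0_16
    · exact r2_0_17
    · exact r2_0_18
    · exact r2_0_19
    · exact r2_0_20
    · exact r2_0_21) (by norm_num)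

theorem rrow2_1 : relRow 2 gM2 22 sqL2 cmL2 1 = true :=
  relRow_of_pairs 2 gM2 22 sqL2 cmL2 1 (by
    intro j h1 h2
    interval_cases j
    · exact r2_1_1
    · exact r2_1_2
    · exact r2_1_3
    · exact r2_1_4
    · exact r2_1_5
    · exact r2_1_6
    · exact r2_1_7
    · exact r2_1_8
    · exact r2_1_9
    · exact r2_1_10
    · exact r2_1_11
    · exact r2_1_12
    · exact r2_1_13
    · exact r2_1_14
    · exact r2_1_15
    · exact r2_1_16
    · exact r2_1_17
    · exact r2_1_18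
    · exact r2_1_19
    · exact r2_1_20
    · exact r2_1_21) (by norm_num)

theorem rrow2_2 : relRow 2 gM2 22 sqL2 cmL2 2 = true :=
  relRow_of_pairs 2 gM2 22 sqL2 cmL2 2 (by
    intro j h1 h2
    interval_cases j
    · exact r2_2_2
    · exact r2_2_3
    · exact r2_2_4
    · exact r2_2_5
    · exact r2_2_6
    · exact r2_2_7
    · exact r2_2_8
    · exact r2_2_9
    · exact r2_2_10
    · exact r2_2_11
    · exact r2_2_12
    · exact r2_2_13
    · exact r2_2_14
    · exact r2_2_15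
    · exact r2_2_16
    · exact r2_2_17
    · exact r2_2_18
    · exact r2_2_19
    · exact r2_2_20
    · exact r2_2_21) (by norm_num)

theorem rrow2_3 : relRow 2 gM2 22 sqL2 cmL2 3 = true :=
  relRow_of_pairs 2 gM2 22 sqL2 cmL2 3 (by
    intro j h1 h2
    interval_cases j
    · exact r2_3_3
    · exact r2_3_4
    · exact r2_3_5
    · exact r2_3_6
    · exact r2_3_7
    · exact r2_3_8
    · exact r2_3_9
    · exact r2_3_10
    · exact r2_3_11
    · exact r2_3_12
    · exact r2_3_13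
    · exact r2_3_14
    · exact r2_3_15
    · exact r2_3_16
    · exact r2_3_17
    · exact r2_3_18
    · exact r2_3_19
    · exact r2_3_20
    · exact r2_3_21) (by norm_num)

theorem rrow2_4 : relRow 2 gM2 22 sqL2 cmL2 4 = true :=
  relRow_of_pairs 2 gM2 22 sqL2 cmL2 4 (by
    intro j h1 h2
    interval_cases j
    · exact r2_4_4
    · exact r2_4_5
    · exact r2_4_6
    · exact r2_4_7
    · exact r2_4_8
    · exact r2_4_9
    · exact r2_4_10
    · exact r2_4_11
    · exact r2_4_12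
    · exact r2_4_13
    · exact r2_4_14
    · exact r2_4_15
    · exact r2_4_16
    · exact r2_4_17
    · exact r2_4_18
    · exact r2_4_19
    · exact r2_4_20
    · exact r2_4_21) (by norm_num)

theorem rrow2_5 : relRow 2 gM2 22 sqL2 cmL2 5 = true :=
  relRow_of_pairs 2 gM2 22 sqL2 cmL2 5 (by
    intro j h1 h2
    interval_cases j
    · exact r2_5_5
    · exact r2_5_6
    · exact r2_5_7
    · exact r2_5_8
    · exact r2_5_9
    · exact r2_5_10
    · exact r2_5_11
    · exact r2_5_12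
    · exact r2_5_13
    · exact r2_5_14
    · exact r2_5_15
    · exact r2_5_16
    · exact r2_5_17
    · exact r2_5_18
    · exact r2_5_19
    · exact r2_5_20
    · exact r2_5_21) (by norm_num)

theorem rrow2_6 : relRow 2 gM2 22 sqL2 cmL2 6 = true :=
  relRow_of_pairs 2 gM2 22 sqL2 cmL2 6 (by
    intro j h1 h2
    interval_cases j
    · exact r2_6_6
    · exact r2_6_7
    · exact r2_6_8
    · exact r2_6_9
    · exact r2_6_10
    · exact r2_6_11
    · exact r2_6_12
    · exact r2_6_13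
    · exact r2_6_14
    · exact r2_6_15
    · exact r2_6_16
    · exact r2_6_17
    · exact r2_6_18
    · exact r2_6_19
    · exact r2_6_20
    · exact r2_6_21) (by norm_num)

theorem rrow2_7 : relRow 2 gM2 22 sqL2 cmL2 7 = true :=
  relRow_of_pairs 2 gM2 22 sqL2 cmL2 7 (by
    intro j h1 h2
    interval_cases j
    · exact r2_7_7
    · exact r2_7_8
    · exact r2_7_9
    · exact r2_7_10
    · exact r2_7_11
    · exact r2_7_12
    · exact r2_7_13
    · exact r2_7_14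
    · exact r2_7_15
    · exact r2_7_16
    · exact r2_7_17
    · exact r2_7_18
    · exact r2_7_19
    · exact r2_7_20
    · exact r2_7_21) (by norm_num)

theorem rrow2_8 : relRow 2 gM2 22 sqL2 cmL2 8 = true :=
  relRow_of_pairs 2 gM2 22 sqL2 cmL2 8 (by
    intro j h1 h2
    interval_cases j
    · exact r2_8_8
    · exact r2_8_9
    · exact r2_8_10
    · exact r2_8_11
    · exact r2_8_12
    · exact r2_8_13
    · exact r2_8_14
    · exact r2_8_15
    · exact r2_8_16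
    · exact r2_8_17
    · exact r2_8_18
    · exact r2_8_19
    · exact r2_8_20
    · exact r2_8_21) (by norm_num)

theorem rrow2_9 : relRow 2 gM2 22 sqL2 cmL2 9 = true :=
  relRow_of_pairs 2 gM2 22 sqL2 cmL2 9 (by
    intro j h1 h2
    interval_cases j
    · exact r2_9_9
    · exact r2_9_10
    · exact r2_9_11
    · exact r2_9_12
    · exact r2_9_13
    · exact r2_9_14
    · exact r2_9_15
    · exact r2_9_16
    · exact r2_9_17
    · exact r2_9_18
    · exact r2_9_19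
    · exact r2_9_20
    · exact r2_9_21) (by norm_num)

theorem rrow2_10 : relRow 2 gM2 22 sqL2 cmL2 10 = true :=
  relRow_of_pairs 2 gM2 22 sqL2 cmL2 10 (by
    intro j h1 h2
    interval_cases j
    · exact r2_10_10
    · exact r2_10_11
    · exact r2_10_12
    · exact r2_10_13
    · exact r2_10_14
    · exact r2_10_15
    · exact r2_10_16
    · exact r2_10_17
    · exact r2_10_18
    · exact r2_10_19
    · exact r2_10_20
    · exact r2_10_21) (by norm_num)

theorem rrow2_11 : relRow 2 gM2 22 sqL2 cmL2 11 = true :=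
  relRow_of_pairs 2 gM2 22 sqL2 cmL2 11 (by
    intro j h1 h2
    interval_cases j
    · exact r2_11_11
    · exact r2_11_12
    · exact r2_11_13
    · exact r2_11_14
    · exact r2_11_15
    · exact r2_11_16
    · exact r2_11_17
    · exact r2_11_18
    · exact r2_11_19
    · exact r2_11_20
    · exact r2_11_21) (by norm_num)

theorem rrow2_12 : relRow 2 gM2 22 sqL2 cmL2 12 = true :=
  relRow_of_pairs 2 gM2 22 sqL2 cmL2 12 (by
    intro j h1 h2
    interval_cases j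
    · exact r2_12_12
    · exact r2_12_13
    · exact r2_12_14
    · exact r2_12_15
    · exact r2_12_16
    · exact r2_12_17
    · exact r2_12_18
    · exact r2_12_19
    · exact r2_12_20
    · exact r2_12_21) (by norm_num)

theorem rrow2_13 : relRow 2 gM2 22 sqL2 cmL2 13 = true :=
  relRow_of_pairs 2 gM2 22 sqL2 cmL2 13 (by
    intro j h1 h2
    interval_cases j
    · exact r2_13_13
    · exact r2_13_14
    · exact r2_13_15
    · exact r2_13_16
    · exact r2_13_17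
    · exact r2_13_18
    · exact r2_13_19
    · exact r2_13_20
    · exact r2_13_21) (by norm_num)

theorem rrow2_14 : relRow 2 gM2 22 sqL2 cmL2 14 = true :=
  relRow_of_pairs 2 gM2 22 sqL2 cmL2 14 (by
    intro j h1 h2
    interval_cases j
    · exact r2_14_14
    · exact r2_14_15
    · exact r2_14_16
    · exact r2_14_17
    · exact r2_14_18
    · exact r2_14_19
    · exact r2_14_20
    · exact r2_14_21) (by norm_num)

theorem rrow2_15 : relRow 2 gM2 22 sqL2 cmL2 15 = true :=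
  relRow_of_pairs 2 gM2 22 sqL2 cmL2 15 (by
    intro j h1 h2
    interval_cases j
    · exact r2_15_15
    · exact r2_15_16
    · exact r2_15_17
    · exact r2_15_18
    · exact r2_15_19
    · exact r2_15_20
    · exact r2_15_21) (by norm_num)

theorem rrow2_16 : relRow 2 gM2 22 sqL2 cmL2 16 = true :=
  relRow_of_pairs 2 gM2 22 sqL2 cmL2 16 (by
    intro j h1 h2
    interval_cases j
    · exact r2_16_16
    · exact r2_16_17
    · exact r2_16_18
    · exact r2_16_19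
    · exact r2_16_20
    · exact r2_16_21) (by norm_num)

theorem rrow2_17 : relRow 2 gM2 22 sqL2 cmL2 17 = true :=
  relRow_of_pairs 2 gM2 22 sqL2 cmL2 17 (by
    intro j h1 h2
    interval_cases j
    · exact r2_17_17
    · exact r2_17_18
    · exact r2_17_19
    · exact r2_17_20
    · exact r2_17_21) (by norm_num)

theorem rrow2_18 : relRow 2 gM2 22 sqL2 cmL2 18 = true :=
  relRow_of_pairs 2 gM2 22 sqL2 cmL2 18 (by
    intro j h1 h2
    interval_cases j
    · exact r2_18_18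
    · exact r2_18_19
    · exact r2_18_20
    · exact r2_18_21) (by norm_num)

theorem rrow2_19 : relRow 2 gM2 22 sqL2 cmL2 19 = true :=
  relRow_of_pairs 2 gM2 22 sqL2 cmL2 19 (by
    intro j h1 h2
    interval_cases j
    · exact r2_19_19
    · exact r2_19_20
    · exact r2_19_21) (by norm_num)

theorem rrow2_20 : relRow 2 gM2 22 sqL2 cmL2 20 = true :=
  relRow_of_pairs 2 gM2 22 sqL2 cmL2 20 (by
    intro j h1 h2
    interval_cases j
    · exact r2_20_20
    · exact r2_20_21) (by norm_num)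

theorem rrow2_21 : relRow 2 gM2 22 sqL2 cmL2 21 = true :=
  relRow_of_pairs 2 gM2 22 sqL2 cmL2 21 (by
    intro j h1 h2
    interval_cases j
    · exact r2_21_21) (by norm_num)

theorem rels2_all : ∀ i, i < 22 → relRow 2 gM2 22 sqL2 cmL2 i = true := by
  intro i hi
  interval_cases i
  · exact rrow2_0
  · exact rrow2_1
  · exact rrow2_2
  · exact rrow2_3
  · exact rrow2_4
  · exact rrow2_5
  · exact rrow2_6
  · exact rrow2_7
  · exact rrow2_8
  · exact rrow2_9
  · exact rrow2_10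
  · exact rrow2_11
  · exact rrow2_12
  · exact rrow2_13
  · exact rrow2_14
  · exact rrow2_15
  · exact rrow2_16
  · exact rrow2_17
  · exact rrow2_18
  · exact rrow2_19
  · exact rrow2_20
  · exact rrow2_21

theorem pw2_ok : pwChkZ 2 gM2 hM2 pwL2 = true :=
  pwChkZ_of_all 2 gM2 hM2 pwL2
    (allCons (pwOne_of_parts _ _ _ _ pwc2_0_0 pwc2_0_1)
    (allCons (pwOne_of_parts _ _ _ _ pwc2_1_0 pwc2_1_1)
    (allCons (pwOne_of_parts _ _ _ _ pwc2_2_0 pwc2_2_1)
    (allCons (pwOne_of_parts _ _ _ _ pwc2_3_0 pwc2_3_1)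
    (allCons (pwOne_of_parts _ _ _ _ pwc2_4_0 pwc2_4_1)
    (allCons (pwOne_of_parts _ _ _ _ pwc2_5_0 pwc2_5_1)
    (allCons (pwOne_of_parts _ _ _ _ pwc2_6_0 pwc2_6_1)
    (allCons (pwOne_of_parts _ _ _ _ pwc2_7_0 pwc2_7_1)
    (allCons (pwOne_of_parts _ _ _ _ pwc2_8_0 pwc2_8_1)
    (allCons (pwOne_of_parts _ _ _ _ pwc2_9_0 pwc2_9_1)
    (allCons (pwOne_of_parts _ _ _ _ pwc2_10_0 pwc2_10_1)
    allNil)))))))))))

theorem cm2_ok : cmChkZ gM2 hM2 cmEL2 = true :=
  cmChkZ_of_all gM2 hM2 cmEL2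
    (allCons (cmOne_of_parts _ _ _ cmc2_0_0 cmc2_0_1 cmc2_0_2)
    (allCons (cmOne_of_parts _ _ _ cmc2_1_0 cmc2_1_1 cmc2_1_2)
    (allCons (cmOne_of_parts _ _ _ cmc2_2_0 cmc2_2_1 cmc2_2_2)
    (allCons (cmOne_of_parts _ _ _ cmc2_3_0 cmc2_3_1 cmc2_3_2)
    (allCons (cmOne_of_parts _ _ _ cmc2_4_0 cmc2_4_1 cmc2_4_2)
    (allCons (cmOne_of_parts _ _ _ cmc2_5_0 cmc2_5_1 cmc2_5_2)
    (allCons (cmOne_of_parts _ _ _ cmc2_6_0 cmc2_6_1 cmc2_6_2)
    (allCons (cmOne_of_parts _ _ _ cmc2_7_0 cmc2_7_1 cmc2_7_2)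
    (allCons (cmOne_of_parts _ _ _ cmc2_8_0 cmc2_8_1 cmc2_8_2)
    allNil)))))))))

theorem levels2_ok : chainChkZ gM2 [] levels2 = true :=
  (chainChkZ_cons gM2 [] lvB2_0 lvW2_0 _ lvI2_0 lvb2_0 lvf2_0 lvi2_0 lvn2_0
    (chainChkZ_cons gM2 [lvB2_0] lvB2_1 lvW2_1 _ lvI2_1 lvb2_1 lvf2_1 lvi2_1 lvn2_1
    (chainChkZ_cons gM2 [lvB2_1, lvB2_0] lvB2_2 lvW2_2 _ lvI2_2 lvb2_2 lvf2_2 lvi2_2 lvn2_2
    (chainChkZ_cons gM2 [lvB2_2, lvB2_1, lvB2_0] lvB2_3 lvW2_3 _ lvI2_3 lvb2_3 lvf2_3 lvi2_3 lvn2_3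
    (chainChkZ_cons gM2 [lvB2_3, lvB2_2, lvB2_1, lvB2_0] lvB2_4 lvW2_4 _ lvI2_4 lvb2_4 lvf2_4 lvi2_4 lvn2_4
    (chainChkZ_cons gM2 [lvB2_4, lvB2_3, lvB2_2, lvB2_1, lvB2_0] lvB2_5 lvW2_5 _ lvI2_5 lvb2_5 lvf2_5 lvi2_5 lvn2_5
    (chainChkZ_cons gM2 [lvB2_5, lvB2_4, lvB2_3, lvB2_2, lvB2_1, lvB2_0] lvB2_6 lvW2_6 _ lvI2_6 lvb2_6 lvf2_6 lvi2_6 lvn2_6
    (chainChkZ_cons gM2 [lvB2_6, lvB2_5, lvB2_4, lvB2_3, lvB2_2, lvB2_1, lvB2_0] lvB2_7 lvW2_7 _ lvI2_7 lvb2_7 lvf2_7 lvi2_7 lvn2_7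
    (chainChkZ_cons gM2 [lvB2_7, lvB2_6, lvB2_5, lvB2_4, lvB2_3, lvB2_2, lvB2_1, lvB2_0] lvB2_8 lvW2_8 _ lvI2_8 lvb2_8 lvf2_8 lvi2_8 lvn2_8
    (chainChkZ_cons gM2 [lvB2_8, lvB2_7, lvB2_6, lvB2_5, lvB2_4, lvB2_3, lvB2_2, lvB2_1, lvB2_0] lvB2_9 lvW2_9 _ lvI2_9 lvb2_9 lvf2_9 lvi2_9 lvn2_9
    (chainChkZ_cons gM2 [lvB2_9, lvB2_8, lvB2_7, lvB2_6, lvB2_5, lvB2_4, lvB2_3, lvB2_2, lvB2_1, lvB2_0] lvB2_10 lvW2_10 _ lvI2_10 lvb2_10 lvf2_10 lvi2_10 lvn2_10
    (chainChkZ_cons gM2 [lvB2_10, lvB2_9, lvB2_8, lvB2_7, lvB2_6, lvB2_5, lvB2_4, lvB2_3, lvB2_2, lvB2_1, lvB2_0] lvB2_11 lvW2_11 _ lvI2_11 lvb2_11 lvf2_11 lvi2_11 lvn2_11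
    (chainChkZ_nil gM2 _)))))))))))))

theorem cert2_ok : certOKP 2 (PcD.ofLists 22 sqL2 cmL2) CC2
    (zformsP 2 (PcD.ofLists 22 sqL2 cmL2) 400 conL2
      (mkRel 2 (pwL2.map Prod.fst) [] (cmEL2.map Prod.fst) [])) certs2 = true :=
  certOKP_of_pieces 2 (PcD.ofLists 22 sqL2 cmL2) 400 CC2 conC2 zvC2 relC2 zvR2 certs2
    (List.Forall₂.cons zc2_0 (List.Forall₂.cons zc2_1 (List.Forall₂.cons zc2_2 (List.Forall₂.cons zc2_3 (List.Forall₂.cons zc2_4 (List.Forall₂.cons zc2_5 List.Forall₂.nil))))))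
    (List.Forall₂.cons zr2_0 (List.Forall₂.cons zr2_1 List.Forall₂.nil))
    _ relflat2 (by
      intro i hi
      change i < 22 at hi
      interval_cases i
      · exact crow2_0
      · exact crow2_1
      · exact crow2_2
      · exact crow2_3
      · exact crow2_4
      · exact crow2_5
      · exact crow2_6
      · exact crow2_7
      · exact crow2_8
      · exact crow2_9
      · exact crow2_10
      · exact crow2_11
      · exact crow2_12
      · exact crow2_13
      · exact crow2_14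
      · exact crow2_15
      · exact crow2_16
      · exact crow2_17
      · exact crow2_18
      · exact crow2_19
      · exact crow2_20
      · exact crow2_21)

/-- no finite stem extension of `Co0` has a kernel of order 2 -/
theorem co0_no_stem_2 {Γ : Type*} [Group Γ] [Finite Γ] (σ : Γ →* ↥Co0) (hσ : Cfsg.IsStemExtension σ) :
    Nat.card σ.ker ≠ 2 :=
  co0_stem_card_ne 2 Nat.prime_two gM2 hM2 gE2 hE2 gRep2 hRep2 22 sqL2 cmL2 data2_ok (by decide)
    rels2_all 400 conL2 pwL2 cmEL2 CC2 certs2 cert2_ok pw2_ok cm2_ok levels2 levels2_ok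
    levels2_prod (by norm_num) σ hσ

end Cfsg.Agent.Lib.Helper26.C1M
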