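import Mathlib

set_option autoImplicit false
set_option maxRecDepth 1000000

/-!
# Project C1M: the certificate for the prime 3 (generated)
-/

namespace Cfsg.Agent.Lib.Helper26.C1M

/-- the powers of the polycyclic generators -/
def sqL3 : List (List ℕ) := [[], [], [], [8], [], [], [], [], []]

/-- the commutators of the polycyclic generators -/
def cmL3 : List (List (List ℕ)) := [[[], [2, 2, 3, 5, 6, 6, 8, 8], [4, 4, 5, 5, 6, 8, 8], [4, 4, 5, 5, 6, 7, 8, 8], [5, 5, 6, 6, 7], [7, 7, 8, 8], [7, 8], [8], []], [[], [], [8, 8], [7], [6, 6, 8], [7, 7], [], [8, 8], []], [[], [], [], [6, 7], [6], [7, 7], [], [8, 8], []], [[], [], [], [], [6, 7, 8], [7, 7, 8], [8], [8, 8], []], [[], [], [], [], [], [8, 8], [8, 8], [], []], [[], [], [], [], [], [], [], [], []], [[], [], [], [], [], [], [], [], []], [[], [],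 [], [], [], [], [], [], []], [[], [], [], [], [], [], [], [], []]]

/-- a part of the consistency checks used -/
def conC3_0 : List (List ℕ × List ℕ) := [([2], [1, 0]), ([3], [1, 0]), ([4], [1, 0]), ([5], [1, 0]), ([6], [1, 0]), ([7], [1, 0]), ([8], [1, 0]), ([3], [2, 0]), ([4], [2, 0]), ([5], [2, 0]), ([6], [2, 0]), ([7], [2, 0]), ([8], [2, 0]), ([4], [3, 0]), ([5], [3, 0]), ([6], [3, 0]), ([7], [3, 0]), ([8], [3, 0]), ([5], [4, 0]), ([6], [4, 0]), ([7], [4, 0]), ([3], [2, 1]), ([4], [2, 1]), ([5], [2, 1]), ([7], [2, 1]), ([5], [3, 1]), ([6], [3, 1]), ([1, 1], [1, 0]), ([1], [0, 0, 0]), ([2], [0, 0, 0]), ([4, 4], [4, 0])]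

/-- the parts of the consistency checks used -/
def conC3 : List (List (List ℕ × List ℕ)) := [conC3_0]

/-- the consistency checks used -/
def conL3 : List (List ℕ × List ℕ) := conC3.flatten

/-- a pair of conjugate elements of prime order, with the index of a conjugating element -/
def pwE3_0 : (List ℕ × List ℕ) × ℕ := (([2], [1, 2, 2]), 0)

/-- a pair of conjugate elements of prime order, with the index of a conjugating element -/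
def pwE3_1 : (List ℕ × List ℕ) × ℕ := (([7], [1, 1, 6, 6, 7, 8]), 0)

/-- a pair of conjugate elements of prime order, with the index of a conjugating element -/
def pwE3_2 : (List ℕ × List ℕ) × ℕ := (([0], [2, 2, 3, 4, 4, 5, 6, 6, 7, 7, 8]), 1)

/-- a pair of conjugate elements of prime order, with the index of a conjugating element -/
def pwE3_3 : (List ℕ × List ℕ) × ℕ := (([0, 1], [1, 2, 3, 3, 4, 4, 5, 5, 6, 7, 7, 8]), 1)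

/-- a pair of conjugate elements of prime order, with the index of a conjugating element -/
def pwE3_4 : (List ℕ × List ℕ) × ℕ := (([0, 1, 5], [3, 3, 4, 4, 5, 5, 7]), 1)

/-- pairs of conjugate elements of prime order, with the index of a conjugating element -/
def pwL3 : List ((List ℕ × List ℕ) × ℕ) := [pwE3_0, pwE3_1, pwE3_2, pwE3_3, pwE3_4]

/-- a pair of simultaneously conjugate commuting pairs, with the index of a conjugating element -/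
def cmE3_0 : (List ℕ × List ℕ × List ℕ × List ℕ) × ℕ := (([1], [3, 5], [1, 6, 7], [1, 1, 3, 3, 5, 5, 7]), 0)

/-- a pair of simultaneously conjugate commuting pairs, with the index of a conjugating element -/
def cmE3_1 : (List ℕ × List ℕ × List ℕ × List ℕ) × ℕ := (([1], [2, 2, 7], [1, 6, 7], [1, 2, 6, 6, 7]), 0)

/-- a pair of simultaneously conjugate commuting pairs, with the index of a conjugating element -/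
def cmE3_2 : (List ℕ × List ℕ × List ℕ × List ℕ) × ℕ := (([0], [5, 6], [2, 2, 3, 4, 4, 5, 6, 6, 7, 7, 8], [2, 2, 6]), 1)

/-- pairs of simultaneously conjugate commuting pairs, with the index of a conjugating element -/
def cmEL3 : List ((List ℕ × List ℕ × List ℕ × List ℕ) × ℕ) := [cmE3_0, cmE3_1, cmE3_2]

/-- a part of the quadruples of words of the fusion -/
def relC3_0 : List (List ℕ × List ℕ × List ℕ × List ℕ) := [([2, 2, 2], [], [1, 2, 2, 1, 2, 2, 1, 2, 2], []), ([7, 7, 7], [], [1, 1, 6, 6, 7, 8, 1, 1, 6, 6, 7, 8, 1, 1, 6, 6, 7, 8], []), ([0, 0, 0], [], [2, 2, 3, 4, 4, 5, 6, 6, 7, 7, 8, 2, 2, 3, 4, 4, 5, 6, 6, 7, 7, 8, 2, 2, 3, 4, 4, 5, 6, 6, 7, 7, 8], []), ([0, 1, 0, 1, 0, 1], [], [1, 2, 3, 3, 4, 4, 5, 5, 6, 7, 7, 8, 1, 2, 3, 3, 4, 4, 5, 5, 6, 7, 7, 8, 1, 2, 3, 3, 4, 4, 5, 5, 6, 7, 7, 8], []),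 ([0, 1, 5, 0, 1, 5, 0, 1, 5], [], [3, 3, 4, 4, 5, 5, 7, 3, 3, 4, 4, 5, 5, 7, 3, 3, 4, 4, 5, 5, 7], []), ([1, 3, 5], [3, 5, 1], [1, 6, 7, 1, 1, 3, 3, 5, 5, 7], [1, 1, 3, 3, 5, 5, 7, 1, 6, 7]), ([1, 2, 2, 7], [2, 2, 7, 1], [1, 6, 7, 1, 2, 6, 6, 7], [1, 2, 6, 6, 7, 1, 6, 7]), ([0, 5, 6], [5, 6, 0], [2, 2, 3, 4, 4, 5, 6, 6, 7, 7, 8, 2, 2, 6], [2, 2, 6, 2, 2, 3, 4, 4, 5, 6, 6, 7, 7, 8])]

/-- the parts of the quadruples of words of the fusion -/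
def relC3 : List (List (List ℕ × List ℕ × List ℕ × List ℕ)) := [relC3_0]

/-- the forms of the correcting exponents -/
def CC3 : List (List (ℕ × ℕ)) := [[], [], [(0, 1), (0, 1), (0, 2), (0, 2), (0, 3), (0, 4), (0, 4), (1, 4), (1, 4)], [], [(0, 2), (0, 3), (0, 4), (0, 5), (0, 5), (1, 4)], [(0, 2), (0, 3), (0, 3), (0, 4), (0, 4), (0, 5), (1, 4)], [(0, 2), (0, 3), (0, 3), (0, 5), (0, 5), (1, 4), (1, 4)], [(0, 2), (0, 2), (0, 3)], [(0, 2), (0, 3), (0, 3), (0, 5), (0, 5)]]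

/-- the certificates -/
def certs3 : List (List ℕ) := [[0, 1, 1, 3, 7, 8, 11, 13, 13, 16, 17, 17, 18, 18, 21, 21, 22, 22, 26, 26, 27, 27, 28, 30, 30, 33, 33], [], [], [], [], [], [0, 1, 1, 3, 3, 4, 4, 5, 6, 6, 7, 7, 10, 12, 12, 14, 14, 15, 18, 18, 19, 20, 20, 22, 23, 23, 24, 25, 26, 27, 27, 28, 28, 29, 29, 30, 30], [4, 5, 5, 7, 10, 11, 12, 12, 15, 15, 16, 16, 17, 18, 19, 19, 21, 23, 24, 24, 26, 27, 27, 28, 28, 33, 34, 34, 36, 36, 37, 37], [6, 11, 12, 16, 16, 18, 18, 19, 19, 20], [], [0, 1, 1, 3, 3, 5, 11, 16, 16, 17, 18, 20, 23, 23, 25, 26, 26, 32, 32], [0, 1, 1, 4, 6, 6, 7, 7, 8, 8, 9, 11, 13, 14, 14, 16, 17, 17, 18, 19, 19, 21, 23, 24, 27, 28, 30, 31, 31, 33, 33, 34, 34, 35, 35, 36, 37, 37], [0, 1, 1, 2, 3, 3, 4, 4, 8, 8, 9, 9, 10, 11, 12, 12, 13, 14, 14, 15, 16, 16, 17, 18, 19, 19, 20, 23, 23, 25,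 26, 29, 29, 30, 31, 33, 33, 35, 37], [], [0, 0, 1, 2, 2, 3, 3, 4, 5, 5, 6, 6, 10, 14, 14, 17, 17, 19, 20, 20, 22, 23, 23, 29, 30, 30, 31, 31, 33, 35, 35, 36, 36, 37, 37], [6, 9, 11, 12, 12, 14, 14, 16, 16, 17, 18, 19, 20, 20, 21, 21, 23, 24, 24, 25, 26], [0, 1, 1, 4, 5, 7, 7, 8, 8, 10, 12, 13, 15, 15, 16, 16, 18, 18, 22, 22, 24, 25, 25, 26, 26, 27, 28, 30, 31, 31, 33, 33, 34, 34, 35, 35, 36, 37], [9, 10, 10, 11, 11, 14, 14, 15, 16, 17, 17, 20, 20, 23, 25, 25], [], [], [0, 0, 1, 3, 5, 9, 11, 11, 12, 14, 14, 16, 17, 17, 18, 18, 20, 20, 23, 24, 25, 25, 26, 26, 31, 32], [1, 1, 2, 3, 4, 4, 6, 6, 8, 9, 10, 10, 11, 11, 12, 12, 14, 15, 15, 16, 17, 18, 19, 19, 21, 21, 23, 23, 24, 24, 25, 25, 26, 26, 27, 27, 28, 28, 29, 29, 30, 31, 34, 34, 35], [0, 1, 2, 4, 5, 6, 6, 10, 11, 12, 12, 14, 14, 15, 16, 17, 18, 21,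 21, 22, 22, 23, 23, 24, 24, 25, 25, 26, 26, 29, 30, 33, 34, 34, 36, 36, 37, 37, 38], [6, 6, 7, 7, 8, 8, 9, 10, 11, 12, 12, 14, 15, 16, 16, 17, 17, 20, 20, 21, 22, 22, 23, 24, 25, 26, 26, 29, 30, 30, 31, 31, 33, 35, 35, 36, 36, 37, 37], [6, 9, 9, 10, 12, 14, 15, 15, 17, 17, 20, 21, 22, 22, 25, 26, 26], [0, 1, 1, 4, 5, 6, 7, 7, 8, 8, 9, 10, 10, 11, 12, 13, 14, 14, 15, 16, 17, 18, 19, 19, 20, 20, 22, 22, 23, 23, 24, 25, 25, 26, 26, 27, 28, 30, 31, 31, 33, 33, 34, 34, 35, 35, 36, 37], [9, 10, 10, 11, 11, 12, 12, 14, 14, 15, 16, 20, 20, 23, 24, 24, 25, 25], [], [], [], [0, 1, 1, 3, 4, 7, 8, 9, 12, 13, 13, 14, 14, 17, 17, 18, 18, 19, 20, 20, 23, 24, 24, 26, 28, 28, 31, 31, 32, 33, 34, 35, 36, 36, 37, 37], [0, 1, 2, 3, 4, 4, 5, 5, 6, 6, 8, 9, 10, 11, 11, 12, 12, 13, 13, 15, 16, 17, 18, 20, 20, 21, 22, 23,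 23, 25, 26, 26, 27, 27, 28, 28, 30, 30, 31, 33, 34, 35, 36, 36, 37, 37, 38], [0, 1, 1, 4, 4, 5, 8, 8, 9, 9, 11, 11, 12, 12, 15, 15, 16, 17, 17, 18, 22, 23, 24, 25, 25, 27, 27, 28, 28, 29, 31, 33, 33, 35, 36, 37], [0, 0, 1, 5, 5, 6, 6, 7, 8, 11, 13, 13, 16, 17, 17, 18, 19, 20, 20, 21, 23, 25, 27, 27, 28, 28, 30, 30, 31, 33, 34, 35, 36, 36, 37, 37], [0, 1, 1, 4, 5, 6, 6, 7, 7, 8, 8, 10, 10, 11, 13, 15, 16, 19, 20, 22, 22, 23, 24, 26, 27, 28, 30, 31, 31, 33, 33, 34, 34, 35, 35, 36, 37], [9, 10, 10, 11, 12, 12, 14, 14, 15, 16, 16, 20, 20, 23, 24, 24, 25, 25], [], [], [], [], [0, 0, 1, 3, 3, 5, 6, 6, 7, 7, 8, 8, 9, 9, 11, 11, 12, 13, 14, 17, 17, 18, 18, 19, 22, 23, 24, 25, 25, 26, 27, 27, 28, 28, 30], [0, 0, 1, 5, 5, 7, 7, 8, 9, 9, 11, 12, 12, 13, 13, 16, 16, 17, 17, 19, 21, 22, 23, 24, 25, 25, 26, 26, 27,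 28, 30, 30, 31, 33, 33, 35, 36, 37], [0, 1, 1, 4, 5, 5, 6, 7, 7, 8, 8, 9, 11, 11, 13, 14, 14, 15, 15, 16, 16, 18, 20, 20, 22, 22, 24, 24, 25, 26, 26, 27, 28, 30, 31, 31, 33, 33, 34, 34, 35, 35, 36, 37], [9, 12, 14, 14, 16, 16, 17, 20, 23, 23, 24, 24, 25, 26], [6, 6, 11, 11, 12, 12, 16], [], [], [], [], [], [0, 1, 1, 3, 4, 4, 5, 8, 9, 11, 11, 12, 13, 13, 14, 14, 16, 17, 18, 19, 23, 23, 24, 24, 25, 30, 30], [6, 6, 9, 10, 11, 12, 14, 14, 15, 15, 16, 19, 19, 24, 24, 26, 26], [6, 9, 9, 14, 17, 17, 18, 18, 19, 19, 23, 25, 25, 26], [6, 9, 10, 11, 12, 14, 14, 15, 15, 16, 16, 18, 18, 19, 19, 20, 20], [], [], [], [], [], [], [0, 0, 1, 3, 9, 10, 10, 11, 11, 14, 14, 15, 16, 19, 23, 25, 25], [9, 9, 10, 11, 12, 12, 14, 15, 15, 16, 16, 17, 17, 20, 23, 23, 25, 26, 26], [9, 10, 12, 14, 14, 15, 15, 18, 18, 19, 19, 20,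 20], [], [], [], [], [], [], [], [3, 3, 4, 4, 5, 5, 6, 6, 8, 9, 11, 11, 12, 12, 13, 13, 14, 14, 16, 17, 17, 18, 18, 23, 24, 24, 25, 25, 26, 26], [12, 12, 17], [], [], [], [], [], [], [], [], [5, 5, 10, 11, 15, 15, 16, 16, 17, 17, 20, 23, 23, 25, 26]]

/-- a base vector of the chain of stabilisers -/
def lvB3_0 : List ℤ := [.negSucc 1, .ofNat 0, .ofNat 0, .ofNat 2, .ofNat 0, .ofNat 0, .negSucc 1, .ofNat 0, .negSucc 1, .negSucc 1, .ofNat 0, .ofNat 0, .ofNat 0, .ofNat 0, .ofNat 2, .ofNat 0, .ofNat 2, .ofNat 2, .ofNat 0, .ofNat 0, .ofNat 0, .ofNat 0, .ofNat 0, .ofNat 0]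

/-- words with pairwise different images of the base vector -/
def lvW3_0 : List (List ℕ) := [[], [0], [2], [2, 2, 3, 3, 4, 5, 6, 7], [0, 2, 2, 3, 3, 4, 5, 6, 7], [3, 4, 5, 6, 6], [4, 4, 6], [0, 4, 4, 6], [2, 4, 4, 6], [0, 2, 2, 3, 4, 4, 5, 5, 6, 7, 7, 8], [2, 2, 4, 4, 6], [0, 4, 4, 5, 5, 6, 6, 7, 7, 8, 8], [2, 2], [0, 2, 2], [2, 3, 4, 5, 6, 6], [0, 2, 3, 4, 5, 6, 6], [0, 0, 2, 3, 4, 5, 6, 6], [0, 2], [0, 0, 2, 2, 3, 5, 5, 6, 6, 7, 8, 8], [0, 0, 3, 4, 5, 6, 6], [0, 0, 2, 2, 3, 3, 4, 5, 6, 7], [0, 0, 2, 2], [0, 0, 2, 3, 3, 5, 5, 6, 7, 8, 8], [0, 0, 3, 3, 4, 4, 6, 6, 7, 7, 8, 8], [0, 0, 2, 2, 4, 4, 6], [0, 0, 2, 2, 3, 4, 4, 5, 5, 6, 7, 7, 8], [0, 3, 4, 5, 6, 6, 7]]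

/-- the images of the base vector -/
def lvI3_0 : List (List ℤ) :=
  [[.negSucc 1, .ofNat 0, .ofNat 0, .ofNat 2, .ofNat 0, .ofNat 0, .negSucc 1, .ofNat 0, .negSucc 1, .negSucc 1, .ofNat 0, .ofNat 0, .ofNat 0, .ofNat 0, .ofNat 2, .ofNat 0, .ofNat 2, .ofNat 2, .ofNat 0, .ofNat 0, .ofNat 0, .ofNat 0, .ofNat 0, .ofNat 0],
  [.negSucc 1, .ofNat 0, .negSucc 1, .ofNat 0, .ofNat 0, .ofNat 2, .ofNat 0, .ofNat 0, .ofNat 0, .ofNat 0, .ofNat 0, .negSucc 1, .ofNat 0, .ofNat 2, .ofNat 0, .ofNat 0, .ofNat 0, .ofNat 2, .ofNat 2, .ofNat 0, .ofNat 0, .ofNat 0, .negSucc 1, .ofNat 0],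
  [.ofNat 0, .ofNat 0, .ofNat 0, .ofNat 0, .ofNat 0, .ofNat 0, .ofNat 2, .negSucc 1, .ofNat 2, .ofNat 2, .ofNat 2, .ofNat 0, .ofNat 0, .ofNat 2, .ofNat 0, .ofNat 0, .negSucc 1, .ofNat 0, .ofNat 2, .ofNat 0, .ofNat 0, .ofNat 0, .ofNat 0, .ofNat 0],
  [.ofNat 1, .negSucc 0, .negSucc 0, .negSucc 0, .negSucc 0, .ofNat 1, .ofNat 1, .negSucc 0, .ofNat 1, .ofNat 1, .negSucc 0, .negSucc 2, .ofNat 1, .ofNat 1, .negSucc 0, .ofNat 1, .negSucc 0, .negSucc 0, .negSucc 0, .ofNat 1, .ofNat 1, .ofNat 1, .negSucc 0, .negSucc 0],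
  [.ofNat 1, .ofNat 1, .ofNat 1, .ofNat 1, .ofNat 1, .negSucc 0, .negSucc 0, .ofNat 1, .negSucc 0, .negSucc 0, .ofNat 1, .ofNat 1, .ofNat 1, .negSucc 2, .negSucc 0, .ofNat 1, .ofNat 1, .ofNat 1, .negSucc 0, .negSucc 0, .negSucc 0, .ofNat 1, .ofNat 1, .ofNat 1],
  [.ofNat 1, .ofNat 1, .ofNat 1, .ofNat 1, .negSucc 0, .negSucc 0, .negSucc 0, .ofNat 1, .negSucc 0, .negSucc 0, .negSucc 0, .ofNat 1, .negSucc 2, .negSucc 0, .ofNat 1, .negSucc 0, .ofNat 1, .negSucc 0, .negSucc 0, .ofNat 1, .negSucc 0, .negSucc 0, .ofNat 1, .ofNat 1],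
  [.ofNat 1, .ofNat 1, .ofNat 1, .negSucc 0, .ofNat 1, .negSucc 0, .ofNat 1, .ofNat 1, .ofNat 1, .ofNat 1, .ofNat 1, .ofNat 3, .negSucc 0, .negSucc 0, .negSucc 0, .negSucc 0, .negSucc 0, .negSucc 0, .ofNat 1, .negSucc 0, .negSucc 0, .negSucc 0, .ofNat 1, .ofNat 1],
  [.ofNat 1, .negSucc 0, .ofNat 1, .negSucc 0, .negSucc 0, .negSucc 0, .ofNat 1, .negSucc 0, .ofNat 1, .ofNat 1, .negSucc 0, .ofNat 1, .negSucc 0, .ofNat 1, .ofNat 1, .negSucc 0, .negSucc 0, .negSucc 2, .negSucc 0, .ofNat 1, .ofNat 1, .negSucc 0, .ofNat 1, .negSucc 0],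
  [.negSucc 0, .negSucc 0, .negSucc 0, .negSucc 0, .ofNat 1, .ofNat 1, .negSucc 0, .ofNat 1, .negSucc 0, .negSucc 0, .negSucc 0, .negSucc 0, .ofNat 3, .negSucc 0, .negSucc 0, .ofNat 1, .ofNat 1, .ofNat 1, .negSucc 0, .negSucc 0, .ofNat 1, .ofNat 1, .negSucc 0, .negSucc 0],
  [.negSucc 0, .ofNat 1, .negSucc 0, .negSucc 0, .ofNat 1, .ofNat 1, .negSucc 0, .ofNat 3, .negSucc 0, .negSucc 0, .negSucc 0, .ofNat 1, .negSucc 0, .negSucc 0, .negSucc 0, .negSucc 0, .ofNat 1, .ofNat 1, .ofNat 1, .negSucc 0, .negSucc 0, .negSucc 0, .negSucc 0, .ofNat 1],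
  [.ofNat 0, .ofNat 0, .ofNat 0, .ofNat 2, .negSucc 1, .ofNat 0, .ofNat 0, .negSucc 1, .ofNat 0, .ofNat 0, .ofNat 0, .negSucc 1, .negSucc 1, .ofNat 2, .ofNat 2, .ofNat 0, .ofNat 0, .ofNat 0, .ofNat 0, .ofNat 2, .ofNat 0, .ofNat 0, .ofNat 0, .ofNat 0],
  [.ofNat 0, .ofNat 0, .ofNat 0, .ofNat 2, .ofNat 0, .ofNat 0, .ofNat 0, .negSucc 1, .ofNat 0, .ofNat 0, .ofNat 2, .negSucc 1, .ofNat 2, .ofNat 0, .ofNat 0, .ofNat 2, .ofNat 0, .ofNat 2, .ofNat 0, .ofNat 0, .ofNat 0, .ofNat 2, .ofNat 0, .ofNat 0],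
  [.ofNat 2, .ofNat 0, .ofNat 0, .negSucc 1, .ofNat 0, .ofNat 0, .ofNat 0, .ofNat 2, .ofNat 0, .ofNat 0, .negSucc 1, .ofNat 0, .ofNat 0, .negSucc 1, .negSucc 1, .ofNat 0, .ofNat 0, .negSucc 1, .negSucc 1, .ofNat 0, .ofNat 0, .ofNat 0, .ofNat 0, .ofNat 0],
  [.negSucc 0, .negSucc 0, .ofNat 1, .negSucc 0, .ofNat 1, .negSucc 0, .negSucc 0, .ofNat 1, .negSucc 0, .negSucc 0, .negSucc 0, .ofNat 3, .ofNat 1, .negSucc 0, .ofNat 1, .negSucc 0, .ofNat 1, .negSucc 0, .negSucc 0, .negSucc 0, .ofNat 1, .negSucc 0, .ofNat 1, .negSucc 0],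
  [.negSucc 1, .ofNat 0, .ofNat 0, .ofNat 0, .ofNat 2, .ofNat 0, .ofNat 0, .ofNat 0, .ofNat 0, .ofNat 0, .ofNat 2, .ofNat 2, .ofNat 2, .ofNat 0, .ofNat 0, .ofNat 0, .ofNat 0, .ofNat 2, .ofNat 2, .negSucc 1, .ofNat 0, .ofNat 0, .ofNat 0, .ofNat 0],
  [.ofNat 1, .ofNat 1, .negSucc 0, .negSucc 0, .negSucc 0, .ofNat 1, .ofNat 1, .ofNat 1, .ofNat 1, .ofNat 1, .negSucc 0, .negSucc 0, .negSucc 2, .ofNat 1, .negSucc 0, .negSucc 0, .negSucc 0, .negSucc 0, .ofNat 1, .ofNat 1, .negSucc 0, .negSucc 0, .negSucc 0, .ofNat 1],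
  [.ofNat 1, .negSucc 0, .ofNat 1, .ofNat 1, .negSucc 0, .negSucc 0, .negSucc 0, .negSucc 0, .negSucc 0, .negSucc 0, .negSucc 0, .negSucc 0, .ofNat 1, .negSucc 0, .ofNat 1, .ofNat 1, .ofNat 1, .negSucc 0, .negSucc 2, .ofNat 1, .ofNat 1, .ofNat 1, .ofNat 1, .negSucc 0],
  [.ofNat 3, .ofNat 1, .ofNat 1, .ofNat 1, .negSucc 0, .negSucc 0, .ofNat 1, .negSucc 0, .ofNat 1, .ofNat 1, .ofNat 1, .negSucc 0, .negSucc 0, .negSucc 0, .negSucc 0, .ofNat 1, .negSucc 0, .negSucc 0, .negSucc 0, .ofNat 1, .negSucc 0, .ofNat 1, .ofNat 1, .ofNat 1],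
  [.ofNat 0, .ofNat 0, .ofNat 2, .ofNat 2, .ofNat 0, .negSucc 1, .ofNat 0, .negSucc 1, .ofNat 0, .ofNat 0, .ofNat 2, .ofNat 2, .ofNat 0, .ofNat 0, .ofNat 2, .ofNat 0, .ofNat 0, .ofNat 0, .ofNat 0, .ofNat 0, .ofNat 0, .ofNat 0, .ofNat 2, .ofNat 0],
  [.ofNat 1, .ofNat 1, .negSucc 0, .negSucc 0, .ofNat 1, .ofNat 1, .ofNat 1, .ofNat 1, .ofNat 1, .ofNat 1, .ofNat 1, .negSucc 0, .ofNat 1, .negSucc 0, .negSucc 2, .ofNat 1, .negSucc 0, .ofNat 1, .ofNat 1, .negSucc 0, .negSucc 0, .ofNat 1, .negSucc 0, .ofNat 1],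
  [.negSucc 1, .ofNat 0, .ofNat 0, .ofNat 0, .ofNat 0, .ofNat 0, .ofNat 0, .ofNat 0, .ofNat 0, .ofNat 0, .ofNat 0, .ofNat 2, .negSucc 1, .ofNat 2, .ofNat 2, .negSucc 1, .ofNat 0, .ofNat 0, .ofNat 2, .ofNat 0, .ofNat 0, .negSucc 1, .ofNat 0, .ofNat 0],
  [.negSucc 0, .negSucc 0, .negSucc 0, .negSucc 2, .ofNat 1, .ofNat 1, .ofNat 1, .ofNat 1, .ofNat 1, .ofNat 1, .negSucc 0, .ofNat 1, .ofNat 1, .ofNat 1, .negSucc 0, .negSucc 0, .negSucc 0, .negSucc 0, .ofNat 1, .negSucc 0, .ofNat 1, .negSucc 0, .negSucc 0, .negSucc 0],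
  [.ofNat 1, .ofNat 1, .negSucc 0, .ofNat 1, .negSucc 0, .ofNat 1, .negSucc 0, .ofNat 1, .negSucc 0, .negSucc 0, .negSucc 0, .negSucc 2, .negSucc 0, .negSucc 0, .negSucc 0, .ofNat 1, .ofNat 1, .ofNat 1, .negSucc 0, .ofNat 1, .negSucc 0, .ofNat 1, .negSucc 0, .ofNat 1],
  [.ofNat 1, .negSucc 0, .ofNat 1, .negSucc 0, .ofNat 1, .negSucc 0, .ofNat 1, .negSucc 0, .ofNat 1, .ofNat 1, .ofNat 1, .ofNat 1, .ofNat 3, .negSucc 0, .negSucc 0, .ofNat 1, .negSucc 0, .negSucc 0, .negSucc 0, .negSucc 0, .ofNat 1, .ofNat 1, .ofNat 1, .negSucc 0],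
  [.ofNat 0, .ofNat 2, .ofNat 0, .ofNat 2, .ofNat 0, .ofNat 0, .ofNat 0, .ofNat 0, .ofNat 0, .ofNat 0, .ofNat 2, .ofNat 0, .negSucc 1, .ofNat 0, .ofNat 0, .ofNat 0, .ofNat 0, .ofNat 2, .ofNat 2, .ofNat 0, .negSucc 1, .ofNat 0, .ofNat 0, .ofNat 2],
  [.negSucc 0, .negSucc 0, .negSucc 0, .negSucc 0, .negSucc 0, .ofNat 1, .negSucc 0, .ofNat 1, .negSucc 0, .negSucc 0, .negSucc 2, .negSucc 0, .negSucc 0, .ofNat 1, .ofNat 1, .negSucc 0, .ofNat 1, .negSucc 0, .negSucc 0, .ofNat 1, .ofNat 1, .negSucc 0, .negSucc 0, .negSucc 0],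
  [.negSucc 1, .negSucc 1, .ofNat 0, .ofNat 0, .ofNat 0, .ofNat 0, .ofNat 0, .negSucc 1, .ofNat 0, .ofNat 0, .ofNat 0, .ofNat 0, .ofNat 2, .ofNat 2, .ofNat 2, .ofNat 0, .ofNat 0, .ofNat 0, .ofNat 0, .ofNat 0, .ofNat 2, .ofNat 0, .ofNat 0, .negSucc 1]]

/-- a base vector of the chain of stabilisers -/
def lvB3_1 : List ℤ := [.ofNat 0, .ofNat 0, .ofNat 0, .ofNat 0, .ofNat 0, .ofNat 0, .ofNat 0, .ofNat 0, .ofNat 0, .ofNat 0, .ofNat 0, .ofNat 0, .ofNat 0, .ofNat 0, .ofNat 0, .ofNat 4, .ofNat 0, .ofNat 0, .ofNat 0, .ofNat 0, .ofNat 0, .negSucc 3, .ofNat 0, .ofNat 0]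

/-- words with pairwise different images of the base vector -/
def lvW3_1 : List (List ℕ) := [[], [1, 1, 2, 3, 3, 5, 5, 6, 8], [1], [1, 1, 2, 2, 5, 6, 8], [3], [1, 3, 3, 6, 6, 7], [1, 2, 2, 5, 6, 8], [7], [1, 1, 2, 3, 3, 5, 5, 6, 8, 8], [1, 7], [1, 1, 2, 2, 5, 6, 7, 7], [3, 7, 7, 8, 8], [2, 3, 3, 5, 5, 6, 7, 8, 8], [1, 2, 2, 5, 6, 7, 7], [1, 2, 2, 5, 7, 7, 8], [1, 1, 2, 3, 3, 5, 5, 6, 7, 8, 8], [1, 1, 2, 2, 5, 7, 7, 8], [1, 6, 7, 7], [3, 7, 8], [2, 3, 3, 5, 5, 6, 8], [1, 2, 2, 5, 6, 7, 7, 8], [3, 3, 7, 8], [2, 5, 5, 6, 6, 7, 8], [1, 2, 2, 3, 5], [2, 3, 3, 5, 5, 6, 6, 7, 7, 8, 8], [1, 1, 2, 5, 5, 6, 6, 7, 8], [1, 2, 2, 3, 3, 5, 6, 6, 8, 8], [1, 1, 2, 3, 5, 5, 7, 7], [1, 3, 3, 6], [1, 1, 2, 5, 5, 6, 6], [1, 2, 2, 3, 3, 5, 6, 6, 7, 7, 8], [1, 1, 2, 2, 5, 6, 6, 7], [1, 1, 2, 3, 5, 5, 7, 8, 8], [1, 3, 3,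 6, 7, 7, 8, 8], [1, 1, 2, 5, 5, 6, 6, 7, 7, 8, 8], [1, 2, 2, 3, 3, 5, 6, 6, 7], [2, 5, 5, 6, 6, 7, 7, 8, 8], [1, 1, 2, 3, 5, 5, 8], [1, 1, 2, 2, 3, 3, 5, 6, 6, 8, 8], [1, 1, 2, 2, 3, 5, 7, 7, 8, 8], [2, 2, 3, 3, 5, 6, 6, 7, 7], [2, 2, 3, 3, 5, 6], [2, 2, 3, 5, 7, 8], [1, 2, 5, 5, 6, 6], [1, 2, 2, 3, 5, 7, 8], [2, 2, 3, 3, 5, 6, 6], [1, 2, 3, 5, 5, 8, 8], [2, 2, 3, 5, 7, 8, 8], [1, 2, 5, 5, 6, 6, 7, 7, 8, 8], [1, 2, 2, 3, 5, 7, 7, 8, 8], [2, 2, 3, 3, 5, 6, 6, 8], [1, 2, 3, 5, 5, 7, 7, 8], [2, 2, 3, 5, 8], [1, 2, 5, 5, 6, 6, 7, 8], [1, 2, 3, 5, 5, 8], [1, 1], [1, 2, 3, 3, 5, 5, 6, 8], [1, 1, 3, 7, 7], [2, 2, 5, 6, 7, 7], [1, 1, 3, 3, 7], [2, 2, 3, 5, 6, 6, 7], [2, 2, 5, 6, 7, 7, 8], [2, 2, 3, 3, 5, 6, 7, 8], [1, 1, 3, 7, 7, 8, 8], [2, 2, 5, 6, 8], [3, 3, 7, 7, 8, 8], [2, 2, 5, 7, 7, 8], [1, 1, 7], [1,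 1, 2, 2, 3, 3, 5, 6, 7, 7, 8, 8], [1, 1, 2, 2, 3, 5, 7, 8], [3, 3], [2, 3, 5, 5, 8], [2, 3, 5, 5, 8, 8], [1, 1, 2, 2, 3, 5], [2, 3, 5, 5, 7, 7, 8], [1, 3], [1, 3, 7, 7, 8, 8], [1, 3, 7, 8], [1, 1, 2, 2, 3, 3, 5, 6, 7, 8], [1, 2, 3, 3, 5, 5, 6, 7, 8, 8], [1, 2, 3, 3, 5, 5, 6, 7, 7]]

/-- the images of the base vector -/
def lvI3_1 : List (List ℤ) :=
  [[.ofNat 0, .ofNat 0, .ofNat 0, .ofNat 0, .ofNat 0, .ofNat 0, .ofNat 0, .ofNat 0, .ofNat 0, .ofNat 0, .ofNat 0, .ofNat 0, .ofNat 0, .ofNat 0, .ofNat 0, .ofNat 4, .ofNat 0, .ofNat 0, .ofNat 0, .ofNat 0, .ofNat 0, .negSucc 3, .ofNat 0, .ofNat 0],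
  [.ofNat 1, .negSucc 0, .ofNat 1, .ofNat 1, .negSucc 0, .negSucc 0, .ofNat 1, .negSucc 0, .negSucc 0, .negSucc 0, .negSucc 0, .negSucc 0, .ofNat 1, .negSucc 0, .negSucc 0, .negSucc 0, .ofNat 1, .negSucc 0, .ofNat 3, .negSucc 0, .ofNat 1, .negSucc 0, .negSucc 0, .ofNat 1],
  [.ofNat 0, .ofNat 0, .ofNat 0, .negSucc 1, .ofNat 0, .ofNat 2, .ofNat 0, .negSucc 1, .ofNat 2, .negSucc 1, .ofNat 0, .ofNat 0, .ofNat 0, .negSucc 1, .ofNat 2, .ofNat 0, .ofNat 0, .ofNat 0, .ofNat 0, .ofNat 0, .ofNat 0, .ofNat 0, .ofNat 0, .ofNat 2],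
  [.ofNat 0, .ofNat 0, .negSucc 1, .negSucc 1, .ofNat 2, .negSucc 1, .ofNat 0, .negSucc 1, .ofNat 0, .ofNat 0, .ofNat 0, .ofNat 0, .ofNat 0, .ofNat 0, .ofNat 0, .ofNat 0, .ofNat 2, .ofNat 0, .ofNat 0, .ofNat 2, .ofNat 0, .ofNat 0, .ofNat 0, .ofNat 2],
  [.negSucc 1, .ofNat 0, .negSucc 1, .ofNat 0, .ofNat 0, .ofNat 0, .ofNat 2, .negSucc 1, .ofNat 0, .ofNat 0, .negSucc 1, .ofNat 0, .ofNat 0, .negSucc 1, .ofNat 0, .ofNat 0, .ofNat 0, .ofNat 0, .ofNat 0, .ofNat 0, .negSucc 1, .ofNat 0, .ofNat 2, .ofNat 0],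
  [.ofNat 1, .ofNat 1, .negSucc 0, .ofNat 1, .ofNat 1, .ofNat 1, .ofNat 1, .negSucc 0, .negSucc 0, .negSucc 0, .negSucc 0, .ofNat 1, .negSucc 0, .ofNat 1, .negSucc 0, .ofNat 1, .negSucc 0, .ofNat 1, .negSucc 0, .negSucc 0, .ofNat 3, .negSucc 0, .ofNat 1, .ofNat 1],
  [.ofNat 1, .negSucc 0, .negSucc 0, .ofNat 1, .ofNat 3, .ofNat 1, .ofNat 1, .ofNat 1, .negSucc 0, .negSucc 0, .ofNat 1, .negSucc 0, .negSucc 0, .negSucc 0, .ofNat 1, .ofNat 1, .negSucc 0, .negSucc 0, .ofNat 1, .ofNat 1, .ofNat 1, .negSucc 0, .ofNat 1, .negSucc 0],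
  [.ofNat 1, .negSucc 0, .negSucc 0, .ofNat 1, .ofNat 1, .ofNat 1, .negSucc 0, .ofNat 1, .ofNat 1, .ofNat 1, .ofNat 1, .negSucc 0, .ofNat 1, .negSucc 0, .ofNat 1, .negSucc 2, .ofNat 1, .negSucc 0, .ofNat 1, .ofNat 1, .negSucc 0, .ofNat 1, .ofNat 1, .negSucc 0],
  [.negSucc 0, .negSucc 0, .negSucc 0, .ofNat 1, .ofNat 1, .ofNat 1, .ofNat 1, .ofNat 1, .ofNat 1, .ofNat 1, .ofNat 1, .ofNat 1, .negSucc 0, .ofNat 1, .ofNat 1, .ofNat 1, .ofNat 1, .negSucc 0, .negSucc 2, .negSucc 0, .negSucc 0, .ofNat 1, .negSucc 0, .ofNat 1],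
  [.negSucc 0, .negSucc 0, .negSucc 0, .ofNat 1, .ofNat 1, .negSucc 2, .ofNat 1, .ofNat 1, .negSucc 0, .ofNat 1, .negSucc 0, .negSucc 0, .ofNat 1, .ofNat 1, .negSucc 0, .negSucc 0, .negSucc 0, .ofNat 1, .negSucc 0, .ofNat 1, .negSucc 0, .negSucc 0, .ofNat 1, .ofNat 1],
  [.ofNat 0, .negSucc 1, .ofNat 2, .ofNat 2, .ofNat 0, .ofNat 0, .negSucc 1, .ofNat 2, .ofNat 0, .ofNat 0, .ofNat 0, .ofNat 0, .ofNat 0, .ofNat 2, .negSucc 1, .ofNat 0, .negSucc 1, .ofNat 0, .ofNat 0, .ofNat 0, .ofNat 0, .ofNat 0, .ofNat 0, .ofNat 0],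
  [.ofNat 0, .ofNat 0, .ofNat 0, .ofNat 0, .ofNat 0, .negSucc 1, .ofNat 0, .ofNat 2, .ofNat 0, .ofNat 0, .ofNat 2, .ofNat 0, .ofNat 0, .ofNat 2, .negSucc 1, .ofNat 0, .ofNat 2, .ofNat 0, .ofNat 0, .ofNat 2, .ofNat 2, .ofNat 0, .ofNat 0, .ofNat 0],
  [.ofNat 0, .negSucc 1, .ofNat 0, .ofNat 0, .ofNat 0, .ofNat 0, .ofNat 0, .ofNat 0, .ofNat 0, .ofNat 0, .ofNat 2, .ofNat 0, .ofNat 0, .negSucc 1, .ofNat 0, .ofNat 0, .ofNat 0, .ofNat 0, .ofNat 0, .ofNat 2, .negSucc 1, .negSucc 1, .negSucc 1, .negSucc 1],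
  [.ofNat 0, .ofNat 0, .ofNat 0, .ofNat 0, .negSucc 1, .ofNat 0, .ofNat 0, .ofNat 0, .ofNat 0, .ofNat 0, .ofNat 0, .ofNat 2, .ofNat 2, .ofNat 0, .ofNat 0, .negSucc 1, .ofNat 0, .ofNat 0, .ofNat 0, .ofNat 2, .negSucc 1, .ofNat 2, .negSucc 1, .ofNat 0],
  [.negSucc 0, .ofNat 1, .ofNat 1, .negSucc 0, .negSucc 0, .negSucc 0, .ofNat 1, .negSucc 0, .negSucc 0, .negSucc 0, .negSucc 0, .ofNat 1, .negSucc 0, .ofNat 1, .negSucc 0, .negSucc 0, .negSucc 0, .ofNat 1, .negSucc 0, .negSucc 0, .ofNat 1, .ofNat 3, .negSucc 0, .ofNat 1],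
  [.ofNat 0, .ofNat 2, .ofNat 0, .negSucc 1, .ofNat 0, .ofNat 0, .negSucc 1, .ofNat 0, .ofNat 0, .ofNat 0, .ofNat 0, .ofNat 0, .ofNat 0, .ofNat 0, .ofNat 0, .ofNat 0, .negSucc 1, .ofNat 2, .ofNat 0, .ofNat 2, .ofNat 0, .ofNat 0, .ofNat 2, .negSucc 1],
  [.ofNat 1, .ofNat 1, .ofNat 1, .ofNat 1, .negSucc 0, .ofNat 1, .negSucc 0, .ofNat 1, .negSucc 0, .ofNat 1, .ofNat 1, .ofNat 1, .negSucc 0, .ofNat 1, .negSucc 0, .ofNat 1, .ofNat 1, .negSucc 0, .ofNat 1, .negSucc 0, .ofNat 1, .ofNat 1, .negSucc 0, .negSucc 2],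
  [.ofNat 0, .ofNat 2, .ofNat 0, .ofNat 0, .negSucc 1, .ofNat 2, .ofNat 2, .ofNat 0, .ofNat 0, .ofNat 0, .ofNat 0, .ofNat 0, .ofNat 0, .negSucc 1, .ofNat 2, .ofNat 0, .ofNat 0, .ofNat 0, .ofNat 0, .negSucc 1, .ofNat 0, .ofNat 0, .ofNat 0, .negSucc 1],
  [.ofNat 2, .ofNat 0, .ofNat 2, .ofNat 0, .ofNat 0, .ofNat 2, .negSucc 1, .ofNat 0, .ofNat 0, .ofNat 0, .ofNat 0, .ofNat 0, .ofNat 0, .ofNat 0, .ofNat 2, .ofNat 0, .negSucc 1, .ofNat 0, .ofNat 0, .negSucc 1, .ofNat 0, .ofNat 0, .negSucc 1, .ofNat 0],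
  [.negSucc 0, .ofNat 1, .ofNat 1, .negSucc 0, .negSucc 0, .negSucc 0, .negSucc 0, .ofNat 1, .ofNat 1, .ofNat 1, .negSucc 0, .negSucc 0, .ofNat 1, .ofNat 1, .ofNat 1, .negSucc 0, .ofNat 1, .negSucc 0, .ofNat 1, .negSucc 0, .negSucc 0, .ofNat 3, .ofNat 1, .ofNat 1],
  [.negSucc 0, .ofNat 1, .ofNat 1, .negSucc 0, .negSucc 0, .negSucc 0, .negSucc 0, .negSucc 0, .ofNat 1, .ofNat 1, .negSucc 0, .negSucc 0, .negSucc 0, .ofNat 1, .negSucc 0, .ofNat 1, .ofNat 1, .ofNat 1, .negSucc 0, .negSucc 2, .ofNat 1, .negSucc 0, .ofNat 1, .ofNat 1],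
  [.ofNat 2, .negSucc 1, .ofNat 0, .negSucc 1, .negSucc 1, .ofNat 0, .ofNat 0, .ofNat 0, .negSucc 1, .ofNat 0, .ofNat 0, .ofNat 0, .ofNat 0, .ofNat 0, .ofNat 0, .ofNat 0, .ofNat 0, .ofNat 2, .ofNat 2, .ofNat 0, .ofNat 0, .ofNat 0, .ofNat 2, .ofNat 0],
  [.ofNat 0, .ofNat 2, .negSucc 1, .ofNat 0, .ofNat 0, .negSucc 1, .ofNat 2, .ofNat 0, .negSucc 1, .ofNat 2, .ofNat 0, .ofNat 0, .ofNat 0, .ofNat 0, .ofNat 0, .ofNat 0, .ofNat 2, .ofNat 0, .ofNat 0, .ofNat 0, .ofNat 0, .ofNat 0, .ofNat 0, .negSucc 1],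
  [.negSucc 0, .negSucc 0, .ofNat 1, .ofNat 1, .negSucc 0, .ofNat 3, .negSucc 0, .negSucc 0, .ofNat 1, .negSucc 0, .negSucc 0, .ofNat 1, .negSucc 0, .negSucc 0, .negSucc 0, .ofNat 1, .negSucc 0, .negSucc 0, .ofNat 1, .negSucc 0, .negSucc 0, .ofNat 1, .ofNat 1, .negSucc 0],
  [.negSucc 0, .ofNat 1, .ofNat 1, .negSucc 0, .ofNat 1, .negSucc 0, .ofNat 1, .ofNat 1, .negSucc 0, .negSucc 0, .negSucc 0, .negSucc 0, .negSucc 0, .ofNat 1, .ofNat 1, .ofNat 3, .negSucc 0, .negSucc 0, .ofNat 1, .negSucc 0, .ofNat 1, .ofNat 1, .ofNat 1, .ofNat 1],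
  [.ofNat 0, .ofNat 0, .ofNat 0, .ofNat 0, .ofNat 2, .ofNat 0, .ofNat 0, .ofNat 0, .ofNat 0, .ofNat 0, .ofNat 0, .negSucc 1, .negSucc 1, .ofNat 0, .ofNat 0, .negSucc 1, .ofNat 0, .ofNat 0, .ofNat 0, .negSucc 1, .ofNat 2, .ofNat 2, .ofNat 2, .ofNat 0],
  [.negSucc 0, .negSucc 0, .negSucc 0, .negSucc 0, .negSucc 0, .ofNat 1, .negSucc 0, .ofNat 1, .negSucc 0, .ofNat 3, .ofNat 1, .ofNat 1, .negSucc 0, .negSucc 0, .ofNat 1, .ofNat 1, .negSucc 0, .ofNat 1, .negSucc 0, .ofNat 1, .ofNat 1, .ofNat 1, .ofNat 1, .ofNat 1],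
  [.ofNat 0, .ofNat 0, .ofNat 2, .ofNat 0, .negSucc 1, .ofNat 2, .ofNat 0, .ofNat 2, .ofNat 2, .negSucc 1, .ofNat 2, .ofNat 0, .ofNat 0, .ofNat 0, .ofNat 0, .ofNat 0, .ofNat 0, .ofNat 0, .ofNat 0, .ofNat 0, .ofNat 2, .ofNat 0, .ofNat 0, .ofNat 0],
  [.ofNat 0, .ofNat 0, .ofNat 0, .ofNat 0, .ofNat 0, .ofNat 0, .ofNat 0, .ofNat 2, .ofNat 0, .ofNat 0, .ofNat 0, .ofNat 0, .ofNat 2, .ofNat 0, .ofNat 2, .ofNat 2, .ofNat 0, .negSucc 1, .ofNat 2, .ofNat 2, .negSucc 1, .ofNat 0, .ofNat 0, .ofNat 0],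
  [.ofNat 0, .ofNat 0, .ofNat 0, .ofNat 0, .ofNat 0, .ofNat 0, .ofNat 2, .ofNat 0, .negSucc 1, .negSucc 1, .ofNat 0, .ofNat 2, .ofNat 0, .ofNat 0, .ofNat 0, .ofNat 2, .negSucc 1, .ofNat 0, .ofNat 0, .ofNat 2, .ofNat 0, .ofNat 0, .negSucc 1, .ofNat 0],
  [.negSucc 0, .ofNat 3, .ofNat 1, .ofNat 1, .ofNat 1, .negSucc 0, .negSucc 0, .negSucc 0, .ofNat 1, .negSucc 0, .negSucc 0, .negSucc 0, .ofNat 1, .negSucc 0, .negSucc 0, .negSucc 0, .negSucc 0, .negSucc 0, .ofNat 1, .ofNat 1, .ofNat 1, .negSucc 0, .negSucc 0, .negSucc 0],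
  [.ofNat 1, .negSucc 0, .ofNat 1, .negSucc 0, .ofNat 1, .ofNat 1, .negSucc 2, .negSucc 0, .ofNat 1, .negSucc 0, .ofNat 1, .ofNat 1, .negSucc 0, .ofNat 1, .negSucc 0, .ofNat 1, .ofNat 1, .negSucc 0, .ofNat 1, .ofNat 1, .ofNat 1, .ofNat 1, .negSucc 0, .ofNat 1],
  [.ofNat 1, .ofNat 1, .negSucc 0, .negSucc 0, .ofNat 1, .negSucc 0, .ofNat 1, .negSucc 0, .negSucc 0, .ofNat 1, .negSucc 0, .negSucc 0, .ofNat 1, .negSucc 0, .ofNat 3, .negSucc 0, .negSucc 0, .ofNat 1, .negSucc 0, .negSucc 0, .negSucc 0, .negSucc 0, .negSucc 0, .ofNat 1],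
  [.ofNat 1, .ofNat 1, .negSucc 0, .ofNat 1, .negSucc 0, .ofNat 1, .negSucc 0, .negSucc 0, .ofNat 1, .ofNat 1, .negSucc 0, .ofNat 1, .ofNat 1, .ofNat 1, .negSucc 0, .negSucc 2, .ofNat 1, .ofNat 1, .negSucc 0, .negSucc 0, .ofNat 1, .ofNat 1, .ofNat 1, .ofNat 1],
  [.ofNat 0, .ofNat 0, .ofNat 0, .ofNat 0, .negSucc 1, .ofNat 0, .negSucc 1, .ofNat 0, .ofNat 2, .ofNat 2, .ofNat 0, .ofNat 0, .ofNat 2, .ofNat 0, .ofNat 0, .ofNat 0, .ofNat 2, .ofNat 0, .ofNat 0, .ofNat 0, .negSucc 1, .negSucc 1, .ofNat 0, .ofNat 0],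
  [.ofNat 2, .negSucc 1, .ofNat 0, .ofNat 0, .ofNat 0, .ofNat 0, .ofNat 2, .ofNat 0, .ofNat 0, .negSucc 1, .ofNat 0, .ofNat 0, .ofNat 0, .ofNat 2, .ofNat 0, .ofNat 0, .ofNat 2, .ofNat 0, .ofNat 0, .negSucc 1, .negSucc 1, .ofNat 0, .ofNat 0, .ofNat 0],
  [.negSucc 0, .negSucc 0, .ofNat 1, .ofNat 1, .negSucc 0, .ofNat 1, .ofNat 1, .ofNat 1, .ofNat 1, .negSucc 0, .negSucc 0, .negSucc 0, .ofNat 1, .negSucc 0, .ofNat 1, .negSucc 0, .negSucc 2, .ofNat 1, .negSucc 0, .negSucc 0, .negSucc 0, .negSucc 0, .ofNat 1, .ofNat 1],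
  [.negSucc 0, .negSucc 0, .negSucc 0, .ofNat 1, .ofNat 1, .negSucc 0, .negSucc 0, .negSucc 0, .negSucc 0, .ofNat 1, .negSucc 0, .ofNat 1, .negSucc 0, .ofNat 1, .negSucc 2, .ofNat 1, .ofNat 1, .negSucc 0, .ofNat 1, .ofNat 1, .negSucc 0, .ofNat 1, .ofNat 1, .negSucc 0],
  [.negSucc 0, .negSucc 0, .ofNat 1, .negSucc 0, .ofNat 1, .negSucc 0, .ofNat 1, .negSucc 0, .negSucc 0, .negSucc 0, .ofNat 1, .negSucc 0, .negSucc 2, .negSucc 0, .negSucc 0, .ofNat 1, .negSucc 0, .ofNat 1, .negSucc 0, .negSucc 0, .ofNat 1, .negSucc 0, .negSucc 0, .negSucc 0],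
  [.negSucc 0, .ofNat 1, .ofNat 1, .negSucc 0, .negSucc 0, .ofNat 1, .negSucc 0, .negSucc 0, .negSucc 2, .ofNat 1, .ofNat 1, .negSucc 0, .ofNat 1, .negSucc 0, .negSucc 0, .negSucc 0, .negSucc 0, .negSucc 0, .ofNat 1, .ofNat 1, .ofNat 1, .negSucc 0, .ofNat 1, .ofNat 1],
  [.negSucc 0, .ofNat 1, .negSucc 0, .negSucc 0, .negSucc 0, .ofNat 1, .ofNat 1, .negSucc 0, .ofNat 1, .negSucc 0, .ofNat 1, .ofNat 1, .negSucc 0, .negSucc 0, .negSucc 0, .ofNat 1, .ofNat 3, .negSucc 0, .ofNat 1, .ofNat 1, .ofNat 1, .ofNat 1, .ofNat 1, .negSucc 0],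
  [.ofNat 2, .ofNat 2, .ofNat 0, .negSucc 1, .ofNat 0, .ofNat 0, .ofNat 0, .ofNat 0, .ofNat 0, .ofNat 0, .ofNat 2, .ofNat 0, .ofNat 0, .ofNat 0, .ofNat 2, .ofNat 0, .ofNat 2, .ofNat 0, .ofNat 0, .ofNat 0, .ofNat 2, .ofNat 0, .negSucc 1, .ofNat 0],
  [.ofNat 1, .ofNat 1, .negSucc 0, .ofNat 1, .ofNat 1, .ofNat 1, .ofNat 1, .ofNat 1, .negSucc 0, .negSucc 0, .negSucc 0, .ofNat 1, .ofNat 1, .ofNat 1, .ofNat 1, .negSucc 0, .negSucc 0, .negSucc 0, .ofNat 1, .ofNat 1, .ofNat 1, .ofNat 3, .ofNat 1, .ofNat 1],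
  [.negSucc 0, .ofNat 1, .negSucc 0, .ofNat 1, .ofNat 1, .negSucc 0, .negSucc 0, .ofNat 1, .ofNat 3, .ofNat 1, .negSucc 0, .ofNat 1, .negSucc 0, .negSucc 0, .ofNat 1, .ofNat 1, .negSucc 0, .ofNat 1, .negSucc 0, .ofNat 1, .ofNat 1, .ofNat 1, .negSucc 0, .negSucc 0],
  [.ofNat 2, .ofNat 0, .ofNat 0, .ofNat 0, .ofNat 2, .negSucc 1, .negSucc 1, .ofNat 0, .negSucc 1, .ofNat 2, .ofNat 0, .ofNat 0, .ofNat 0, .ofNat 2, .ofNat 0, .ofNat 0, .ofNat 0, .ofNat 0, .ofNat 0, .ofNat 0, .ofNat 0, .ofNat 0, .negSucc 1, .ofNat 0],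
  [.ofNat 1, .negSucc 0, .ofNat 1, .negSucc 0, .ofNat 1, .negSucc 0, .negSucc 0, .ofNat 1, .ofNat 1, .negSucc 0, .ofNat 1, .negSucc 0, .ofNat 1, .ofNat 1, .ofNat 1, .negSucc 0, .negSucc 0, .ofNat 1, .negSucc 0, .ofNat 1, .ofNat 1, .negSucc 0, .negSucc 0, .ofNat 3],
  [.negSucc 1, .ofNat 0, .ofNat 2, .negSucc 1, .negSucc 1, .negSucc 1, .ofNat 0, .ofNat 0, .ofNat 0, .ofNat 0, .ofNat 0, .ofNat 0, .ofNat 0, .ofNat 0, .ofNat 0, .ofNat 2, .ofNat 0, .ofNat 0, .ofNat 0, .ofNat 0, .negSucc 1, .ofNat 0, .negSucc 1, .ofNat 0],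
  [.ofNat 0, .ofNat 0, .ofNat 0, .ofNat 0, .negSucc 1, .ofNat 0, .ofNat 0, .negSucc 1, .ofNat 0, .ofNat 0, .ofNat 0, .ofNat 2, .ofNat 0, .ofNat 0, .negSucc 1, .ofNat 0, .ofNat 0, .ofNat 2, .negSucc 1, .ofNat 0, .ofNat 0, .negSucc 1, .negSucc 1, .ofNat 0],
  [.ofNat 1, .ofNat 1, .negSucc 0, .negSucc 0, .negSucc 0, .negSucc 0, .negSucc 0, .negSucc 0, .negSucc 0, .negSucc 2, .ofNat 1, .negSucc 0, .ofNat 1, .ofNat 1, .negSucc 0, .negSucc 0, .negSucc 0, .negSucc 0, .ofNat 1, .negSucc 0, .negSucc 0, .negSucc 0, .ofNat 1, .negSucc 0],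
  [.negSucc 0, .ofNat 1, .negSucc 0, .negSucc 0, .negSucc 0, .negSucc 0, .ofNat 3, .ofNat 1, .ofNat 1, .negSucc 0, .ofNat 1, .negSucc 0, .ofNat 1, .negSucc 0, .ofNat 1, .negSucc 0, .ofNat 1, .ofNat 1, .negSucc 0, .ofNat 1, .ofNat 1, .negSucc 0, .ofNat 1, .ofNat 1],
  [.ofNat 0, .ofNat 0, .ofNat 0, .ofNat 2, .ofNat 0, .ofNat 0, .ofNat 0, .ofNat 0, .negSucc 1, .ofNat 2, .negSucc 1, .ofNat 0, .ofNat 0, .ofNat 0, .ofNat 0, .ofNat 0, .negSucc 1, .ofNat 0, .ofNat 0, .negSucc 1, .negSucc 1, .ofNat 0, .ofNat 0, .negSucc 1],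
  [.ofNat 1, .ofNat 1, .negSucc 0, .ofNat 1, .ofNat 1, .ofNat 1, .negSucc 0, .ofNat 1, .ofNat 1, .ofNat 1, .negSucc 0, .negSucc 0, .ofNat 1, .ofNat 1, .ofNat 1, .ofNat 1, .ofNat 1, .negSucc 0, .ofNat 1, .negSucc 0, .ofNat 1, .negSucc 0, .ofNat 3, .ofNat 1],
  [.negSucc 0, .negSucc 0, .ofNat 1, .negSucc 0, .ofNat 1, .negSucc 0, .negSucc 0, .ofNat 1, .ofNat 1, .ofNat 1, .ofNat 1, .negSucc 2, .negSucc 0, .negSucc 0, .ofNat 1, .ofNat 1, .ofNat 1, .negSucc 0, .ofNat 1, .negSucc 0, .negSucc 0, .negSucc 0, .ofNat 1, .negSucc 0],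
  [.ofNat 0, .negSucc 1, .ofNat 2, .ofNat 0, .ofNat 0, .ofNat 2, .ofNat 2, .ofNat 0, .negSucc 1, .ofNat 2, .ofNat 0, .ofNat 0, .ofNat 0, .ofNat 0, .ofNat 0, .ofNat 0, .ofNat 2, .ofNat 0, .ofNat 0, .ofNat 0, .ofNat 0, .ofNat 0, .ofNat 0, .ofNat 2],
  [.ofNat 1, .negSucc 0, .negSucc 0, .ofNat 1, .ofNat 1, .ofNat 1, .ofNat 1, .negSucc 0, .negSucc 0, .negSucc 0, .ofNat 1, .ofNat 1, .negSucc 0, .negSucc 0, .negSucc 0, .negSucc 2, .negSucc 0, .ofNat 1, .negSucc 0, .ofNat 1, .ofNat 1, .ofNat 1, .negSucc 0, .negSucc 0],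
  [.negSucc 1, .ofNat 2, .negSucc 1, .ofNat 0, .ofNat 0, .ofNat 0, .negSucc 1, .ofNat 0, .ofNat 0, .ofNat 0, .ofNat 2, .ofNat 0, .ofNat 0, .ofNat 0, .ofNat 0, .ofNat 0, .negSucc 1, .negSucc 1, .negSucc 1, .ofNat 0, .ofNat 0, .ofNat 0, .ofNat 0, .ofNat 0],
  [.ofNat 1, .ofNat 1, .ofNat 1, .ofNat 1, .negSucc 0, .negSucc 0, .ofNat 1, .ofNat 3, .negSucc 0, .ofNat 1, .ofNat 1, .negSucc 0, .ofNat 1, .ofNat 1, .ofNat 1, .negSucc 0, .negSucc 0, .ofNat 1, .negSucc 0, .negSucc 0, .ofNat 1, .negSucc 0, .negSucc 0, .negSucc 0],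
  [.ofNat 0, .ofNat 2, .ofNat 0, .ofNat 0, .negSucc 1, .ofNat 0, .ofNat 0, .ofNat 0, .ofNat 0, .ofNat 0, .negSucc 1, .ofNat 2, .ofNat 2, .ofNat 2, .ofNat 0, .ofNat 2, .ofNat 0, .ofNat 0, .ofNat 0, .ofNat 0, .ofNat 0, .ofNat 0, .ofNat 0, .ofNat 2],
  [.ofNat 2, .ofNat 0, .ofNat 0, .ofNat 0, .ofNat 0, .negSucc 1, .ofNat 0, .ofNat 0, .ofNat 2, .negSucc 1, .negSucc 1, .ofNat 0, .ofNat 0, .ofNat 0, .ofNat 0, .ofNat 0, .ofNat 0, .ofNat 2, .ofNat 2, .ofNat 0, .ofNat 0, .ofNat 0, .ofNat 0, .negSucc 1],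
  [.ofNat 0, .negSucc 1, .ofNat 0, .ofNat 0, .ofNat 2, .ofNat 0, .negSucc 1, .negSucc 1, .ofNat 0, .ofNat 0, .negSucc 1, .ofNat 0, .ofNat 0, .ofNat 0, .ofNat 0, .ofNat 0, .negSucc 1, .ofNat 0, .ofNat 0, .ofNat 0, .negSucc 1, .ofNat 0, .ofNat 0, .ofNat 2],
  [.ofNat 1, .negSucc 0, .negSucc 0, .ofNat 1, .ofNat 1, .ofNat 1, .negSucc 0, .negSucc 0, .ofNat 1, .ofNat 1, .ofNat 1, .negSucc 0, .negSucc 0, .negSucc 0, .negSucc 0, .negSucc 0, .ofNat 1, .ofNat 1, .negSucc 0, .negSucc 0, .ofNat 1, .negSucc 2, .ofNat 1, .negSucc 0],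
  [.ofNat 0, .negSucc 1, .negSucc 1, .ofNat 0, .negSucc 1, .ofNat 0, .ofNat 0, .ofNat 0, .negSucc 1, .ofNat 0, .ofNat 2, .ofNat 0, .ofNat 0, .ofNat 0, .ofNat 0, .ofNat 0, .ofNat 0, .negSucc 1, .ofNat 0, .negSucc 1, .ofNat 0, .ofNat 0, .ofNat 0, .ofNat 2],
  [.negSucc 1, .ofNat 0, .ofNat 0, .ofNat 2, .negSucc 1, .ofNat 0, .ofNat 2, .ofNat 2, .ofNat 0, .ofNat 0, .ofNat 0, .ofNat 0, .ofNat 0, .ofNat 0, .negSucc 1, .ofNat 0, .ofNat 0, .ofNat 0, .ofNat 0, .ofNat 0, .ofNat 0, .ofNat 0, .ofNat 2, .negSucc 1],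
  [.negSucc 0, .negSucc 0, .ofNat 1, .negSucc 0, .ofNat 1, .negSucc 0, .ofNat 1, .ofNat 1, .negSucc 0, .negSucc 0, .ofNat 1, .negSucc 0, .negSucc 0, .negSucc 0, .ofNat 1, .negSucc 0, .negSucc 0, .negSucc 0, .ofNat 1, .ofNat 1, .negSucc 0, .ofNat 3, .negSucc 0, .negSucc 0],
  [.negSucc 1, .ofNat 2, .ofNat 2, .ofNat 0, .ofNat 2, .ofNat 2, .ofNat 0, .ofNat 0, .ofNat 0, .ofNat 2, .ofNat 0, .ofNat 0, .ofNat 0, .ofNat 0, .ofNat 0, .ofNat 0, .ofNat 0, .ofNat 0, .negSucc 1, .ofNat 2, .ofNat 0, .ofNat 0, .ofNat 0, .ofNat 0],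
  [.ofNat 0, .ofNat 2, .ofNat 0, .ofNat 0, .ofNat 2, .ofNat 0, .ofNat 0, .ofNat 0, .ofNat 2, .negSucc 1, .ofNat 0, .ofNat 0, .ofNat 0, .ofNat 2, .ofNat 0, .ofNat 0, .ofNat 0, .ofNat 0, .negSucc 1, .ofNat 0, .negSucc 1, .ofNat 0, .ofNat 0, .negSucc 1],
  [.ofNat 1, .negSucc 2, .negSucc 0, .ofNat 1, .negSucc 0, .negSucc 0, .ofNat 1, .ofNat 1, .ofNat 1, .ofNat 1, .negSucc 0, .ofNat 1, .negSucc 0, .negSucc 0, .ofNat 1, .ofNat 1, .ofNat 1, .ofNat 1, .ofNat 1, .negSucc 0, .ofNat 1, .ofNat 1, .negSucc 0, .ofNat 1],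
  [.ofNat 1, .ofNat 1, .ofNat 3, .negSucc 0, .ofNat 1, .ofNat 1, .ofNat 1, .negSucc 0, .negSucc 0, .negSucc 0, .negSucc 0, .negSucc 0, .ofNat 1, .ofNat 1, .negSucc 0, .negSucc 0, .ofNat 1, .ofNat 1, .ofNat 1, .ofNat 1, .negSucc 0, .negSucc 0, .ofNat 1, .negSucc 0],
  [.ofNat 2, .ofNat 0, .negSucc 1, .ofNat 2, .ofNat 0, .ofNat 2, .ofNat 0, .ofNat 0, .ofNat 0, .ofNat 0, .ofNat 0, .ofNat 2, .ofNat 2, .ofNat 0, .ofNat 0, .ofNat 0, .ofNat 0, .ofNat 0, .ofNat 0, .ofNat 2, .ofNat 0, .negSucc 1, .ofNat 0, .ofNat 0],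
  [.ofNat 0, .ofNat 0, .ofNat 2, .ofNat 2, .ofNat 2, .ofNat 0, .ofNat 2, .ofNat 0, .ofNat 2, .ofNat 0, .negSucc 1, .ofNat 0, .ofNat 0, .ofNat 0, .ofNat 0, .ofNat 0, .ofNat 2, .ofNat 0, .ofNat 0, .ofNat 0, .ofNat 0, .ofNat 0, .negSucc 1, .ofNat 0],
  [.negSucc 1, .ofNat 0, .ofNat 0, .ofNat 2, .ofNat 0, .ofNat 0, .ofNat 0, .ofNat 0, .ofNat 0, .ofNat 2, .ofNat 0, .ofNat 0, .ofNat 0, .negSucc 1, .ofNat 0, .ofNat 0, .ofNat 0, .negSucc 1, .ofNat 0, .ofNat 0, .ofNat 2, .ofNat 0, .negSucc 1, .ofNat 2],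
  [.ofNat 1, .negSucc 0, .ofNat 1, .negSucc 0, .ofNat 1, .ofNat 1, .ofNat 1, .ofNat 1, .ofNat 1, .ofNat 1, .negSucc 0, .ofNat 1, .negSucc 0, .ofNat 1, .ofNat 1, .ofNat 1, .ofNat 1, .ofNat 3, .negSucc 0, .ofNat 1, .negSucc 0, .ofNat 1, .ofNat 1, .negSucc 0],
  [.ofNat 0, .ofNat 0, .negSucc 1, .ofNat 0, .negSucc 1, .negSucc 1, .negSucc 1, .ofNat 0, .ofNat 0, .ofNat 0, .ofNat 0, .ofNat 0, .ofNat 0, .negSucc 1, .ofNat 0, .ofNat 0, .negSucc 1, .ofNat 0, .ofNat 2, .ofNat 0, .ofNat 2, .ofNat 0, .ofNat 0, .ofNat 0],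
  [.ofNat 1, .negSucc 0, .negSucc 2, .negSucc 0, .negSucc 0, .negSucc 0, .negSucc 0, .ofNat 1, .ofNat 1, .negSucc 0, .ofNat 1, .ofNat 1, .negSucc 0, .ofNat 1, .ofNat 1, .ofNat 1, .negSucc 0, .ofNat 1, .negSucc 0, .negSucc 0, .negSucc 0, .ofNat 1, .ofNat 1, .negSucc 0],
  [.negSucc 0, .ofNat 1, .ofNat 1, .ofNat 1, .ofNat 1, .ofNat 1, .ofNat 1, .negSucc 0, .negSucc 0, .negSucc 0, .ofNat 1, .negSucc 0, .ofNat 1, .ofNat 1, .negSucc 0, .negSucc 0, .ofNat 1, .negSucc 2, .negSucc 0, .negSucc 0, .negSucc 0, .negSucc 0, .negSucc 0, .ofNat 1],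
  [.ofNat 0, .ofNat 0, .ofNat 0, .negSucc 1, .ofNat 0, .ofNat 2, .ofNat 0, .ofNat 0, .negSucc 1, .ofNat 0, .ofNat 2, .ofNat 0, .ofNat 0, .ofNat 2, .ofNat 0, .ofNat 0, .ofNat 0, .ofNat 0, .negSucc 1, .ofNat 0, .negSucc 1, .ofNat 0, .ofNat 2, .ofNat 0],
  [.ofNat 0, .ofNat 0, .ofNat 2, .ofNat 0, .ofNat 0, .ofNat 0, .ofNat 0, .ofNat 0, .ofNat 0, .ofNat 2, .negSucc 1, .ofNat 0, .ofNat 0, .negSucc 1, .ofNat 0, .ofNat 0, .ofNat 0, .ofNat 2, .ofNat 2, .ofNat 2, .ofNat 2, .ofNat 0, .ofNat 0, .ofNat 0],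
  [.ofNat 0, .ofNat 0, .negSucc 1, .ofNat 2, .ofNat 0, .negSucc 1, .ofNat 0, .ofNat 0, .ofNat 2, .negSucc 1, .ofNat 0, .ofNat 0, .ofNat 0, .ofNat 0, .ofNat 0, .ofNat 0, .ofNat 0, .negSucc 1, .ofNat 0, .negSucc 1, .ofNat 0, .ofNat 0, .negSucc 1, .ofNat 0],
  [.negSucc 0, .negSucc 0, .ofNat 1, .negSucc 0, .negSucc 0, .negSucc 0, .negSucc 0, .negSucc 0, .ofNat 1, .ofNat 1, .ofNat 1, .negSucc 0, .negSucc 0, .negSucc 0, .negSucc 0, .negSucc 2, .ofNat 1, .ofNat 1, .negSucc 0, .negSucc 0, .negSucc 0, .ofNat 1, .negSucc 0, .negSucc 0],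
  [.negSucc 1, .negSucc 1, .ofNat 0, .ofNat 0, .ofNat 0, .ofNat 0, .ofNat 0, .ofNat 0, .ofNat 2, .negSucc 1, .ofNat 0, .ofNat 0, .ofNat 0, .ofNat 0, .negSucc 1, .ofNat 0, .ofNat 0, .ofNat 0, .ofNat 0, .ofNat 2, .ofNat 0, .ofNat 0, .ofNat 2, .ofNat 2],
  [.ofNat 1, .ofNat 1, .negSucc 0, .negSucc 0, .ofNat 1, .ofNat 1, .negSucc 0, .negSucc 2, .negSucc 0, .ofNat 1, .negSucc 0, .ofNat 1, .negSucc 0, .negSucc 0, .ofNat 1, .ofNat 1, .ofNat 1, .negSucc 0, .ofNat 1, .negSucc 0, .negSucc 0, .ofNat 1, .negSucc 0, .negSucc 0]]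

/-- a base vector of the chain of stabilisers -/
def lvB3_2 : List ℤ := [.negSucc 1, .ofNat 0, .negSucc 1, .ofNat 0, .ofNat 0, .ofNat 2, .ofNat 0, .ofNat 0, .ofNat 0, .ofNat 0, .ofNat 0, .negSucc 1, .ofNat 0, .ofNat 2, .ofNat 0, .ofNat 0, .ofNat 0, .ofNat 2, .ofNat 2, .ofNat 0, .ofNat 0, .ofNat 0, .negSucc 1, .ofNat 0]

/-- words with pairwise different images of the base vector -/
def lvW3_2 : List (List ℕ) := [[], [1, 1, 2, 5, 5, 7, 8, 8], [1, 2, 2, 5, 7, 7, 8, 8]]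

/-- the images of the base vector -/
def lvI3_2 : List (List ℤ) :=
  [[.negSucc 1, .ofNat 0, .negSucc 1, .ofNat 0, .ofNat 0, .ofNat 2, .ofNat 0, .ofNat 0, .ofNat 0, .ofNat 0, .ofNat 0, .negSucc 1, .ofNat 0, .ofNat 2, .ofNat 0, .ofNat 0, .ofNat 0, .ofNat 2, .ofNat 2, .ofNat 0, .ofNat 0, .ofNat 0, .negSucc 1, .ofNat 0],
  [.ofNat 0, .ofNat 0, .ofNat 0, .ofNat 2, .ofNat 0, .ofNat 0, .ofNat 0, .negSucc 1, .ofNat 0, .ofNat 0, .ofNat 2, .negSucc 1, .ofNat 2, .ofNat 0, .ofNat 0, .ofNat 2, .ofNat 0, .ofNat 2, .ofNat 0, .ofNat 0, .ofNat 0, .ofNat 2, .ofNat 0, .ofNat 0],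
  [.negSucc 1, .negSucc 1, .ofNat 0, .ofNat 0, .ofNat 0, .ofNat 0, .ofNat 0, .negSucc 1, .ofNat 0, .ofNat 0, .ofNat 0, .ofNat 0, .ofNat 2, .ofNat 2, .ofNat 2, .ofNat 0, .ofNat 0, .ofNat 0, .ofNat 0, .ofNat 0, .ofNat 2, .ofNat 0, .ofNat 0, .negSucc 1]]

/-- a base vector of the chain of stabilisers -/
def lvB3_3 : List ℤ := [.ofNat 1, .negSucc 0, .ofNat 1, .ofNat 1, .negSucc 0, .negSucc 0, .ofNat 1, .negSucc 0, .negSucc 0, .negSucc 0, .negSucc 0, .negSucc 0, .ofNat 1, .negSucc 0, .negSucc 0, .negSucc 0, .ofNat 1, .negSucc 0, .ofNat 3, .negSucc 0, .ofNat 1, .negSucc 0, .negSucc 0, .ofNat 1]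

/-- words with pairwise different images of the base vector -/
def lvW3_3 : List (List ℕ) := [[], [7, 8, 8], [7, 7, 8]]

/-- the images of the base vector -/
def lvI3_3 : List (List ℤ) :=
  [[.ofNat 1, .negSucc 0, .ofNat 1, .ofNat 1, .negSucc 0, .negSucc 0, .ofNat 1, .negSucc 0, .negSucc 0, .negSucc 0, .negSucc 0, .negSucc 0, .ofNat 1, .negSucc 0, .negSucc 0, .negSucc 0, .ofNat 1, .negSucc 0, .ofNat 3, .negSucc 0, .ofNat 1, .negSucc 0, .negSucc 0, .ofNat 1],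
  [.negSucc 0, .negSucc 0, .negSucc 0, .ofNat 1, .ofNat 1, .ofNat 1, .ofNat 1, .ofNat 1, .ofNat 1, .ofNat 1, .ofNat 1, .ofNat 1, .negSucc 0, .ofNat 1, .ofNat 1, .ofNat 1, .ofNat 1, .negSucc 0, .negSucc 2, .negSucc 0, .negSucc 0, .ofNat 1, .negSucc 0, .ofNat 1],
  [.ofNat 0, .ofNat 2, .ofNat 0, .negSucc 1, .ofNat 0, .ofNat 0, .negSucc 1, .ofNat 0, .ofNat 0, .ofNat 0, .ofNat 0, .ofNat 0, .ofNat 0, .ofNat 0, .ofNat 0, .ofNat 0, .negSucc 1, .ofNat 2, .ofNat 0, .ofNat 2, .ofNat 0, .ofNat 0, .ofNat 2, .negSucc 1]]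

/-- a chain of stabilisers: base vectors with words with pairwise different images -/
def levels3 : List (List ℤ × List (List ℕ)) :=
  [(lvB3_0, lvW3_0), (lvB3_1, lvW3_1), (lvB3_2, lvW3_2), (lvB3_3, lvW3_3)]

end Cfsg.Agent.Lib.Helper26.C1M
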