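import Mathlib

set_option autoImplicit false
set_option maxRecDepth 1000000

/-!
# Project C1M: the tables of counts of the forms for the prime 3 (generated)
-/

namespace Cfsg.Agent.Lib.Helper26.C1M

/-- the tables of counts of a part of the forms of the consistency checks -/
def zvC3_0 : List (List (List ℕ)) := [[[0, 3, 3, 0, 0, 0, 0, 0, 2], [0, 0, 3, 0, 4, 4, 2, 0, 4], [0, 0, 3, 1, 8, 9, 8, 6, 8], [0, 0, 0, 0, 4, 4, 0, 0, 4], [0, 0, 0, 0, 0, 2, 10, 2, 9], [0, 0, 0, 0, 0, 3, 33, 19, 34], [0, 0, 0, 0, 0, 0, 9, 10, 48], [0, 0, 0, 0, 0, 0, 0, 13, 74], [0, 0, 0, 0, 0, 0, 0, 0, 21]], [[0, 3, 0, 3, 0, 0, 0, 1], [0, 0, 0, 3, 4, 4, 2, 2, 4], [0, 0, 0, 4, 8, 8, 8, 4, 4], [0, 0, 0, 0, 4, 5, 6, 2, 6],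 [0, 0, 0, 0, 0, 2, 22, 18, 16], [0, 0, 0, 0, 0, 3, 18, 18, 10], [0, 0, 0, 0, 0, 0, 11, 48, 41], [0, 0, 0, 0, 0, 0, 0, 15, 41], [0, 0, 0, 0, 0, 0, 0, 0, 30]], [[0, 3, 0, 0, 3, 0, 2, 0, 1], [0, 0, 0, 0, 3, 4, 4, 2], [0, 0, 0, 0, 4, 8, 6, 4, 2], [0, 0, 0, 0, 2, 4, 0, 2, 2], [0, 0, 0, 0, 0, 1, 2, 0, 2], [0, 0, 0, 0, 0, 3, 26, 14, 14], [0, 0, 0, 0, 0, 0, 8, 13, 13], [0, 0, 0, 0, 0, 0, 0, 13, 30], [0, 0, 0, 0, 0, 0, 0, 0, 11]], [[0, 3, 0, 0, 0, 3, 0, 2], [0, 0, 0, 0, 0, 3, 0, 4, 4], [0, 0, 0, 0, 0, 4, 0, 2, 4], [0, 0, 0, 0, 0, 2, 0, 4, 4], [], [0, 0, 0, 0, 0, 0, 2, 2, 4], [0, 0, 0, 0, 0, 0, 0, 4, 4], [0, 0, 0, 0, 0, 0, 0, 7, 13], [0, 0, 0, 0, 0, 0, 0, 0, 12]], [[0, 3, 0, 0, 0, 0, 3], [0, 0, 0, 0,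 0, 0, 3, 2, 2], [0, 0, 0, 0, 0, 0, 4, 4, 4], [0, 0, 0, 0, 0, 0, 2, 2, 2], [], [0, 0, 0, 0, 0, 0, 2, 2, 2], [0, 0, 0, 0, 0, 0, 3, 4, 6], [0, 0, 0, 0, 0, 0, 0, 0, 4], [0, 0, 0, 0, 0, 0, 0, 0, 9]], [[0, 3, 0, 0, 0, 0, 0, 3, 2], [0, 0, 0, 0, 0, 0, 0, 3, 2], [0, 0, 0, 0, 0, 0, 0, 4, 4], [0, 0, 0, 0, 0, 0, 0, 2, 2], [], [0, 0, 0, 0, 0, 0, 0, 2], [0, 0, 0, 0, 0, 0, 0, 4], [0, 0, 0, 0, 0, 0, 0, 0, 2], [0, 0, 0, 0, 0, 0, 0, 0, 7]], [[0, 3, 0, 0, 0, 0, 0, 0, 3], [0, 0, 0, 0, 0, 0, 0, 0, 3], [0, 0, 0, 0, 0, 0, 0, 0, 4], [0, 0, 0, 0, 0, 0, 0, 0, 2], [], [0, 0, 0, 0, 0, 0, 0, 0, 2], [0, 0, 0, 0, 0, 0, 0, 0, 4], [], [0, 0, 0, 0, 0, 0, 0, 0, 3]], [[0, 0, 3, 3, 0, 0, 1, 1], [], [0, 0, 0, 3, 4, 4, 2, 2, 4],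 [0, 0, 0, 0, 2, 2, 1, 0, 2], [0, 0, 0, 0, 3, 12, 11, 5, 10], [0, 0, 0, 0, 0, 3, 8, 5, 23], [0, 0, 0, 0, 0, 0, 3, 10, 17], [0, 0, 0, 0, 0, 0, 0, 7, 19], [0, 0, 0, 0, 0, 0, 0, 0, 23]], [[0, 0, 3, 0, 3, 0, 1], [], [0, 0, 0, 0, 3, 4, 4, 2], [], [0, 0, 0, 0, 3, 10, 1, 8, 6], [0, 0, 0, 0, 0, 3, 6, 12, 18], [0, 0, 0, 0, 0, 0, 3, 9, 9], [0, 0, 0, 0, 0, 0, 0, 2, 12], [0, 0, 0, 0, 0, 0, 0, 0, 11]], [[0, 0, 3, 0, 0, 3, 0, 2], [], [0, 0, 0, 0, 0, 3, 0, 4, 4], [], [0, 0, 0, 0, 0, 4, 0, 4, 4], [0, 0, 0, 0, 0, 3, 1, 4, 6], [0, 0, 0, 0, 0, 0, 0, 2, 2], [0, 0, 0, 0, 0, 0, 0, 3, 19], [0, 0, 0, 0, 0, 0, 0, 0, 10]], [[0, 0, 3, 0, 0, 0, 3], [], [0, 0, 0, 0, 0, 0, 3, 2, 2], [], [0, 0, 0, 0, 0, 0, 4, 4, 4], [0, 0,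 0, 0, 0, 0, 4, 4, 4], [0, 0, 0, 0, 0, 0, 0, 2, 4], [0, 0, 0, 0, 0, 0, 0, 0, 10], [0, 0, 0, 0, 0, 0, 0, 0, 7]], [[0, 0, 3, 0, 0, 0, 0, 3, 2], [], [0, 0, 0, 0, 0, 0, 0, 3, 2], [], [0, 0, 0, 0, 0, 0, 0, 4], [0, 0, 0, 0, 0, 0, 0, 4], [0, 0, 0, 0, 0, 0, 0, 2], [0, 0, 0, 0, 0, 0, 0, 0, 2], [0, 0, 0, 0, 0, 0, 0, 0, 3]], [[0, 0, 3, 0, 0, 0, 0, 0, 3], [], [0, 0, 0, 0, 0, 0, 0, 0, 3], [], [0, 0, 0, 0, 0, 0, 0, 0, 4], [0, 0, 0, 0, 0, 0, 0, 0, 4], [0, 0, 0, 0, 0, 0, 0, 0, 2], [], [0, 0, 0, 0, 0, 0, 0, 0, 3]], [[0, 0, 0, 3, 3, 0, 1, 1, 1], [], [], [0, 0, 0, 0, 3, 4, 4, 2], [0, 0, 0, 0, 3, 10, 1, 1, 8], [0, 0, 0, 0, 0, 3, 6, 4, 20], [0, 0, 0, 0, 0, 0, 3, 12, 9], [0, 0, 0, 0, 0, 0, 0, 5, 20], [0, 0, 0, 0,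 0, 0, 0, 0, 13]], [[0, 0, 0, 3, 0, 3, 0, 2, 1], [], [], [0, 0, 0, 0, 0, 3, 0, 4, 4], [0, 0, 0, 0, 0, 4, 0, 4, 2], [0, 0, 0, 0, 0, 3, 1, 5, 10], [0, 0, 0, 0, 0, 0, 0, 2, 4], [0, 0, 0, 0, 0, 0, 0, 3, 21], [0, 0, 0, 0, 0, 0, 0, 0, 10]], [[0, 0, 0, 3, 0, 0, 3, 0, 1], [], [], [0, 0, 0, 0, 0, 0, 3, 2, 2], [0, 0, 0, 0, 0, 0, 4, 4, 2], [0, 0, 0, 0, 0, 0, 4, 4, 8], [0, 0, 0, 0, 0, 0, 0, 3, 6], [0, 0, 0, 0, 0, 0, 0, 0, 16], [0, 0, 0, 0, 0, 0, 0, 0, 7]], [[0, 0, 0, 3, 0, 0, 0, 3, 2], [], [], [0, 0, 0, 0, 0, 0, 0, 3, 2], [0, 0, 0, 0, 0, 0, 0, 4], [0, 0, 0, 0, 0, 0, 0, 4], [0, 0, 0, 0, 0, 0, 0, 2], [0, 0, 0, 0, 0, 0, 0, 0, 2], [0, 0, 0, 0, 0, 0, 0, 0, 3]], [[0, 0, 0, 3, 0, 0, 0, 0, 3], [], [], [0, 0, 0,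 0, 0, 0, 0, 0, 3], [0, 0, 0, 0, 0, 0, 0, 0, 4], [0, 0, 0, 0, 0, 0, 0, 0, 4], [0, 0, 0, 0, 0, 0, 0, 0, 2], [0, 0, 0, 0, 0, 0, 0, 0, 2], [0, 0, 0, 0, 0, 0, 0, 0, 3]], [[0, 0, 0, 0, 3, 3, 0, 0, 2], [], [], [], [0, 0, 0, 0, 0, 3, 0, 4, 4], [0, 0, 0, 0, 0, 3, 2, 9, 4], [0, 0, 0, 0, 0, 0, 0, 8, 4], [0, 0, 0, 0, 0, 0, 0, 3, 10], [0, 0, 0, 0, 0, 0, 0, 0, 3]], [[0, 0, 0, 0, 3, 0, 3, 0, 2], [], [], [], [0, 0, 0, 0, 0, 0, 3, 2, 2], [0, 0, 0, 0, 0, 0, 4, 4], [0, 0, 0, 0, 0, 0, 3, 5], [0, 0, 0, 0, 0, 0, 0, 0, 4], [0, 0, 0, 0, 0, 0, 0, 0, 3]], [[0, 0, 0, 0, 3, 0, 0, 3], [], [], [], [0, 0, 0, 0, 0, 0, 0, 3, 2], [0, 0, 0, 0, 0, 0, 0, 4, 4], [0, 0, 0, 0, 0, 0, 0, 4, 4], [0, 0, 0, 0, 0, 0, 0, 0, 2]], [[], [0,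 0, 3, 3, 0, 0, 1, 1], [0, 0, 0, 3, 0, 0, 0, 2], [0, 0, 0, 0, 0, 0, 0, 0, 2], [], [], [0, 0, 0, 0, 0, 0, 0, 1, 2], [0, 0, 0, 0, 0, 0, 0, 0, 4], [0, 0, 0, 0, 0, 0, 0, 0, 3]], [[], [0, 0, 3, 0, 3, 0, 1], [0, 0, 0, 0, 3, 0, 4, 0, 2], [], [0, 0, 0, 0, 0, 0, 0, 0, 2], [], [0, 0, 0, 0, 0, 0, 3, 0, 4], [], [0, 0, 0, 0, 0, 0, 0, 0, 3]], [[], [0, 0, 3, 0, 0, 3, 0, 2], [0, 0, 0, 0, 0, 3, 0, 4], [], [], [0, 0, 0, 0, 0, 0, 0, 0, 2], [], [0, 0, 0, 0, 0, 0, 0, 3, 11], [0, 0, 0, 0, 0, 0, 0, 0, 6]], [[], [0, 0, 3, 0, 0, 0, 0, 3, 2], [0, 0, 0, 0, 0, 0, 0, 3, 4], [], [], [], [], [0, 0, 0, 0, 0, 0, 0, 0, 2], [0, 0, 0, 0, 0, 0, 0, 0, 6]], [[], [0, 0, 0, 3, 0, 3, 0, 2, 1], [], [0, 0, 0, 0, 0, 3, 0, 4], [], [0, 0,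 0, 0, 0, 0, 0, 1], [], [0, 0, 0, 0, 0, 0, 0, 3, 8], [0, 0, 0, 0, 0, 0, 0, 0, 3]], [[], [0, 0, 0, 3, 0, 0, 3, 0, 1], [], [0, 0, 0, 0, 0, 0, 3], [], [], [0, 0, 0, 0, 0, 0, 0, 1], [0, 0, 0, 0, 0, 0, 0, 0, 2]], [[0, 6], [0, 3, 6, 6, 0, 6, 4, 4, 6], [0, 0, 4, 12, 0, 12, 8, 8, 6], [0, 0, 0, 2, 0, 6, 8, 10, 14], [], [0, 0, 0, 0, 0, 2, 24, 32, 18], [0, 0, 0, 0, 0, 0, 8, 18, 18], [0, 0, 0, 0, 0, 0, 0, 22, 48], [0, 0, 0, 0, 0, 0, 0, 0, 28]], [[3, 3, 3, 3, 0, 3, 2, 2, 3], [], [0, 0, 2, 3, 2, 2, 5, 0, 6], [0, 0, 0, 1, 4, 4, 4, 1, 4], [0, 0, 0, 0, 4, 12, 10, 13, 19], [0, 0, 0, 0, 0, 5, 13, 17, 23], [0, 0, 0, 0, 0, 0, 7, 18, 14], [0, 0, 0, 0, 0, 0, 0, 10, 43], [0, 0, 0, 0, 0, 0, 0, 0, 29]], [[3, 0, 3, 0,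 3, 4, 1, 1, 4], [], [], [], [0, 0, 0, 0, 2, 5, 2, 1, 6], [0, 0, 0, 0, 0, 4, 8, 6, 18], [0, 0, 0, 0, 0, 0, 3, 2, 14], [0, 0, 0, 0, 0, 0, 0, 4, 17], [0, 0, 0, 0, 0, 0, 0, 0, 10]], [[0, 0, 0, 0, 6], [], [], [], [0, 0, 0, 0, 3, 6, 6, 6, 4], [0, 0, 0, 0, 0, 4, 12, 12, 12], [0, 0, 0, 0, 0, 0, 4, 12, 14], [0, 0, 0, 0, 0, 0, 0, 2, 12], [0, 0, 0, 0, 0, 0, 0, 0, 8]]]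

/-- the tables of counts of the forms of the consistency checks -/
def zvC3 : List (List (List (List ℕ))) := [zvC3_0]

/-- the tables of counts of a part of the forms of the fusion -/
def zvR3_0 : List (List (List ℕ)) := [[[], [0, 2, 6, 0, 0, 0, 0, 0, 2], [0, 0, 5, 0, 0, 0, 0, 0, 8], [], [], [], [], [], [0, 0, 0, 0, 0, 0, 0, 0, 4]], [[], [0, 4, 0, 0, 0, 0, 12, 12, 4], [], [], [], [], [0, 0, 0, 0, 0, 0, 4, 12, 16], [0, 0, 0, 0, 0, 0, 0, 3, 16], [0, 0, 0, 0, 0, 0, 0, 0, 10]], [[1], [], [0, 0, 4, 12, 12, 12, 8, 16, 12], [0, 0, 0, 2, 6, 6, 8, 12], [0, 0, 0, 0, 4, 12, 30, 22, 24], [0, 0, 0, 0, 0, 2, 12, 24, 28], [0, 0, 0, 0, 0, 0, 14, 30, 58], [0, 0, 0, 0, 0, 0, 0, 22, 86], [0, 0, 0, 0, 0, 0, 0,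 0, 56]], [[1, 3, 2, 1, 0, 1, 2], [0, 3, 10, 8, 6, 8, 10, 6, 10], [0, 0, 4, 12, 8, 11, 8, 10, 11], [0, 0, 0, 5, 13, 13, 13, 18, 26], [0, 0, 0, 0, 6, 18, 34, 46, 40], [0, 0, 0, 0, 0, 7, 63, 63, 63], [0, 0, 0, 0, 0, 0, 20, 62, 97], [0, 0, 0, 0, 0, 0, 0, 38, 169], [0, 0, 0, 0, 0, 0, 0, 0, 88]], [[1, 3, 2, 1, 0, 1, 2, 1], [0, 1, 4, 2, 0, 5, 4, 4, 5], [0, 0, 2, 6, 2, 5, 2, 4, 7], [0, 0, 0, 5, 13, 13, 15, 14, 10], [0, 0, 0, 0, 6, 18, 16, 26, 28], [0, 0, 0, 0, 0, 8, 42, 48, 40], [0, 0, 0, 0, 0, 0, 10, 27, 42], [0, 0, 0, 0, 0, 0, 0, 26, 116], [0, 0, 0, 0, 0, 0, 0, 0, 61]], [[], [0, 3, 0, 4, 0, 4, 4, 5, 4], [], [0, 0, 0, 0, 0, 0, 4, 5, 4], [], [0, 0, 0, 0, 0, 0, 4, 9, 8], [0, 0, 0, 0, 0, 0, 0, 1, 1],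 [0, 0, 0, 0, 0, 0, 0, 4, 19], [0, 0, 0, 0, 0, 0, 0, 0, 7]], [[], [0, 0, 5, 0, 0, 0, 4, 5], [0, 0, 0, 0, 0, 0, 2, 2, 8], [], [], [], [0, 0, 0, 0, 0, 0, 3, 5, 9], [0, 0, 0, 0, 0, 0, 0, 0, 7], [0, 0, 0, 0, 0, 0, 0, 0, 7]], [[0, 0, 0, 0, 0, 2, 2], [], [0, 0, 3, 4, 8, 4, 10, 8, 6], [0, 0, 0, 0, 0, 0, 1], [0, 0, 0, 0, 0, 0, 14, 8, 9], [0, 0, 0, 0, 0, 0, 1, 4, 2], [0, 0, 0, 0, 0, 0, 7, 16, 24], [0, 0, 0, 0, 0, 0, 0, 6, 28], [0, 0, 0, 0, 0, 0, 0, 0, 18]]]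

/-- the tables of counts of the forms of the fusion -/
def zvR3 : List (List (List (List ℕ))) := [zvR3_0]

end Cfsg.Agent.Lib.Helper26.C1M
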