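import Cfsg.Agent.Lib.Helper26.C1M.Front2
import Cfsg.Agent.Lib.Helper26.C1M.P3Data
import Cfsg.Agent.Lib.Helper26.C1M.P3ZV

set_option autoImplicit false
set_option maxRecDepth 1000000

/-!
# Project C1M: checks of the certificate for the prime 3, part 0 (generated)
-/

namespace Cfsg.Agent.Lib.Helper26.C1M

open Cfsg Cfsg.Agent.Lib.Helper26.Co1O Cfsg.Agent.Lib.Helper5.PcT Cfsg.Agent.Lib.Helper5.PcP

theorem data3_ok : dataOK 9 sqL3 cmL3 = true := by decide +kernel

theorem levels3_prod : chainProdZ levels3 = 3 ^ 9 := by decide +kernel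

theorem relflat3 : mkRel 3 (pwL3.map Prod.fst) [] (cmEL3.map Prod.fst) [] = relC3.flatten := by
  decide +kernel

theorem zc3_0 : (conC3_0.filterMap (conForm 3 (PcD.ofLists 9 sqL3 cmL3) 400)).map vecOf = zvC3_0 := by
  decide +kernel

theorem zr3_0 : (relC3_0.filterMap (relForm 3 (PcD.ofLists 9 sqL3 cmL3) 400)).map vecOf = zvR3_0 := by
  decide +kernel

theorem crow3_0 : certRowV 3 (PcD.ofLists 9 sqL3 cmL3) CC3 (zvC3.flatten ++ zvR3.flatten) certs3 0 = true := by
  decide +kernel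

theorem crow3_1 : certRowV 3 (PcD.ofLists 9 sqL3 cmL3) CC3 (zvC3.flatten ++ zvR3.flatten) certs3 1 = true := by
  decide +kernel

theorem crow3_2 : certRowV 3 (PcD.ofLists 9 sqL3 cmL3) CC3 (zvC3.flatten ++ zvR3.flatten) certs3 2 = true := by
  decide +kernel

theorem crow3_3 : certRowV 3 (PcD.ofLists 9 sqL3 cmL3) CC3 (zvC3.flatten ++ zvR3.flatten) certs3 3 = true := by
  decide +kernel

theorem crow3_4 : certRowV 3 (PcD.ofLists 9 sqL3 cmL3) CC3 (zvC3.flatten ++ zvR3.flatten) certs3 4 = true := by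
  decide +kernel

theorem crow3_5 : certRowV 3 (PcD.ofLists 9 sqL3 cmL3) CC3 (zvC3.flatten ++ zvR3.flatten) certs3 5 = true := by
  decide +kernel

theorem crow3_6 : certRowV 3 (PcD.ofLists 9 sqL3 cmL3) CC3 (zvC3.flatten ++ zvR3.flatten) certs3 6 = true := by
  decide +kernel

theorem crow3_7 : certRowV 3 (PcD.ofLists 9 sqL3 cmL3) CC3 (zvC3.flatten ++ zvR3.flatten) certs3 7 = true := by
  decide +kernel

theorem crow3_8 : certRowV 3 (PcD.ofLists 9 sqL3 cmL3) CC3 (zvC3.flatten ++ zvR3.flatten) certs3 8 = true := by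
  decide +kernel

end Cfsg.Agent.Lib.Helper26.C1M
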