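import Cfsg.Agent.Lib.Helper26.C1M.C1m3g0
import Cfsg.Agent.Lib.Helper26.C1M.C1m3g1
import Cfsg.Agent.Lib.Helper26.C1M.C1m3g2
import Cfsg.Agent.Lib.Helper26.C1M.C1m3g3
import Cfsg.Agent.Lib.Helper26.C1M.C1m3g4
import Cfsg.Agent.Lib.Helper26.C1M.C1m3g5
import Cfsg.Agent.Lib.Helper26.C1M.C1m3g6
import Cfsg.Agent.Lib.Helper26.C1M.C1m3g7
import Cfsg.Agent.Lib.Helper26.C1M.C1m3g8
import Cfsg.Agent.Lib.Helper26.C1M.C1m3h0
import Cfsg.Agent.Lib.Helper26.C1M.C1m3h1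
import Cfsg.Agent.Lib.Helper26.C1M.P3Data

set_option autoImplicit false

/-!
# Project C1M: the lists of matrix elements for the prime 3 (generated)
-/

namespace Cfsg.Agent.Lib.Helper26.C1M

open Cfsg Cfsg.Agent.Lib.Helper26.Co1O

/-- the matrices of the polycyclic generators -/
def gM3 : List (List (List ℤ)) := [c1m3g0Z, c1m3g1Z, c1m3g2Z, c1m3g3Z, c1m3g4Z, c1m3g5Z, c1m3g6Z, c1m3g7Z, c1m3g8Z]

/-- the polycyclic generators -/
def gE3 : List ↥Co0 := [c1m3g0E, c1m3g1E, c1m3g2E, c1m3g3E, c1m3g4E, c1m3g5E, c1m3g6E, c1m3g7E, c1m3g8E]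

/-- the matrices of the conjugating elements -/
def hM3 : List (List (List ℤ)) := [c1m3h0Z, c1m3h1Z]

/-- the conjugating elements -/
def hE3 : List ↥Co0 := [c1m3h0E, c1m3h1E]

theorem gRep3 : RepL gM3 gE3 :=
  (List.Forall₂.cons c1m3g0_rep (List.Forall₂.cons c1m3g1_rep (List.Forall₂.cons c1m3g2_rep (List.Forall₂.cons c1m3g3_rep (List.Forall₂.cons c1m3g4_rep (List.Forall₂.cons c1m3g5_rep (List.Forall₂.cons c1m3g6_rep (List.Forall₂.cons c1m3g7_rep (List.Forall₂.cons c1m3g8_rep List.Forall₂.nil)))))))))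

theorem hRep3 : RepL hM3 hE3 :=
  (List.Forall₂.cons c1m3h0_rep (List.Forall₂.cons c1m3h1_rep List.Forall₂.nil))

end Cfsg.Agent.Lib.Helper26.C1M
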