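import Cfsg.Agent.Lib.Helper26.C1M.Front2
import Cfsg.Agent.Lib.Helper26.C1M.P3List

set_option autoImplicit false
set_option maxRecDepth 1000000

/-!
# Project C1M: checks with matrices for the prime 3, part 1 (generated)
-/

namespace Cfsg.Agent.Lib.Helper26.C1M

open Cfsg Cfsg.Agent.Lib.Helper26.Co1O Cfsg.Agent.Lib.Helper5.PcT Cfsg.Agent.Lib.Helper5.PcP

theorem r3_3_5 : relPair 3 gM3 sqL3 cmL3 3 5 = true := by decide +kernel

theorem r3_3_6 : relPair 3 gM3 sqL3 cmL3 3 6 = true := by decide +kernel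

theorem r3_3_7 : relPair 3 gM3 sqL3 cmL3 3 7 = true := by decide +kernel

theorem r3_3_8 : relPair 3 gM3 sqL3 cmL3 3 8 = true := by decide +kernel

theorem r3_4_4 : relPair 3 gM3 sqL3 cmL3 4 4 = true := by decide +kernel

theorem r3_4_5 : relPair 3 gM3 sqL3 cmL3 4 5 = true := by decide +kernel

theorem r3_4_6 : relPair 3 gM3 sqL3 cmL3 4 6 = true := by decide +kernel

theorem r3_4_7 : relPair 3 gM3 sqL3 cmL3 4 7 = true := by decide +kernel

theorem r3_4_8 : relPair 3 gM3 sqL3 cmL3 4 8 = true := by decide +kernel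

theorem r3_5_5 : relPair 3 gM3 sqL3 cmL3 5 5 = true := by decide +kernel

theorem r3_5_6 : relPair 3 gM3 sqL3 cmL3 5 6 = true := by decide +kernel

theorem r3_5_7 : relPair 3 gM3 sqL3 cmL3 5 7 = true := by decide +kernel

theorem r3_5_8 : relPair 3 gM3 sqL3 cmL3 5 8 = true := by decide +kernel

theorem r3_6_6 : relPair 3 gM3 sqL3 cmL3 6 6 = true := by decide +kernel

theorem r3_6_7 : relPair 3 gM3 sqL3 cmL3 6 7 = true := by decide +kernel

theorem r3_6_8 : relPair 3 gM3 sqL3 cmL3 6 8 = true := by decide +kernel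

theorem r3_7_7 : relPair 3 gM3 sqL3 cmL3 7 7 = true := by decide +kernel

theorem r3_7_8 : relPair 3 gM3 sqL3 cmL3 7 8 = true := by decide +kernel

theorem r3_8_8 : relPair 3 gM3 sqL3 cmL3 8 8 = true := by decide +kernel

theorem pwc3_0_0 : pwOneC 3 gM3 hM3 pwE3_0 0 = true := by decide +kernel

theorem pwc3_0_1 : pwOneC 3 gM3 hM3 pwE3_0 1 = true := by decide +kernel

theorem pwc3_1_0 : pwOneC 3 gM3 hM3 pwE3_1 0 = true := by decide +kernel

theorem pwc3_1_1 : pwOneC 3 gM3 hM3 pwE3_1 1 = true := by decide +kernel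

theorem pwc3_2_0 : pwOneC 3 gM3 hM3 pwE3_2 0 = true := by decide +kernel

theorem pwc3_2_1 : pwOneC 3 gM3 hM3 pwE3_2 1 = true := by decide +kernel

theorem pwc3_3_0 : pwOneC 3 gM3 hM3 pwE3_3 0 = true := by decide +kernel

theorem pwc3_3_1 : pwOneC 3 gM3 hM3 pwE3_3 1 = true := by decide +kernel

theorem pwc3_4_0 : pwOneC 3 gM3 hM3 pwE3_4 0 = true := by decide +kernel

end Cfsg.Agent.Lib.Helper26.C1M
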