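import Cfsg.Agent.Lib.Helper26.C1M.Front2
import Cfsg.Agent.Lib.Helper26.C1M.P3List

set_option autoImplicit false
set_option maxRecDepth 1000000

/-!
# Project C1M: checks with matrices for the prime 3, part 2 (generated)
-/

namespace Cfsg.Agent.Lib.Helper26.C1M

open Cfsg Cfsg.Agent.Lib.Helper26.Co1O Cfsg.Agent.Lib.Helper5.PcT Cfsg.Agent.Lib.Helper5.PcP

theorem pwc3_4_1 : pwOneC 3 gM3 hM3 pwE3_4 1 = true := by decide +kernel

theorem cmc3_0_0 : cmOneC gM3 hM3 cmE3_0 0 = true := by decide +kernel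

theorem cmc3_0_1 : cmOneC gM3 hM3 cmE3_0 1 = true := by decide +kernel

theorem cmc3_0_2 : cmOneC gM3 hM3 cmE3_0 2 = true := by decide +kernel

theorem cmc3_1_0 : cmOneC gM3 hM3 cmE3_1 0 = true := by decide +kernel

theorem cmc3_1_1 : cmOneC gM3 hM3 cmE3_1 1 = true := by decide +kernel

theorem cmc3_1_2 : cmOneC gM3 hM3 cmE3_1 2 = true := by decide +kernel

theorem cmc3_2_0 : cmOneC gM3 hM3 cmE3_2 0 = true := by decide +kernel

theorem cmc3_2_1 : cmOneC gM3 hM3 cmE3_2 1 = true := by decide +kernel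

theorem cmc3_2_2 : cmOneC gM3 hM3 cmE3_2 2 = true := by decide +kernel

theorem lvb3_0 : baseOK lvB3_0 = true := by decide +kernel

theorem lvf3_0 : fixChk gM3 [] lvW3_0 = true := by decide +kernel

theorem lvi3_0 : imgsOf gM3 lvB3_0 lvW3_0 = lvI3_0 := by decide +kernel

theorem lvn3_0 : lvI3_0.Nodup := by decide +kernel

theorem lvb3_1 : baseOK lvB3_1 = true := by decide +kernel

theorem lvf3_1 : fixChk gM3 [lvB3_0] lvW3_1 = true := by decide +kernel

theorem lvi3_1 : imgsOf gM3 lvB3_1 lvW3_1 = lvI3_1 := by decide +kernel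

theorem lvn3_1 : lvI3_1.Nodup := by decide +kernel

theorem lvb3_2 : baseOK lvB3_2 = true := by decide +kernel

theorem lvf3_2 : fixChk gM3 [lvB3_1, lvB3_0] lvW3_2 = true := by decide +kernel

theorem lvi3_2 : imgsOf gM3 lvB3_2 lvW3_2 = lvI3_2 := by decide +kernel

theorem lvn3_2 : lvI3_2.Nodup := by decide +kernel

theorem lvb3_3 : baseOK lvB3_3 = true := by decide +kernel

theorem lvf3_3 : fixChk gM3 [lvB3_2, lvB3_1, lvB3_0] lvW3_3 = true := by decide +kernel

theorem lvi3_3 : imgsOf gM3 lvB3_3 lvW3_3 = lvI3_3 := by decide +kernel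

theorem lvn3_3 : lvI3_3.Nodup := by decide +kernel

end Cfsg.Agent.Lib.Helper26.C1M
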