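import Cfsg.Agent.Lib.Helper26.C1M.P3K0
import Cfsg.Agent.Lib.Helper26.C1M.P3K1
import Cfsg.Agent.Lib.Helper26.C1M.P3K2
import Cfsg.Agent.Lib.Helper26.C1M.P3C0

set_option autoImplicit false
set_option maxRecDepth 1000000

/-!
# Project C1M: no stem extension of `Co0` has a kernel of order 3 (generated)
-/

namespace Cfsg.Agent.Lib.Helper26.C1M

open Cfsg Cfsg.Agent.Lib.Helper26.Co1O Cfsg.Agent.Lib.Helper5.PcT Cfsg.Agent.Lib.Helper5.PcP

theorem rrow3_0 : relRow 3 gM3 9 sqL3 cmL3 0 = true :=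
  relRow_of_pairs 3 gM3 9 sqL3 cmL3 0 (by
    intro j h1 h2
    interval_cases j
    · exact r3_0_0
    · exact r3_0_1
    · exact r3_0_2
    · exact r3_0_3
    · exact r3_0_4
    · exact r3_0_5
    · exact r3_0_6
    · exact r3_0_7
    · exact r3_0_8) (by norm_num)

theorem rrow3_1 : relRow 3 gM3 9 sqL3 cmL3 1 = true :=
  relRow_of_pairs 3 gM3 9 sqL3 cmL3 1 (by
    intro j h1 h2
    interval_cases j
    · exact r3_1_1
    · exact r3_1_2
    · exact r3_1_3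
    · exact r3_1_4
    · exact r3_1_5
    · exact r3_1_6
    · exact r3_1_7
    · exact r3_1_8) (by norm_num)

theorem rrow3_2 : relRow 3 gM3 9 sqL3 cmL3 2 = true :=
  relRow_of_pairs 3 gM3 9 sqL3 cmL3 2 (by
    intro j h1 h2
    interval_cases j
    · exact r3_2_2
    · exact r3_2_3
    · exact r3_2_4
    · exact r3_2_5
    · exact r3_2_6
    · exact r3_2_7
    · exact r3_2_8) (by norm_num)

theorem rrow3_3 : relRow 3 gM3 9 sqL3 cmL3 3 = true :=
  relRow_of_pairs 3 gM3 9 sqL3 cmL3 3 (by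
    intro j h1 h2
    interval_cases j
    · exact r3_3_3
    · exact r3_3_4
    · exact r3_3_5
    · exact r3_3_6
    · exact r3_3_7
    · exact r3_3_8) (by norm_num)

theorem rrow3_4 : relRow 3 gM3 9 sqL3 cmL3 4 = true :=
  relRow_of_pairs 3 gM3 9 sqL3 cmL3 4 (by
    intro j h1 h2
    interval_cases j
    · exact r3_4_4
    · exact r3_4_5
    · exact r3_4_6
    · exact r3_4_7
    · exact r3_4_8) (by norm_num)

theorem rrow3_5 : relRow 3 gM3 9 sqL3 cmL3 5 = true :=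
  relRow_of_pairs 3 gM3 9 sqL3 cmL3 5 (by
    intro j h1 h2
    interval_cases j
    · exact r3_5_5
    · exact r3_5_6
    · exact r3_5_7
    · exact r3_5_8) (by norm_num)

theorem rrow3_6 : relRow 3 gM3 9 sqL3 cmL3 6 = true :=
  relRow_of_pairs 3 gM3 9 sqL3 cmL3 6 (by
    intro j h1 h2
    interval_cases j
    · exact r3_6_6
    · exact r3_6_7
    · exact r3_6_8) (by norm_num)

theorem rrow3_7 : relRow 3 gM3 9 sqL3 cmL3 7 = true :=
  relRow_of_pairs 3 gM3 9 sqL3 cmL3 7 (by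
    intro j h1 h2
    interval_cases j
    · exact r3_7_7
    · exact r3_7_8) (by norm_num)

theorem rrow3_8 : relRow 3 gM3 9 sqL3 cmL3 8 = true :=
  relRow_of_pairs 3 gM3 9 sqL3 cmL3 8 (by
    intro j h1 h2
    interval_cases j
    · exact r3_8_8) (by norm_num)

theorem rels3_all : ∀ i, i < 9 → relRow 3 gM3 9 sqL3 cmL3 i = true := by
  intro i hi
  interval_cases i
  · exact rrow3_0
  · exact rrow3_1
  · exact rrow3_2
  · exact rrow3_3
  · exact rrow3_4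
  · exact rrow3_5
  · exact rrow3_6
  · exact rrow3_7
  · exact rrow3_8

theorem pw3_ok : pwChkZ 3 gM3 hM3 pwL3 = true :=
  pwChkZ_of_all 3 gM3 hM3 pwL3
    (allCons (pwOne_of_parts _ _ _ _ pwc3_0_0 pwc3_0_1)
    (allCons (pwOne_of_parts _ _ _ _ pwc3_1_0 pwc3_1_1)
    (allCons (pwOne_of_parts _ _ _ _ pwc3_2_0 pwc3_2_1)
    (allCons (pwOne_of_parts _ _ _ _ pwc3_3_0 pwc3_3_1)
    (allCons (pwOne_of_parts _ _ _ _ pwc3_4_0 pwc3_4_1)
    allNil)))))

theorem cm3_ok : cmChkZ gM3 hM3 cmEL3 = true :=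
  cmChkZ_of_all gM3 hM3 cmEL3
    (allCons (cmOne_of_parts _ _ _ cmc3_0_0 cmc3_0_1 cmc3_0_2)
    (allCons (cmOne_of_parts _ _ _ cmc3_1_0 cmc3_1_1 cmc3_1_2)
    (allCons (cmOne_of_parts _ _ _ cmc3_2_0 cmc3_2_1 cmc3_2_2)
    allNil)))

theorem levels3_ok : chainChkZ gM3 [] levels3 = true :=
  (chainChkZ_cons gM3 [] lvB3_0 lvW3_0 _ lvI3_0 lvb3_0 lvf3_0 lvi3_0 lvn3_0
    (chainChkZ_cons gM3 [lvB3_0] lvB3_1 lvW3_1 _ lvI3_1 lvb3_1 lvf3_1 lvi3_1 lvn3_1
    (chainChkZ_cons gM3 [lvB3_1, lvB3_0] lvB3_2 lvW3_2 _ lvI3_2 lvb3_2 lvf3_2 lvi3_2 lvn3_2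
    (chainChkZ_cons gM3 [lvB3_2, lvB3_1, lvB3_0] lvB3_3 lvW3_3 _ lvI3_3 lvb3_3 lvf3_3 lvi3_3 lvn3_3
    (chainChkZ_nil gM3 _)))))

theorem cert3_ok : certOKP 3 (PcD.ofLists 9 sqL3 cmL3) CC3
    (zformsP 3 (PcD.ofLists 9 sqL3 cmL3) 400 conL3
      (mkRel 3 (pwL3.map Prod.fst) [] (cmEL3.map Prod.fst) [])) certs3 = true :=
  certOKP_of_pieces 3 (PcD.ofLists 9 sqL3 cmL3) 400 CC3 conC3 zvC3 relC3 zvR3 certs3
    (List.Forall₂.cons zc3_0 List.Forall₂.nil)
    (List.Forall₂.cons zr3_0 List.Forall₂.nil)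
    _ relflat3 (by
      intro i hi
      change i < 9 at hi
      interval_cases i
      · exact crow3_0
      · exact crow3_1
      · exact crow3_2
      · exact crow3_3
      · exact crow3_4
      · exact crow3_5
      · exact crow3_6
      · exact crow3_7
      · exact crow3_8)

/-- no finite stem extension of `Co0` has a kernel of order 3 -/
theorem co0_no_stem_3 {Γ : Type*} [Group Γ] [Finite Γ] (σ : Γ →* ↥Co0) (hσ : Cfsg.IsStemExtension σ) :
    Nat.card σ.ker ≠ 3 :=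
  co0_stem_card_ne 3 Nat.prime_three gM3 hM3 gE3 hE3 gRep3 hRep3 9 sqL3 cmL3 data3_ok (by decide)
    rels3_all 400 conL3 pwL3 cmEL3 CC3 certs3 cert3_ok pw3_ok cm3_ok levels3 levels3_ok
    levels3_prod (by norm_num) σ hσ

end Cfsg.Agent.Lib.Helper26.C1M
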