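import Mathlib

set_option autoImplicit false
set_option maxRecDepth 1000000

/-!
# Project C1M: the certificate for the prime 5 (generated)
-/

namespace Cfsg.Agent.Lib.Helper26.C1M

/-- the powers of the polycyclic generators -/
def sqL5 : List (List ℕ) := [[], [], [], []]

/-- the commutators of the polycyclic generators -/
def cmL5 : List (List (List ℕ)) := [[[], [2], [], []], [[], [], [3, 3, 3, 3], []], [[], [], [], []], [[], [], [], []]]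

/-- a part of the consistency checks used -/
def conC5_0 : List (List ℕ × List ℕ) := [([2], [1, 0]), ([3], [1, 0]), ([1, 1, 1, 1], [1, 0]), ([1], [0, 0, 0, 0, 0])]

/-- the parts of the consistency checks used -/
def conC5 : List (List (List ℕ × List ℕ)) := [conC5_0]

/-- the consistency checks used -/
def conL5 : List (List ℕ × List ℕ) := conC5.flatten

/-- a pair of conjugate elements of prime order, with the index of a conjugating element -/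
def pwE5_0 : (List ℕ × List ℕ) × ℕ := (([2], [0, 0, 1, 1, 1, 1, 2, 3]), 0)

/-- a pair of conjugate elements of prime order, with the index of a conjugating element -/
def pwE5_1 : (List ℕ × List ℕ) × ℕ := (([0], [0, 0, 0, 0, 2, 2, 2, 2, 3, 3, 3]), 1)

/-- pairs of conjugate elements of prime order, with the index of a conjugating element -/
def pwL5 : List ((List ℕ × List ℕ) × ℕ) := [pwE5_0, pwE5_1]

/-- a pair of simultaneously conjugate commuting pairs, with the index of a conjugating element -/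
def cmE5_0 : (List ℕ × List ℕ × List ℕ × List ℕ) × ℕ := (([2], [3], [0, 0, 1, 1, 1, 1, 2, 3], [3]), 0)

/-- a pair of simultaneously conjugate commuting pairs, with the index of a conjugating element -/
def cmE5_1 : (List ℕ × List ℕ × List ℕ × List ℕ) × ℕ := (([0], [2], [0, 0, 0, 0, 2, 2, 2, 2, 3, 3, 3], [2, 2, 2, 3, 3, 3, 3]), 1)

/-- pairs of simultaneously conjugate commuting pairs, with the index of a conjugating element -/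
def cmEL5 : List ((List ℕ × List ℕ × List ℕ × List ℕ) × ℕ) := [cmE5_0, cmE5_1]

/-- a part of the quadruples of words of the fusion -/
def relC5_0 : List (List ℕ × List ℕ × List ℕ × List ℕ) := [([2, 2, 2, 2, 2], [], [0, 0, 1, 1, 1, 1, 2, 3, 0, 0, 1, 1, 1, 1, 2, 3, 0, 0, 1, 1, 1, 1, 2, 3, 0, 0, 1, 1, 1, 1, 2, 3, 0, 0, 1, 1, 1, 1, 2, 3], []), ([0, 0, 0, 0, 0], [], [0, 0, 0, 0, 2, 2, 2, 2, 3, 3, 3, 0, 0, 0, 0, 2, 2, 2, 2, 3, 3, 3, 0, 0, 0, 0, 2, 2, 2, 2, 3, 3, 3, 0, 0, 0, 0, 2, 2, 2, 2, 3, 3, 3, 0, 0, 0, 0, 2, 2, 2, 2, 3, 3, 3], []), ([2, 3], [3, 2], [0, 0, 1, 1, 1, 1, 2, 3, 3], [3, 0, 0, 1, 1, 1, 1, 2, 3]), ([0, 2], [2, 0], [0, 0, 0, 0, 2, 2, 2, 2, 3, 3, 3, 2, 2, 2, 3, 3, 3, 3], [2, 2, 2, 3, 3, 3, 3, 0, 0, 0, 0, 2, 2, 2, 2, 3, 3, 3])]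

/-- the parts of the quadruples of words of the fusion -/
def relC5 : List (List (List ℕ × List ℕ × List ℕ × List ℕ)) := [relC5_0]

/-- the forms of the correcting exponents -/
def CC5 : List (List (ℕ × ℕ)) := [[], [], [(0, 1)], [(1, 2), (1, 2), (1, 2), (1, 2)]]

/-- the certificates -/
def certs5 : List (List ℕ) := [[2, 2, 2, 3, 5, 5], [], [0, 0, 0, 0, 1, 1, 7, 7, 7, 7], [0, 1], [], [1, 2, 2, 2, 2, 3, 4, 4, 4, 4, 5, 5, 5, 5], [], [0, 0, 1, 1, 6], [], [], [3, 3, 3, 3], [1], [], [], [], [2, 2, 3, 3]]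

/-- a base vector of the chain of stabilisers -/
def lvB5_0 : List ℤ := [.negSucc 1, .ofNat 0, .negSucc 1, .ofNat 0, .negSucc 1, .ofNat 0, .ofNat 2, .negSucc 1, .ofNat 0, .negSucc 1, .ofNat 0, .ofNat 0, .ofNat 0, .ofNat 0, .ofNat 0, .negSucc 1, .ofNat 2, .ofNat 0, .ofNat 0, .ofNat 0, .ofNat 0, .ofNat 0, .ofNat 0, .ofNat 0]

/-- words with pairwise different images of the base vector -/
def lvW5_0 : List (List ℕ) := [[], [0], [0, 0], [0, 0, 0], [0, 0, 0, 0]]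

/-- the images of the base vector -/
def lvI5_0 : List (List ℤ) :=
  [[.negSucc 1, .ofNat 0, .negSucc 1, .ofNat 0, .negSucc 1, .ofNat 0, .ofNat 2, .negSucc 1, .ofNat 0, .negSucc 1, .ofNat 0, .ofNat 0, .ofNat 0, .ofNat 0, .ofNat 0, .negSucc 1, .ofNat 2, .ofNat 0, .ofNat 0, .ofNat 0, .ofNat 0, .ofNat 0, .ofNat 0, .ofNat 0],
  [.negSucc 0, .negSucc 0, .ofNat 1, .negSucc 0, .ofNat 1, .negSucc 0, .negSucc 0, .ofNat 1, .negSucc 0, .ofNat 1, .ofNat 1, .negSucc 0, .negSucc 0, .ofNat 3, .ofNat 1, .ofNat 1, .ofNat 1, .ofNat 1, .negSucc 0, .ofNat 1, .ofNat 1, .negSucc 0, .negSucc 0, .ofNat 1],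
  [.ofNat 1, .negSucc 0, .ofNat 1, .negSucc 0, .ofNat 1, .negSucc 0, .ofNat 1, .negSucc 0, .ofNat 1, .ofNat 1, .ofNat 1, .ofNat 1, .ofNat 3, .negSucc 0, .negSucc 0, .ofNat 1, .negSucc 0, .negSucc 0, .negSucc 0, .negSucc 0, .ofNat 1, .ofNat 1, .ofNat 1, .negSucc 0],
  [.ofNat 0, .ofNat 0, .ofNat 0, .ofNat 2, .ofNat 0, .ofNat 2, .negSucc 1, .ofNat 0, .ofNat 0, .ofNat 0, .negSucc 1, .ofNat 0, .ofNat 0, .ofNat 0, .ofNat 2, .ofNat 0, .negSucc 1, .ofNat 0, .ofNat 2, .ofNat 0, .ofNat 0, .ofNat 0, .ofNat 0, .negSucc 1],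
  [.ofNat 2, .ofNat 2, .ofNat 0, .ofNat 0, .ofNat 0, .ofNat 0, .ofNat 0, .ofNat 2, .ofNat 0, .ofNat 0, .ofNat 0, .ofNat 0, .negSucc 1, .negSucc 1, .negSucc 1, .ofNat 0, .ofNat 0, .ofNat 0, .ofNat 0, .ofNat 0, .negSucc 1, .ofNat 0, .ofNat 0, .ofNat 2]]

/-- a base vector of the chain of stabilisers -/
def lvB5_1 : List ℤ := [.negSucc 1, .ofNat 2, .ofNat 2, .ofNat 2, .negSucc 1, .ofNat 0, .ofNat 0, .ofNat 2, .ofNat 0, .ofNat 0, .ofNat 2, .ofNat 0, .ofNat 2, .ofNat 0, .ofNat 0, .ofNat 0, .ofNat 0, .ofNat 0, .ofNat 0, .ofNat 0, .ofNat 0, .ofNat 0, .ofNat 0, .ofNat 0]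

/-- words with pairwise different images of the base vector -/
def lvW5_1 : List (List ℕ) := [[], [0, 0, 0, 1, 2, 2, 2], [2], [2, 2], [0, 0, 0, 1], [2, 2, 2], [2, 2, 2, 2], [0, 0, 0, 1, 2, 2], [0, 0, 0, 1, 2], [0, 1, 1, 3, 3], [0, 0, 0, 1, 2, 2, 2, 2], [0, 1, 1, 2, 2, 3, 3], [0, 0, 0, 0, 1, 1, 1, 2, 2, 2, 2], [0, 1, 1, 2, 2, 2], [0, 0, 0, 0, 1, 1, 1, 2], [0, 1, 1, 2, 3, 3], [0, 0, 0, 0, 1, 1, 1, 2, 2, 2], [0, 1, 1, 2, 2, 2, 3, 3], [0, 0, 0, 0, 1, 1, 1, 2, 2, 2, 2, 3, 3, 3], [0, 0, 1, 1, 1, 1, 3, 3, 3], [0, 0, 0, 0, 1, 1, 1, 2, 2], [0, 0, 1, 1, 1, 1, 2, 2, 2, 2, 3, 3], [0, 0, 1, 1, 1, 1, 2, 2, 3, 3, 3, 3], [0, 0, 1, 1, 1, 1, 2, 3, 3, 3], [0, 0, 1, 1, 1, 1, 2, 2, 3]]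

/-- the images of the base vector -/
def lvI5_1 : List (List ℤ) :=
  [[.negSucc 1, .ofNat 2, .ofNat 2, .ofNat 2, .negSucc 1, .ofNat 0, .ofNat 0, .ofNat 2, .ofNat 0, .ofNat 0, .ofNat 2, .ofNat 0, .ofNat 2, .ofNat 0, .ofNat 0, .ofNat 0, .ofNat 0, .ofNat 0, .ofNat 0, .ofNat 0, .ofNat 0, .ofNat 0, .ofNat 0, .ofNat 0],
  [.ofNat 0, .ofNat 0, .ofNat 0, .ofNat 0, .ofNat 0, .ofNat 0, .ofNat 0, .ofNat 0, .negSucc 1, .ofNat 2, .ofNat 0, .ofNat 0, .ofNat 0, .ofNat 2, .negSucc 1, .negSucc 1, .ofNat 0, .negSucc 1, .ofNat 2, .ofNat 0, .ofNat 0, .ofNat 0, .ofNat 2, .ofNat 0],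
  [.ofNat 2, .ofNat 0, .ofNat 0, .negSucc 1, .ofNat 0, .ofNat 2, .ofNat 2, .ofNat 0, .ofNat 0, .ofNat 0, .ofNat 0, .ofNat 2, .ofNat 0, .ofNat 2, .ofNat 2, .ofNat 0, .ofNat 0, .ofNat 0, .ofNat 0, .ofNat 0, .negSucc 1, .ofNat 0, .ofNat 0, .ofNat 0],
  [.ofNat 0, .negSucc 1, .negSucc 1, .ofNat 0, .ofNat 0, .ofNat 0, .ofNat 0, .ofNat 0, .ofNat 0, .ofNat 2, .ofNat 0, .negSucc 1, .ofNat 0, .negSucc 1, .ofNat 0, .ofNat 2, .ofNat 2, .ofNat 0, .ofNat 2, .ofNat 0, .ofNat 0, .ofNat 0, .ofNat 0, .ofNat 0],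
  [.ofNat 1, .ofNat 1, .ofNat 1, .ofNat 1, .ofNat 1, .ofNat 1, .ofNat 1, .negSucc 0, .ofNat 1, .negSucc 0, .ofNat 1, .negSucc 0, .negSucc 0, .negSucc 0, .ofNat 1, .ofNat 1, .ofNat 1, .negSucc 0, .negSucc 0, .ofNat 1, .ofNat 1, .negSucc 2, .ofNat 1, .negSucc 0],
  [.ofNat 1, .ofNat 1, .negSucc 0, .ofNat 1, .ofNat 1, .negSucc 2, .negSucc 0, .negSucc 0, .ofNat 1, .negSucc 0, .negSucc 0, .negSucc 0, .negSucc 0, .ofNat 1, .ofNat 1, .negSucc 0, .negSucc 0, .negSucc 0, .negSucc 0, .negSucc 0, .ofNat 1, .ofNat 1, .ofNat 1, .ofNat 1],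
  [.negSucc 0, .negSucc 0, .ofNat 1, .negSucc 0, .ofNat 1, .ofNat 1, .negSucc 0, .negSucc 0, .negSucc 0, .negSucc 0, .negSucc 0, .ofNat 1, .negSucc 0, .negSucc 0, .negSucc 2, .negSucc 0, .negSucc 0, .ofNat 1, .negSucc 0, .ofNat 1, .ofNat 1, .negSucc 0, .negSucc 0, .negSucc 0],
  [.negSucc 0, .negSucc 0, .ofNat 1, .ofNat 1, .ofNat 1, .ofNat 1, .negSucc 0, .negSucc 0, .ofNat 1, .ofNat 1, .ofNat 1, .ofNat 1, .negSucc 0, .negSucc 0, .ofNat 1, .negSucc 0, .ofNat 1, .ofNat 1, .negSucc 0, .negSucc 0, .negSucc 0, .ofNat 3, .negSucc 0, .ofNat 1],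
  [.negSucc 0, .ofNat 1, .negSucc 0, .negSucc 0, .negSucc 0, .negSucc 0, .ofNat 1, .ofNat 1, .negSucc 0, .ofNat 1, .negSucc 2, .ofNat 1, .ofNat 1, .negSucc 0, .ofNat 1, .ofNat 1, .negSucc 0, .ofNat 1, .negSucc 0, .negSucc 0, .ofNat 1, .negSucc 0, .negSucc 0, .ofNat 1],
  [.negSucc 0, .negSucc 0, .ofNat 1, .negSucc 0, .ofNat 1, .negSucc 0, .negSucc 0, .ofNat 1, .ofNat 1, .negSucc 0, .negSucc 0, .ofNat 1, .ofNat 1, .negSucc 0, .ofNat 1, .negSucc 0, .ofNat 1, .ofNat 1, .ofNat 1, .ofNat 1, .negSucc 0, .negSucc 0, .ofNat 3, .ofNat 1],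
  [.ofNat 1, .negSucc 0, .negSucc 0, .negSucc 0, .negSucc 0, .negSucc 0, .negSucc 0, .ofNat 1, .ofNat 1, .negSucc 2, .ofNat 1, .negSucc 0, .ofNat 1, .ofNat 1, .negSucc 0, .ofNat 1, .negSucc 0, .ofNat 1, .ofNat 1, .ofNat 1, .negSucc 0, .ofNat 1, .negSucc 0, .negSucc 0],
  [.negSucc 0, .negSucc 0, .negSucc 0, .ofNat 1, .negSucc 0, .ofNat 1, .ofNat 1, .negSucc 0, .ofNat 1, .ofNat 1, .ofNat 1, .negSucc 0, .negSucc 0, .ofNat 1, .negSucc 0, .ofNat 1, .negSucc 2, .ofNat 1, .negSucc 0, .negSucc 0, .negSucc 0, .negSucc 0, .ofNat 1, .ofNat 1],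
  [.ofNat 1, .negSucc 0, .ofNat 1, .negSucc 0, .negSucc 0, .negSucc 0, .ofNat 1, .ofNat 1, .ofNat 1, .ofNat 1, .ofNat 1, .negSucc 0, .negSucc 0, .negSucc 0, .ofNat 1, .negSucc 2, .negSucc 0, .ofNat 1, .ofNat 1, .negSucc 0, .ofNat 1, .negSucc 0, .negSucc 0, .negSucc 0],
  [.ofNat 2, .ofNat 0, .ofNat 0, .ofNat 0, .negSucc 1, .ofNat 0, .negSucc 1, .ofNat 0, .negSucc 1, .ofNat 0, .ofNat 0, .ofNat 0, .ofNat 0, .ofNat 0, .ofNat 0, .ofNat 0, .ofNat 2, .ofNat 0, .negSucc 1, .negSucc 1, .ofNat 0, .ofNat 0, .ofNat 0, .negSucc 1],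
  [.negSucc 0, .ofNat 1, .negSucc 0, .negSucc 0, .negSucc 0, .negSucc 0, .negSucc 0, .negSucc 0, .negSucc 0, .ofNat 1, .ofNat 1, .ofNat 1, .negSucc 0, .negSucc 0, .ofNat 1, .ofNat 1, .negSucc 0, .negSucc 0, .negSucc 0, .ofNat 3, .negSucc 0, .ofNat 1, .ofNat 1, .negSucc 0],
  [.ofNat 0, .ofNat 2, .negSucc 1, .ofNat 0, .ofNat 2, .ofNat 0, .ofNat 0, .ofNat 0, .ofNat 0, .ofNat 0, .ofNat 2, .ofNat 2, .ofNat 0, .ofNat 0, .ofNat 0, .ofNat 0, .ofNat 0, .ofNat 0, .ofNat 2, .ofNat 0, .ofNat 2, .ofNat 0, .negSucc 1, .ofNat 0],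
  [.ofNat 0, .ofNat 0, .ofNat 2, .ofNat 0, .ofNat 0, .ofNat 0, .ofNat 0, .negSucc 1, .negSucc 1, .negSucc 1, .ofNat 0, .ofNat 0, .ofNat 0, .ofNat 0, .ofNat 0, .ofNat 2, .ofNat 0, .ofNat 0, .ofNat 2, .negSucc 1, .ofNat 0, .ofNat 0, .ofNat 0, .ofNat 2],
  [.ofNat 0, .ofNat 0, .ofNat 2, .ofNat 0, .ofNat 0, .ofNat 0, .ofNat 2, .ofNat 0, .ofNat 0, .ofNat 0, .negSucc 1, .negSucc 1, .ofNat 0, .ofNat 0, .ofNat 0, .ofNat 0, .ofNat 0, .negSucc 1, .ofNat 0, .ofNat 2, .ofNat 0, .ofNat 2, .negSucc 1, .ofNat 0],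
  [.ofNat 1, .ofNat 1, .negSucc 0, .ofNat 1, .ofNat 1, .ofNat 1, .negSucc 0, .negSucc 0, .ofNat 1, .ofNat 1, .negSucc 0, .negSucc 0, .ofNat 3, .ofNat 1, .negSucc 0, .negSucc 0, .ofNat 1, .ofNat 1, .negSucc 0, .ofNat 1, .negSucc 0, .negSucc 0, .negSucc 0, .ofNat 1],
  [.ofNat 2, .negSucc 1, .ofNat 0, .ofNat 2, .negSucc 1, .ofNat 0, .ofNat 0, .ofNat 0, .ofNat 0, .ofNat 0, .ofNat 0, .ofNat 2, .ofNat 0, .ofNat 0, .ofNat 0, .ofNat 0, .ofNat 0, .ofNat 0, .ofNat 0, .ofNat 2, .ofNat 2, .ofNat 0, .ofNat 0, .ofNat 2],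
  [.negSucc 0, .negSucc 0, .negSucc 0, .ofNat 1, .ofNat 1, .ofNat 1, .ofNat 1, .ofNat 3, .ofNat 1, .negSucc 0, .negSucc 0, .ofNat 1, .negSucc 0, .ofNat 1, .negSucc 0, .ofNat 1, .ofNat 1, .negSucc 0, .negSucc 0, .negSucc 0, .ofNat 1, .ofNat 1, .ofNat 1, .negSucc 0],
  [.ofNat 0, .ofNat 0, .ofNat 0, .ofNat 2, .ofNat 2, .negSucc 1, .ofNat 2, .ofNat 0, .negSucc 1, .ofNat 0, .ofNat 0, .ofNat 0, .ofNat 0, .ofNat 0, .ofNat 0, .ofNat 0, .ofNat 0, .ofNat 2, .ofNat 0, .ofNat 0, .negSucc 1, .ofNat 0, .ofNat 0, .negSucc 1],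
  [.ofNat 0, .ofNat 2, .ofNat 0, .negSucc 1, .ofNat 0, .ofNat 2, .ofNat 0, .ofNat 0, .ofNat 0, .ofNat 0, .ofNat 0, .negSucc 1, .ofNat 0, .ofNat 0, .ofNat 0, .ofNat 0, .ofNat 0, .ofNat 2, .ofNat 0, .ofNat 0, .ofNat 2, .ofNat 2, .ofNat 2, .ofNat 0],
  [.negSucc 0, .negSucc 0, .negSucc 0, .negSucc 0, .ofNat 1, .ofNat 1, .negSucc 0, .ofNat 1, .negSucc 0, .negSucc 0, .ofNat 1, .negSucc 0, .ofNat 1, .negSucc 0, .ofNat 1, .negSucc 0, .negSucc 0, .negSucc 2, .negSucc 0, .negSucc 0, .negSucc 0, .negSucc 0, .negSucc 0, .ofNat 1],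
  [.negSucc 0, .ofNat 1, .ofNat 1, .negSucc 0, .negSucc 0, .negSucc 0, .negSucc 0, .negSucc 0, .ofNat 3, .ofNat 1, .negSucc 0, .ofNat 1, .negSucc 0, .ofNat 1, .negSucc 0, .ofNat 1, .ofNat 1, .negSucc 0, .ofNat 1, .negSucc 0, .negSucc 0, .negSucc 0, .negSucc 0, .negSucc 0]]

/-- a base vector of the chain of stabilisers -/
def lvB5_2 : List ℤ := [.ofNat 0, .ofNat 0, .ofNat 0, .ofNat 0, .ofNat 0, .ofNat 0, .ofNat 0, .ofNat 0, .negSucc 1, .ofNat 2, .ofNat 0, .ofNat 0, .ofNat 0, .ofNat 2, .negSucc 1, .negSucc 1, .ofNat 0, .negSucc 1, .ofNat 2, .ofNat 0, .ofNat 0, .ofNat 0, .ofNat 2, .ofNat 0]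

/-- words with pairwise different images of the base vector -/
def lvW5_2 : List (List ℕ) := [[], [2, 2, 2, 2, 3, 3, 3], [2, 2, 2, 3], [2, 3, 3], [2, 2, 3, 3, 3, 3]]

/-- the images of the base vector -/
def lvI5_2 : List (List ℤ) :=
  [[.ofNat 0, .ofNat 0, .ofNat 0, .ofNat 0, .ofNat 0, .ofNat 0, .ofNat 0, .ofNat 0, .negSucc 1, .ofNat 2, .ofNat 0, .ofNat 0, .ofNat 0, .ofNat 2, .negSucc 1, .negSucc 1, .ofNat 0, .negSucc 1, .ofNat 2, .ofNat 0, .ofNat 0, .ofNat 0, .ofNat 2, .ofNat 0],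
  [.ofNat 1, .ofNat 1, .ofNat 1, .ofNat 1, .ofNat 1, .ofNat 1, .ofNat 1, .negSucc 0, .ofNat 1, .negSucc 0, .ofNat 1, .negSucc 0, .negSucc 0, .negSucc 0, .ofNat 1, .ofNat 1, .ofNat 1, .negSucc 0, .negSucc 0, .ofNat 1, .ofNat 1, .negSucc 2, .ofNat 1, .negSucc 0],
  [.negSucc 0, .negSucc 0, .ofNat 1, .ofNat 1, .ofNat 1, .ofNat 1, .negSucc 0, .negSucc 0, .ofNat 1, .ofNat 1, .ofNat 1, .ofNat 1, .negSucc 0, .negSucc 0, .ofNat 1, .negSucc 0, .ofNat 1, .ofNat 1, .negSucc 0, .negSucc 0, .negSucc 0, .ofNat 3, .negSucc 0, .ofNat 1],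
  [.negSucc 0, .ofNat 1, .negSucc 0, .negSucc 0, .negSucc 0, .negSucc 0, .ofNat 1, .ofNat 1, .negSucc 0, .ofNat 1, .negSucc 2, .ofNat 1, .ofNat 1, .negSucc 0, .ofNat 1, .ofNat 1, .negSucc 0, .ofNat 1, .negSucc 0, .negSucc 0, .ofNat 1, .negSucc 0, .negSucc 0, .ofNat 1],
  [.ofNat 1, .negSucc 0, .negSucc 0, .negSucc 0, .negSucc 0, .negSucc 0, .negSucc 0, .ofNat 1, .ofNat 1, .negSucc 2, .ofNat 1, .negSucc 0, .ofNat 1, .ofNat 1, .negSucc 0, .ofNat 1, .negSucc 0, .ofNat 1, .ofNat 1, .ofNat 1, .negSucc 0, .ofNat 1, .negSucc 0, .negSucc 0]]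

/-- a chain of stabilisers: base vectors with words with pairwise different images -/
def levels5 : List (List ℤ × List (List ℕ)) :=
  [(lvB5_0, lvW5_0), (lvB5_1, lvW5_1), (lvB5_2, lvW5_2)]

end Cfsg.Agent.Lib.Helper26.C1M
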