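import Mathlib

set_option autoImplicit false
set_option maxRecDepth 1000000

/-!
# Project C1M: the tables of counts of the forms for the prime 5 (generated)
-/

namespace Cfsg.Agent.Lib.Helper26.C1M

/-- the tables of counts of a part of the forms of the consistency checks -/
def zvC5_0 : List (List (List ℕ)) := [[[0, 5, 5, 4], [0, 0, 5], [0, 0, 0, 16]], [[0, 5, 0, 5], [0, 0, 0, 5], [0, 0, 0, 4]], [[0, 20], [0, 5, 40, 40], [0, 0, 4, 120], [0, 0, 0, 32]], [[5, 5, 10], [], [0, 0, 1]]]

/-- the tables of counts of the forms of the consistency checks -/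
def zvC5 : List (List (List (List ℕ))) := [zvC5_0]

/-- the tables of counts of a part of the forms of the fusion -/
def zvR5_0 : List (List (List ℕ)) := [[[8, 80, 60, 40], [0, 16, 240, 180], [0, 0, 21, 764], [0, 0, 0, 196]], [[17, 0, 160, 160], [], [0, 0, 16, 160], [0, 0, 0, 12]], [[0, 0, 0, 2], [0, 0, 0, 4], [0, 0, 0, 5]], [[0, 0, 16, 16], [], [0, 0, 5, 52], [0, 0, 0, 5]]]

/-- the tables of counts of the forms of the fusion -/
def zvR5 : List (List (List (List ℕ))) := [zvR5_0]

end Cfsg.Agent.Lib.Helper26.C1M
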