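import Cfsg.Agent.Lib.Helper26.C1M.Front2
import Cfsg.Agent.Lib.Helper26.C1M.P5Data
import Cfsg.Agent.Lib.Helper26.C1M.P5ZV

set_option autoImplicit false
set_option maxRecDepth 1000000

/-!
# Project C1M: checks of the certificate for the prime 5, part 0 (generated)
-/

namespace Cfsg.Agent.Lib.Helper26.C1M

open Cfsg Cfsg.Agent.Lib.Helper26.Co1O Cfsg.Agent.Lib.Helper5.PcT Cfsg.Agent.Lib.Helper5.PcP

theorem data5_ok : dataOK 4 sqL5 cmL5 = true := by decide +kernel

theorem levels5_prod : chainProdZ levels5 = 5 ^ 4 := by decide +kernel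

theorem relflat5 : mkRel 5 (pwL5.map Prod.fst) [] (cmEL5.map Prod.fst) [] = relC5.flatten := by
  decide +kernel

theorem zc5_0 : (conC5_0.filterMap (conForm 5 (PcD.ofLists 4 sqL5 cmL5) 400)).map vecOf = zvC5_0 := by
  decide +kernel

theorem zr5_0 : (relC5_0.filterMap (relForm 5 (PcD.ofLists 4 sqL5 cmL5) 400)).map vecOf = zvR5_0 := by
  decide +kernel

theorem crow5_0 : certRowV 5 (PcD.ofLists 4 sqL5 cmL5) CC5 (zvC5.flatten ++ zvR5.flatten) certs5 0 = true := by
  decide +kernel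

theorem crow5_1 : certRowV 5 (PcD.ofLists 4 sqL5 cmL5) CC5 (zvC5.flatten ++ zvR5.flatten) certs5 1 = true := by
  decide +kernel

theorem crow5_2 : certRowV 5 (PcD.ofLists 4 sqL5 cmL5) CC5 (zvC5.flatten ++ zvR5.flatten) certs5 2 = true := by
  decide +kernel

theorem crow5_3 : certRowV 5 (PcD.ofLists 4 sqL5 cmL5) CC5 (zvC5.flatten ++ zvR5.flatten) certs5 3 = true := by
  decide +kernel

end Cfsg.Agent.Lib.Helper26.C1M
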