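import Cfsg.Agent.Lib.Helper26.C1M.P5K0
import Cfsg.Agent.Lib.Helper26.C1M.P5C0

set_option autoImplicit false
set_option maxRecDepth 1000000

/-!
# Project C1M: no stem extension of `Co0` has a kernel of order 5 (generated)
-/

namespace Cfsg.Agent.Lib.Helper26.C1M

open Cfsg Cfsg.Agent.Lib.Helper26.Co1O Cfsg.Agent.Lib.Helper5.PcT Cfsg.Agent.Lib.Helper5.PcP

theorem rrow5_0 : relRow 5 gM5 4 sqL5 cmL5 0 = true :=
  relRow_of_pairs 5 gM5 4 sqL5 cmL5 0 (by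
    intro j h1 h2
    interval_cases j
    · exact r5_0_0
    · exact r5_0_1
    · exact r5_0_2
    · exact r5_0_3) (by norm_num)

theorem rrow5_1 : relRow 5 gM5 4 sqL5 cmL5 1 = true :=
  relRow_of_pairs 5 gM5 4 sqL5 cmL5 1 (by
    intro j h1 h2
    interval_cases j
    · exact r5_1_1
    · exact r5_1_2
    · exact r5_1_3) (by norm_num)

theorem rrow5_2 : relRow 5 gM5 4 sqL5 cmL5 2 = true :=
  relRow_of_pairs 5 gM5 4 sqL5 cmL5 2 (by
    intro j h1 h2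
    interval_cases j
    · exact r5_2_2
    · exact r5_2_3) (by norm_num)

theorem rrow5_3 : relRow 5 gM5 4 sqL5 cmL5 3 = true :=
  relRow_of_pairs 5 gM5 4 sqL5 cmL5 3 (by
    intro j h1 h2
    interval_cases j
    · exact r5_3_3) (by norm_num)

theorem rels5_all : ∀ i, i < 4 → relRow 5 gM5 4 sqL5 cmL5 i = true := by
  intro i hi
  interval_cases i
  · exact rrow5_0
  · exact rrow5_1
  · exact rrow5_2
  · exact rrow5_3

theorem pw5_ok : pwChkZ 5 gM5 hM5 pwL5 = true :=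
  pwChkZ_of_all 5 gM5 hM5 pwL5
    (allCons (pwOne_of_parts _ _ _ _ pwc5_0_0 pwc5_0_1)
    (allCons (pwOne_of_parts _ _ _ _ pwc5_1_0 pwc5_1_1)
    allNil))

theorem cm5_ok : cmChkZ gM5 hM5 cmEL5 = true :=
  cmChkZ_of_all gM5 hM5 cmEL5
    (allCons (cmOne_of_parts _ _ _ cmc5_0_0 cmc5_0_1 cmc5_0_2)
    (allCons (cmOne_of_parts _ _ _ cmc5_1_0 cmc5_1_1 cmc5_1_2)
    allNil))

theorem levels5_ok : chainChkZ gM5 [] levels5 = true :=
  (chainChkZ_cons gM5 [] lvB5_0 lvW5_0 _ lvI5_0 lvb5_0 lvf5_0 lvi5_0 lvn5_0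
    (chainChkZ_cons gM5 [lvB5_0] lvB5_1 lvW5_1 _ lvI5_1 lvb5_1 lvf5_1 lvi5_1 lvn5_1
    (chainChkZ_cons gM5 [lvB5_1, lvB5_0] lvB5_2 lvW5_2 _ lvI5_2 lvb5_2 lvf5_2 lvi5_2 lvn5_2
    (chainChkZ_nil gM5 _))))

theorem cert5_ok : certOKP 5 (PcD.ofLists 4 sqL5 cmL5) CC5
    (zformsP 5 (PcD.ofLists 4 sqL5 cmL5) 400 conL5
      (mkRel 5 (pwL5.map Prod.fst) [] (cmEL5.map Prod.fst) [])) certs5 = true :=
  certOKP_of_pieces 5 (PcD.ofLists 4 sqL5 cmL5) 400 CC5 conC5 zvC5 relC5 zvR5 certs5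
    (List.Forall₂.cons zc5_0 List.Forall₂.nil)
    (List.Forall₂.cons zr5_0 List.Forall₂.nil)
    _ relflat5 (by
      intro i hi
      change i < 4 at hi
      interval_cases i
      · exact crow5_0
      · exact crow5_1
      · exact crow5_2
      · exact crow5_3)

/-- no finite stem extension of `Co0` has a kernel of order 5 -/
theorem co0_no_stem_5 {Γ : Type*} [Group Γ] [Finite Γ] (σ : Γ →* ↥Co0) (hσ : Cfsg.IsStemExtension σ) :
    Nat.card σ.ker ≠ 5 :=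
  co0_stem_card_ne 5 Nat.prime_five gM5 hM5 gE5 hE5 gRep5 hRep5 4 sqL5 cmL5 data5_ok (by decide)
    rels5_all 400 conL5 pwL5 cmEL5 CC5 certs5 cert5_ok pw5_ok cm5_ok levels5 levels5_ok
    levels5_prod (by norm_num) σ hσ

end Cfsg.Agent.Lib.Helper26.C1M
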