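import Cfsg.Agent.Lib.Helper26.C1M.Chain
import Cfsg.Agent.Lib.Helper10.C1MABS
import Cfsg.Agent.S0397

set_option autoImplicit false

/-!
# Project C1M: no stem extension of `Co0` with kernel of order `p`, from a certificate
-/

namespace Cfsg.Agent.Lib.Helper26.C1M

open Cfsg Subgroup Cfsg.Agent.Lib.Helper26.Co1O Cfsg.Agent.Lib.Helper5.PcT Cfsg.Agent.Lib.Helper5.PcP
open Cfsg.Agent.Lib.Helper5.Stem

instance finite_Co0 : Finite ↥Co0 :=
  Nat.finite_of_card_ne_zero (by rw [Cfsg.Agent.S0397.result]; norm_num)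

/-- a prime does not divide the order of the kernel of a stem extension of `Co0`, from a
certificate for a Sylow subgroup given by matrices -/
theorem co0_stem_card_ne (p : ℕ) (hp : p.Prime) (Ms Hs : List (List (List ℤ))) (Es Fs : List ↥Co0)
    (hrep : RepL Ms Es) (hrepH : RepL Hs Fs)
    (k : ℕ) (sqL : List (List ℕ)) (cmL : List (List (List ℕ))) (hdata : dataOK k sqL cmL = true)
    (hlen : Es.length = k)
    (hrels : ∀ i, i < k → relRow p Ms k sqL cmL i = true)
    (f : ℕ) (conL : List (List ℕ × List ℕ)) (pwL : List ((List ℕ × List ℕ) × ℕ))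
    (cmEL : List ((List ℕ × List ℕ × List ℕ × List ℕ) × ℕ))
    (C : List (List (ℕ × ℕ))) (certs : List (List ℕ))
    (hchk : certOKP p (PcD.ofLists k sqL cmL) C
      (zformsP p (PcD.ofLists k sqL cmL) f conL
        (mkRel p (pwL.map Prod.fst) [] (cmEL.map Prod.fst) [])) certs = true)
    (hpw : pwChkZ p Ms Hs pwL = true) (hcm : cmChkZ Ms Hs cmEL = true)
    (levels : List (List ℤ × List (List ℕ))) (hlv : chainChkZ Ms [] levels = true)
    (hprod : chainProdZ levels = p ^ k) (hidx : ¬ p ∣ 8315553613086720000 / p ^ k)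
    {Γ : Type*} [Group Γ] [Finite Γ] (σ : Γ →* ↥Co0) (hσ : Cfsg.IsStemExtension σ) :
    Nat.card σ.ker ≠ p := by
  obtain ⟨hsq, hcmr⟩ := rels_of_relRow hrep p k sqL cmL hrels
  have hmem : ∀ x ∈ Es, x ∈ closure {x | ∃ i, i < k ∧ x = Es.getD i 1} := by
    intro x hx
    obtain ⟨i, hi, rfl⟩ := List.mem_iff_getElem.mp hx
    refine subset_closure ⟨i, by omega, ?_⟩
    show Es[i] = Es.getD i 1
    rw [List.getD_eq_getElem _ _ hi]
  have hge : p ^ k ≤ Nat.card (closure {x | ∃ i, i < k ∧ x = Es.getD i 1}) := by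
    rw [← hprod]
    exact card_ge_of_chainZ hrep _ hmem levels hlv
  exact stem_card_ne_of_cert_abs p hp Es k sqL cmL hdata hlen.le hsq hcmr f conL (pwL.map Prod.fst) []
    (cmEL.map Prod.fst) [] C certs hchk (pw_of_chkZ hrep hrepH p pwL hpw)
    (cm_of_chkZ hrep hrepH cmEL hcm) hge 8315553613086720000 Cfsg.Agent.S0397.result hidx σ hσ
    (by simp) (by simp)

end Cfsg.Agent.Lib.Helper26.C1M
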