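import Mathlib

set_option autoImplicit false
set_option maxRecDepth 1000000

/-!
# Project C1M: the certificate for the prime 7 (generated)
-/

namespace Cfsg.Agent.Lib.Helper26.C1M

/-- the powers of the polycyclic generators -/
def sqL7 : List (List ℕ) := [[], []]

/-- the commutators of the polycyclic generators -/
def cmL7 : List (List (List ℕ)) := [[[], []], [[], []]]

/-- the consistency checks used -/
def conL7 : List (List ℕ × List ℕ) := []

/-- pairs of conjugate elements of prime order, with the index of a conjugating element -/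
def pwL7 : List ((List ℕ × List ℕ) × ℕ) := [(([1], [0, 0]), 0), (([0], [1]), 1)]

/-- pairs of simultaneously conjugate commuting pairs, with the index of a conjugating element -/
def cmEL7 : List ((List ℕ × List ℕ × List ℕ × List ℕ) × ℕ) := [(([0], [1], [0, 0, 0, 0], [0, 0, 0, 0, 1]), 2)]

/-- the forms of the correcting exponents -/
def CC7 : List (List (ℕ × ℕ)) := [[], []]

/-- the certificates -/
def certs7 : List (List ℕ) := [[0, 1], [2, 2], [], [0, 1, 1]]

/-- a chain of stabilisers: base vectors with words with pairwise different images -/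
def levels7 : List (List ℤ × List (List ℕ)) :=
  [([.ofNat 0, .ofNat 0, .ofNat 0, .ofNat 0, .ofNat 0, .ofNat 0, .ofNat 4, .ofNat 0, .ofNat 0, .ofNat 0, .ofNat 0, .ofNat 4, .ofNat 0, .ofNat 0, .ofNat 0, .ofNat 0, .ofNat 0, .ofNat 0, .ofNat 0, .ofNat 0, .ofNat 0, .ofNat 0, .ofNat 0, .ofNat 0], [[], [0], [0, 0], [0, 0, 0], [0, 0, 0, 0], [0, 0, 0, 0, 0], [0, 0, 0, 0, 0, 0]]),
  ([.negSucc 1, .ofNat 2, .negSucc 1, .negSucc 1, .negSucc 1, .ofNat 0, .ofNat 0, .ofNat 2, .ofNat 0, .ofNat 0, .ofNat 2, .ofNat 0, .ofNat 2, .ofNat 0, .ofNat 0, .ofNat 0, .ofNat 0, .ofNat 0, .ofNat 0, .ofNat 0, .ofNat 0, .ofNat 0, .ofNat 0, .ofNat 0], [[], [1, 1, 1, 1, 1], [1], [1, 1, 1, 1, 1, 1], [1, 1], [1, 1, 1], [1, 1, 1, 1]])]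

end Cfsg.Agent.Lib.Helper26.C1M
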