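import Cfsg.Agent.Lib.Helper26.C1M.C1m7g0
import Cfsg.Agent.Lib.Helper26.C1M.C1m7g1
import Cfsg.Agent.Lib.Helper26.C1M.C1m7h0
import Cfsg.Agent.Lib.Helper26.C1M.C1m7h1
import Cfsg.Agent.Lib.Helper26.C1M.C1m7h2
import Cfsg.Agent.Lib.Helper26.C1M.P7Data

set_option autoImplicit false

/-!
# Project C1M: the lists of matrix elements for the prime 7 (generated)
-/

namespace Cfsg.Agent.Lib.Helper26.C1M

open Cfsg Cfsg.Agent.Lib.Helper26.Co1O

/-- the matrices of the polycyclic generators -/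
def gM7 : List (List (List ℤ)) := [c1m7g0Z, c1m7g1Z]

/-- the polycyclic generators -/
def gE7 : List ↥Co0 := [c1m7g0E, c1m7g1E]

/-- the matrices of the conjugating elements -/
def hM7 : List (List (List ℤ)) := [c1m7h0Z, c1m7h1Z, c1m7h2Z]

/-- the conjugating elements -/
def hE7 : List ↥Co0 := [c1m7h0E, c1m7h1E, c1m7h2E]

theorem gRep7 : RepL gM7 gE7 :=
  (List.Forall₂.cons c1m7g0_rep (List.Forall₂.cons c1m7g1_rep List.Forall₂.nil))

theorem hRep7 : RepL hM7 hE7 :=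
  (List.Forall₂.cons c1m7h0_rep (List.Forall₂.cons c1m7h1_rep (List.Forall₂.cons c1m7h2_rep List.Forall₂.nil)))

end Cfsg.Agent.Lib.Helper26.C1M
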