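
import Cfsg.Agent.Lib.Helper26.C1M.NoStem
import Cfsg.Agent.Lib.Helper26.C1M.P7List

set_option autoImplicit false
set_option maxRecDepth 1000000

/-!
# Project C1M: checks of the relations for the prime 7, part 0 (generated)
-/

namespace Cfsg.Agent.Lib.Helper26.C1M

open Cfsg Cfsg.Agent.Lib.Helper26.Co1O Cfsg.Agent.Lib.Helper5.PcT Cfsg.Agent.Lib.Helper5.PcP

theorem rels7_0 : [0, 1].all (fun i => relRow 7 gM7 2 sqL7 cmL7 i) = true := by
  decide +kernel

end Cfsg.Agent.Lib.Helper26.C1M
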