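import Cfsg.Agent.Lib.Helper26.C1M.P7Chk
import Cfsg.Agent.Lib.Helper26.C1M.P7Rel0

set_option autoImplicit false

/-!
# Project C1M: no stem extension of `Co0` has a kernel of order 7 (generated)
-/

namespace Cfsg.Agent.Lib.Helper26.C1M

open Cfsg Cfsg.Agent.Lib.Helper26.Co1O Cfsg.Agent.Lib.Helper5.PcT Cfsg.Agent.Lib.Helper5.PcP

theorem rels7_all : ∀ i, i < 2 → relRow 7 gM7 2 sqL7 cmL7 i = true := by
  intro i hi
  interval_cases i
  · exact (List.all_eq_true.mp rels7_0) 0 (by decide)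
  · exact (List.all_eq_true.mp rels7_0) 1 (by decide)

/-- no finite stem extension of `Co0` has a kernel of order 7 -/
theorem co0_no_stem_7 {Γ : Type*} [Group Γ] [Finite Γ] (σ : Γ →* ↥Co0) (hσ : Cfsg.IsStemExtension σ) :
    Nat.card σ.ker ≠ 7 :=
  co0_stem_card_ne 7 (by norm_num) gM7 hM7 gE7 hE7 gRep7 hRep7 2 sqL7 cmL7 data7_ok (by decide)
    rels7_all 400 conL7 pwL7 cmEL7 CC7 certs7 cert7_ok pw7_ok cm7_ok levels7 levels7_ok
    levels7_prod (by norm_num) σ hσ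

end Cfsg.Agent.Lib.Helper26.C1M
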