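import Cfsg.Agent.Lib.Helper26.C1M.Cover
import Cfsg.Agent.Lib.Helper26.C1M.P2Main
import Cfsg.Agent.Lib.Helper26.C1M.P3Main
import Cfsg.Agent.Lib.Helper26.C1M.P5Main
import Cfsg.Agent.Lib.Helper26.C1M.P7Main
import Cfsg.Agent.Lib.Helper10.C1MCOVER
import Cfsg.Agent.Lib.Helper5.PcPG
import Cfsg.Prelude.Def_Spor_Conway

set_option autoImplicit false

/-!
# Project C1M: the Schur multiplier of `Co₁` is cyclic of order two
-/

namespace Cfsg.Agent.Lib.Helper26.C1M

open Cfsg Subgroup Cfsg.Agent.Lib.Helper5.PcP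

theorem co0_sq_not_dvd (p : ℕ) (hp : p.Prime) (hmem : p ∉ [2, 3, 5, 7]) :
    ¬ p ^ 2 ∣ 8315553613086720000 := by
  intro h
  have h2 : p ≠ 2 := fun e => hmem (by simp [e])
  have h3 : p ≠ 3 := fun e => hmem (by simp [e])
  have h5 : p ≠ 5 := fun e => hmem (by simp [e])
  have h7 : p ≠ 7 := fun e => hmem (by simp [e])
  have e : (8315553613086720000 : ℕ) = (2 ^ 22 * 3 ^ 9 * 5 ^ 4 * 7 ^ 2) * 3289 := by norm_num
  rw [e] at h
  have hc2 : Nat.Coprime p 2 := (Nat.coprime_primes hp Nat.prime_two).mpr h2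
  have hc3 : Nat.Coprime p 3 := (Nat.coprime_primes hp Nat.prime_three).mpr h3
  have hc5 : Nat.Coprime p 5 := (Nat.coprime_primes hp Nat.prime_five).mpr h5
  have hc7 : Nat.Coprime p 7 := (Nat.coprime_primes hp (by norm_num)).mpr h7
  have hc : Nat.Coprime (p ^ 2) (2 ^ 22 * 3 ^ 9 * 5 ^ 4 * 7 ^ 2) := by
    apply Nat.Coprime.pow_left
    apply Nat.Coprime.mul_right
    · apply Nat.Coprime.mul_right
      · apply Nat.Coprime.mul_right
        · exact Nat.Coprime.pow_right _ hc2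
        · exact Nat.Coprime.pow_right _ hc3
      · exact Nat.Coprime.pow_right _ hc5
    · exact Nat.Coprime.pow_right _ hc7
  have h1 : p ^ 2 ∣ 3289 := hc.dvd_of_dvd_mul_left h
  have hle : p ^ 2 ≤ 3289 := Nat.le_of_dvd (by norm_num) h1
  have hp58 : p < 58 := by
    by_contra hge
    push Not at hge
    have : 58 ^ 2 ≤ p ^ 2 := Nat.pow_le_pow_left hge 2
    omega
  interval_cases p <;> first | exact absurd h1 (by decide) | exact absurd hp (by decide)

/-- every finite stem extension of `Co0` has trivial kernel -/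
theorem co0_stem_ker_trivial.{u} {Γ : Type u} [Group Γ] [Finite Γ] (σ : Γ →* ↥Co0)
    (hσ : Cfsg.IsStemExtension σ) : ∀ z ∈ σ.ker, z = 1 := by
  apply stem_ker_trivial_of_list 8315553613086720000 Cfsg.Agent.S0397.result [2, 3, 5, 7]
    co0_sq_not_dvd _ σ hσ
  intro p hp Γ' _ _ σ' hσ'
  simp only [List.mem_cons, List.not_mem_nil, or_false] at hp
  rcases hp with rfl | rfl | rfl | rfl
  · exact co0_no_stem_2 σ' hσ'
  · exact co0_no_stem_3 σ' hσ'
  · exact co0_no_stem_5 σ' hσ'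
  · exact co0_no_stem_7 σ' hσ'

/-- the Schur multiplier of `Co₁` is cyclic of order two -/
theorem co1_multiplier : Cfsg.HasCyclicSchurMultiplier Cfsg.Spor.Co1 2 := by
  obtain ⟨e⟩ := co0_ker_equiv
  exact hasSchurMultiplier_of_trivial_cover (QuotientGroup.mk' (Subgroup.center ↥Co0)) co0_stem e
    (fun D _ _ ρ hρ => co0_stem_ker_trivial ρ hρ)

end Cfsg.Agent.Lib.Helper26.C1M
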