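import Cfsg.Agent.Lib.Helper26.C1M.Front2
import Cfsg.Agent.Lib.Helper26.C1M.P2List

set_option autoImplicit false
set_option maxRecDepth 1000000

/-!
# Project C1M: checks with matrices for the prime 2, part 0 (generated)
-/

namespace Cfsg.Agent.Lib.Helper26.C1M

open Cfsg Cfsg.Agent.Lib.Helper26.Co1O Cfsg.Agent.Lib.Helper5.PcT Cfsg.Agent.Lib.Helper5.PcP

theorem r2_0_0 : relPair 2 gM2 sqL2 cmL2 0 0 = true := by decide +kernel

theorem r2_0_1 : relPair 2 gM2 sqL2 cmL2 0 1 = true := by decide +kernel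

theorem r2_0_2 : relPair 2 gM2 sqL2 cmL2 0 2 = true := by decide +kernel

theorem r2_0_3 : relPair 2 gM2 sqL2 cmL2 0 3 = true := by decide +kernel

theorem r2_0_4 : relPair 2 gM2 sqL2 cmL2 0 4 = true := by decide +kernel

theorem r2_0_5 : relPair 2 gM2 sqL2 cmL2 0 5 = true := by decide +kernel

theorem r2_0_6 : relPair 2 gM2 sqL2 cmL2 0 6 = true := by decide +kernel

theorem r2_0_7 : relPair 2 gM2 sqL2 cmL2 0 7 = true := by decide +kernel

theorem r2_0_8 : relPair 2 gM2 sqL2 cmL2 0 8 = true := by decide +kernel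

theorem r2_0_9 : relPair 2 gM2 sqL2 cmL2 0 9 = true := by decide +kernel

theorem r2_0_10 : relPair 2 gM2 sqL2 cmL2 0 10 = true := by decide +kernel

theorem r2_0_11 : relPair 2 gM2 sqL2 cmL2 0 11 = true := by decide +kernel

theorem r2_0_12 : relPair 2 gM2 sqL2 cmL2 0 12 = true := by decide +kernel

theorem r2_0_13 : relPair 2 gM2 sqL2 cmL2 0 13 = true := by decide +kernel

theorem r2_0_14 : relPair 2 gM2 sqL2 cmL2 0 14 = true := by decide +kernel

theorem r2_0_15 : relPair 2 gM2 sqL2 cmL2 0 15 = true := by decide +kernel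

theorem r2_0_16 : relPair 2 gM2 sqL2 cmL2 0 16 = true := by decide +kernel

theorem r2_0_17 : relPair 2 gM2 sqL2 cmL2 0 17 = true := by decide +kernel

theorem r2_0_18 : relPair 2 gM2 sqL2 cmL2 0 18 = true := by decide +kernel

theorem r2_0_19 : relPair 2 gM2 sqL2 cmL2 0 19 = true := by decide +kernel

theorem r2_0_20 : relPair 2 gM2 sqL2 cmL2 0 20 = true := by decide +kernel

theorem r2_0_21 : relPair 2 gM2 sqL2 cmL2 0 21 = true := by decide +kernel

theorem r2_1_1 : relPair 2 gM2 sqL2 cmL2 1 1 = true := by decide +kernel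

theorem r2_1_2 : relPair 2 gM2 sqL2 cmL2 1 2 = true := by decide +kernel

end Cfsg.Agent.Lib.Helper26.C1M
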