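import Cfsg.Agent.Lib.Helper26.C1M.Front2
import Cfsg.Agent.Lib.Helper26.C1M.P2List

set_option autoImplicit false
set_option maxRecDepth 1000000

/-!
# Project C1M: checks with matrices for the prime 2, part 11 (generated)
-/

namespace Cfsg.Agent.Lib.Helper26.C1M

open Cfsg Cfsg.Agent.Lib.Helper26.Co1O Cfsg.Agent.Lib.Helper5.PcT Cfsg.Agent.Lib.Helper5.PcP

theorem cmc2_8_1 : cmOneC gM2 hM2 cmE2_8 1 = true := by decide +kernel

theorem cmc2_8_2 : cmOneC gM2 hM2 cmE2_8 2 = true := by decide +kernel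

theorem lvb2_0 : baseOK lvB2_0 = true := by decide +kernel

theorem lvf2_0 : fixChk gM2 [] lvW2_0 = true := by decide +kernel

theorem lvi2_0 : imgsOf gM2 lvB2_0 lvW2_0 = lvI2_0 := by decide +kernel

theorem lvn2_0 : lvI2_0.Nodup := by decide +kernel

theorem lvb2_1 : baseOK lvB2_1 = true := by decide +kernel

theorem lvf2_1 : fixChk gM2 [lvB2_0] lvW2_1 = true := by decide +kernel

theorem lvi2_1 : imgsOf gM2 lvB2_1 lvW2_1 = lvI2_1 := by decide +kernel

theorem lvn2_1 : lvI2_1.Nodup := by decide +kernel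

theorem lvb2_2 : baseOK lvB2_2 = true := by decide +kernel

theorem lvf2_2 : fixChk gM2 [lvB2_1, lvB2_0] lvW2_2 = true := by decide +kernel

theorem lvi2_2 : imgsOf gM2 lvB2_2 lvW2_2 = lvI2_2 := by decide +kernel

theorem lvn2_2 : lvI2_2.Nodup := by decide +kernel

theorem lvb2_3 : baseOK lvB2_3 = true := by decide +kernel

theorem lvf2_3 : fixChk gM2 [lvB2_2, lvB2_1, lvB2_0] lvW2_3 = true := by decide +kernel

theorem lvi2_3 : imgsOf gM2 lvB2_3 lvW2_3 = lvI2_3 := by decide +kernel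

theorem lvn2_3 : lvI2_3.Nodup := by decide +kernel

theorem lvb2_4 : baseOK lvB2_4 = true := by decide +kernel

theorem lvf2_4 : fixChk gM2 [lvB2_3, lvB2_2, lvB2_1, lvB2_0] lvW2_4 = true := by decide +kernel

theorem lvi2_4 : imgsOf gM2 lvB2_4 lvW2_4 = lvI2_4 := by decide +kernel

theorem lvn2_4 : lvI2_4.Nodup := by decide +kernel

theorem lvb2_5 : baseOK lvB2_5 = true := by decide +kernel

theorem lvf2_5 : fixChk gM2 [lvB2_4, lvB2_3, lvB2_2, lvB2_1, lvB2_0] lvW2_5 = true := by decide +kernel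

theorem lvi2_5 : imgsOf gM2 lvB2_5 lvW2_5 = lvI2_5 := by decide +kernel

theorem lvn2_5 : lvI2_5.Nodup := by decide +kernel

theorem lvb2_6 : baseOK lvB2_6 = true := by decide +kernel

theorem lvf2_6 : fixChk gM2 [lvB2_5, lvB2_4, lvB2_3, lvB2_2, lvB2_1, lvB2_0] lvW2_6 = true := by decide +kernel

theorem lvi2_6 : imgsOf gM2 lvB2_6 lvW2_6 = lvI2_6 := by decide +kernel

theorem lvn2_6 : lvI2_6.Nodup := by decide +kernel

theorem lvb2_7 : baseOK lvB2_7 = true := by decide +kernel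

theorem lvf2_7 : fixChk gM2 [lvB2_6, lvB2_5, lvB2_4, lvB2_3, lvB2_2, lvB2_1, lvB2_0] lvW2_7 = true := by decide +kernel

theorem lvi2_7 : imgsOf gM2 lvB2_7 lvW2_7 = lvI2_7 := by decide +kernel

theorem lvn2_7 : lvI2_7.Nodup := by decide +kernel

theorem lvb2_8 : baseOK lvB2_8 = true := by decide +kernel

theorem lvf2_8 : fixChk gM2 [lvB2_7, lvB2_6, lvB2_5, lvB2_4, lvB2_3, lvB2_2, lvB2_1, lvB2_0] lvW2_8 = true := by decide +kernel

theorem lvi2_8 : imgsOf gM2 lvB2_8 lvW2_8 = lvI2_8 := by decide +kernel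

theorem lvn2_8 : lvI2_8.Nodup := by decide +kernel

theorem lvb2_9 : baseOK lvB2_9 = true := by decide +kernel

theorem lvf2_9 : fixChk gM2 [lvB2_8, lvB2_7, lvB2_6, lvB2_5, lvB2_4, lvB2_3, lvB2_2, lvB2_1, lvB2_0] lvW2_9 = true := by decide +kernel

theorem lvi2_9 : imgsOf gM2 lvB2_9 lvW2_9 = lvI2_9 := by decide +kernel

theorem lvn2_9 : lvI2_9.Nodup := by decide +kernel

theorem lvb2_10 : baseOK lvB2_10 = true := by decide +kernel

theorem lvf2_10 : fixChk gM2 [lvB2_9, lvB2_8, lvB2_7, lvB2_6, lvB2_5, lvB2_4, lvB2_3, lvB2_2, lvB2_1, lvB2_0] lvW2_10 = true := by decide +kernel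

theorem lvi2_10 : imgsOf gM2 lvB2_10 lvW2_10 = lvI2_10 := by decide +kernel

theorem lvn2_10 : lvI2_10.Nodup := by decide +kernel

theorem lvb2_11 : baseOK lvB2_11 = true := by decide +kernel

theorem lvf2_11 : fixChk gM2 [lvB2_10, lvB2_9, lvB2_8, lvB2_7, lvB2_6, lvB2_5, lvB2_4, lvB2_3, lvB2_2, lvB2_1, lvB2_0] lvW2_11 = true := by decide +kernel

theorem lvi2_11 : imgsOf gM2 lvB2_11 lvW2_11 = lvI2_11 := by decide +kernel

theorem lvn2_11 : lvI2_11.Nodup := by decide +kernel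

end Cfsg.Agent.Lib.Helper26.C1M
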