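import Cfsg.Agent.Lib.Helper26.C1M.Front2
import Cfsg.Agent.Lib.Helper26.C1M.P3List

set_option autoImplicit false
set_option maxRecDepth 1000000

/-!
# Project C1M: checks with matrices for the prime 3, part 0 (generated)
-/

namespace Cfsg.Agent.Lib.Helper26.C1M

open Cfsg Cfsg.Agent.Lib.Helper26.Co1O Cfsg.Agent.Lib.Helper5.PcT Cfsg.Agent.Lib.Helper5.PcP

theorem r3_0_0 : relPair 3 gM3 sqL3 cmL3 0 0 = true := by decide +kernel

theorem r3_0_1 : relPair 3 gM3 sqL3 cmL3 0 1 = true := by decide +kernel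

theorem r3_0_2 : relPair 3 gM3 sqL3 cmL3 0 2 = true := by decide +kernel

theorem r3_0_3 : relPair 3 gM3 sqL3 cmL3 0 3 = true := by decide +kernel

theorem r3_0_4 : relPair 3 gM3 sqL3 cmL3 0 4 = true := by decide +kernel

theorem r3_0_5 : relPair 3 gM3 sqL3 cmL3 0 5 = true := by decide +kernel

theorem r3_0_6 : relPair 3 gM3 sqL3 cmL3 0 6 = true := by decide +kernel

theorem r3_0_7 : relPair 3 gM3 sqL3 cmL3 0 7 = true := by decide +kernel

theorem r3_0_8 : relPair 3 gM3 sqL3 cmL3 0 8 = true := by decide +kernel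

theorem r3_1_1 : relPair 3 gM3 sqL3 cmL3 1 1 = true := by decide +kernel

theorem r3_1_2 : relPair 3 gM3 sqL3 cmL3 1 2 = true := by decide +kernel

theorem r3_1_3 : relPair 3 gM3 sqL3 cmL3 1 3 = true := by decide +kernel

theorem r3_1_4 : relPair 3 gM3 sqL3 cmL3 1 4 = true := by decide +kernel

theorem r3_1_5 : relPair 3 gM3 sqL3 cmL3 1 5 = true := by decide +kernel

theorem r3_1_6 : relPair 3 gM3 sqL3 cmL3 1 6 = true := by decide +kernel

theorem r3_1_7 : relPair 3 gM3 sqL3 cmL3 1 7 = true := by decide +kernel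

theorem r3_1_8 : relPair 3 gM3 sqL3 cmL3 1 8 = true := by decide +kernel

theorem r3_2_2 : relPair 3 gM3 sqL3 cmL3 2 2 = true := by decide +kernel

theorem r3_2_3 : relPair 3 gM3 sqL3 cmL3 2 3 = true := by decide +kernel

theorem r3_2_4 : relPair 3 gM3 sqL3 cmL3 2 4 = true := by decide +kernel

theorem r3_2_5 : relPair 3 gM3 sqL3 cmL3 2 5 = true := by decide +kernel

theorem r3_2_6 : relPair 3 gM3 sqL3 cmL3 2 6 = true := by decide +kernel

theorem r3_2_7 : relPair 3 gM3 sqL3 cmL3 2 7 = true := by decide +kernel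

theorem r3_2_8 : relPair 3 gM3 sqL3 cmL3 2 8 = true := by decide +kernel

theorem r3_3_3 : relPair 3 gM3 sqL3 cmL3 3 3 = true := by decide +kernel

theorem r3_3_4 : relPair 3 gM3 sqL3 cmL3 3 4 = true := by decide +kernel

end Cfsg.Agent.Lib.Helper26.C1M
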