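import Cfsg.Agent.Lib.Helper26.C1M.C1m5g0
import Cfsg.Agent.Lib.Helper26.C1M.C1m5g1
import Cfsg.Agent.Lib.Helper26.C1M.C1m5g2
import Cfsg.Agent.Lib.Helper26.C1M.C1m5g3
import Cfsg.Agent.Lib.Helper26.C1M.C1m5h0
import Cfsg.Agent.Lib.Helper26.C1M.C1m5h1
import Cfsg.Agent.Lib.Helper26.C1M.P5Data

set_option autoImplicit false

/-!
# Project C1M: the lists of matrix elements for the prime 5 (generated)
-/

namespace Cfsg.Agent.Lib.Helper26.C1M

open Cfsg Cfsg.Agent.Lib.Helper26.Co1O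

/-- the matrices of the polycyclic generators -/
def gM5 : List (List (List ℤ)) := [c1m5g0Z, c1m5g1Z, c1m5g2Z, c1m5g3Z]

/-- the polycyclic generators -/
def gE5 : List ↥Co0 := [c1m5g0E, c1m5g1E, c1m5g2E, c1m5g3E]

/-- the matrices of the conjugating elements -/
def hM5 : List (List (List ℤ)) := [c1m5h0Z, c1m5h1Z]

/-- the conjugating elements -/
def hE5 : List ↥Co0 := [c1m5h0E, c1m5h1E]

theorem gRep5 : RepL gM5 gE5 :=
  (List.Forall₂.cons c1m5g0_rep (List.Forall₂.cons c1m5g1_rep (List.Forall₂.cons c1m5g2_rep (List.Forall₂.cons c1m5g3_rep List.Forall₂.nil))))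

theorem hRep5 : RepL hM5 hE5 :=
  (List.Forall₂.cons c1m5h0_rep (List.Forall₂.cons c1m5h1_rep List.Forall₂.nil))

end Cfsg.Agent.Lib.Helper26.C1M
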