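import Cfsg.Agent.Lib.Helper26.C1M.Front2
import Cfsg.Agent.Lib.Helper26.C1M.P5List

set_option autoImplicit false
set_option maxRecDepth 1000000

/-!
# Project C1M: checks with matrices for the prime 5, part 0 (generated)
-/

namespace Cfsg.Agent.Lib.Helper26.C1M

open Cfsg Cfsg.Agent.Lib.Helper26.Co1O Cfsg.Agent.Lib.Helper5.PcT Cfsg.Agent.Lib.Helper5.PcP

theorem r5_0_0 : relPair 5 gM5 sqL5 cmL5 0 0 = true := by decide +kernel

theorem r5_0_1 : relPair 5 gM5 sqL5 cmL5 0 1 = true := by decide +kernel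

theorem r5_0_2 : relPair 5 gM5 sqL5 cmL5 0 2 = true := by decide +kernel

theorem r5_0_3 : relPair 5 gM5 sqL5 cmL5 0 3 = true := by decide +kernel

theorem r5_1_1 : relPair 5 gM5 sqL5 cmL5 1 1 = true := by decide +kernel

theorem r5_1_2 : relPair 5 gM5 sqL5 cmL5 1 2 = true := by decide +kernel

theorem r5_1_3 : relPair 5 gM5 sqL5 cmL5 1 3 = true := by decide +kernel

theorem r5_2_2 : relPair 5 gM5 sqL5 cmL5 2 2 = true := by decide +kernel

theorem r5_2_3 : relPair 5 gM5 sqL5 cmL5 2 3 = true := by decide +kernel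

theorem r5_3_3 : relPair 5 gM5 sqL5 cmL5 3 3 = true := by decide +kernel

theorem pwc5_0_0 : pwOneC 5 gM5 hM5 pwE5_0 0 = true := by decide +kernel

theorem pwc5_0_1 : pwOneC 5 gM5 hM5 pwE5_0 1 = true := by decide +kernel

theorem pwc5_1_0 : pwOneC 5 gM5 hM5 pwE5_1 0 = true := by decide +kernel

theorem pwc5_1_1 : pwOneC 5 gM5 hM5 pwE5_1 1 = true := by decide +kernel

theorem cmc5_0_0 : cmOneC gM5 hM5 cmE5_0 0 = true := by decide +kernel

theorem cmc5_0_1 : cmOneC gM5 hM5 cmE5_0 1 = true := by decide +kernel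

theorem cmc5_0_2 : cmOneC gM5 hM5 cmE5_0 2 = true := by decide +kernel

theorem cmc5_1_0 : cmOneC gM5 hM5 cmE5_1 0 = true := by decide +kernel

theorem cmc5_1_1 : cmOneC gM5 hM5 cmE5_1 1 = true := by decide +kernel

theorem cmc5_1_2 : cmOneC gM5 hM5 cmE5_1 2 = true := by decide +kernel

theorem lvb5_0 : baseOK lvB5_0 = true := by decide +kernel

theorem lvf5_0 : fixChk gM5 [] lvW5_0 = true := by decide +kernel

theorem lvi5_0 : imgsOf gM5 lvB5_0 lvW5_0 = lvI5_0 := by decide +kernel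

theorem lvn5_0 : lvI5_0.Nodup := by decide +kernel

theorem lvb5_1 : baseOK lvB5_1 = true := by decide +kernel

theorem lvf5_1 : fixChk gM5 [lvB5_0] lvW5_1 = true := by decide +kernel

theorem lvi5_1 : imgsOf gM5 lvB5_1 lvW5_1 = lvI5_1 := by decide +kernel

theorem lvn5_1 : lvI5_1.Nodup := by decide +kernel

theorem lvb5_2 : baseOK lvB5_2 = true := by decide +kernel

theorem lvf5_2 : fixChk gM5 [lvB5_1, lvB5_0] lvW5_2 = true := by decide +kernel

theorem lvi5_2 : imgsOf gM5 lvB5_2 lvW5_2 = lvI5_2 := by decide +kernel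

theorem lvn5_2 : lvI5_2.Nodup := by decide +kernel

end Cfsg.Agent.Lib.Helper26.C1M
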