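
import Cfsg.Agent.Lib.Helper26.C1M.NoStem
import Cfsg.Agent.Lib.Helper26.C1M.P7List

set_option autoImplicit false
set_option maxRecDepth 1000000

/-!
# Project C1M: checks of the certificate for the prime 7 (generated)
-/

namespace Cfsg.Agent.Lib.Helper26.C1M

open Cfsg Cfsg.Agent.Lib.Helper26.Co1O Cfsg.Agent.Lib.Helper5.PcT Cfsg.Agent.Lib.Helper5.PcP

theorem data7_ok : dataOK 2 sqL7 cmL7 = true := by decide +kernel

theorem cert7_ok : certOKP 7 (PcD.ofLists 2 sqL7 cmL7) CC7
    (zformsP 7 (PcD.ofLists 2 sqL7 cmL7) 400 conL7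
      (mkRel 7 (pwL7.map Prod.fst) [] (cmEL7.map Prod.fst) [])) certs7 = true := by decide +kernel

theorem pw7_ok : pwChkZ 7 gM7 hM7 pwL7 = true := by decide +kernel

theorem cm7_ok : cmChkZ gM7 hM7 cmEL7 = true := by decide +kernel

theorem levels7_ok : chainChkZ gM7 [] levels7 = true := by decide +kernel

theorem levels7_prod : chainProdZ levels7 = 7 ^ 2 := by decide +kernel

end Cfsg.Agent.Lib.Helper26.C1M
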